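import Groth.Agent.QuadGrp.K918.LocalEven

/-!
# The Dickson condition over a local ring, even rank

* `mem_SOeven_of_even` / `not_mem_SOeven_of_odd`: for a homogeneous unit `u ∈ K g`, `g` satisfies the Dickson
  condition iff `u` is even;
* `exists_GPin'_conj`: every isometry is conjugation by an element of the naive Clifford group;
* `exists_of_mem_center_even`: the centre of the even subalgebra is `R + R t`.
-/

set_option autoImplicit false
universe u v

namespace K918.Cliff

open CliffordAlgebra QuadGrp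

variable {R : Type u} [CommRing R] {M : Type v} [AddCommGroup M] [Module R M] {Q : QuadraticForm R M}

section General

lemma mem_center_even_iff (z : CliffordAlgebra.even Q) :
    z ∈ Subalgebra.center R (CliffordAlgebra.even Q) ↔
      ∀ y ∈ evenOdd Q 0, y * (z : CliffordAlgebra Q) = z * y := by
  rw [Subalgebra.mem_center_iff]
  constructor
  · intro h y hy
    exact congrArg Subtype.val (h ⟨y, hy⟩)
  · intro h y
    exact Subtype.ext (h y.1 y.2)

/-- `map g` intertwines, even case -/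
lemma map_mul_even (g : M ≃ₗ[R] M) (hg : g ∈ O Q) {u : CliffordAlgebra Q}
    (hu : u ∈ K Q g.toLinearMap) (h0 : u ∈ evenOdd Q 0) (y : CliffordAlgebra Q) :
    CliffordAlgebra.map (isometryOfMem Q g hg) y * u = u * y := by
  induction y using CliffordAlgebra.induction with
  | algebraMap r => rw [AlgHom.commutes, Algebra.commutes]
  | ι v =>
    rw [map_apply_ι]
    have := mem_K.1 hu v
    rwa [involute_eq_of_mem_even h0] at this
  | mul a c ha hc => rw [map_mul, mul_assoc, hc, ← mul_assoc, ha, mul_assoc]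
  | add a c ha hc => rw [map_add, add_mul, mul_add, ha, hc]

/-- `map g` intertwines, odd case -/
lemma map_mul_odd (g : M ≃ₗ[R] M) (hg : g ∈ O Q) {u : CliffordAlgebra Q}
    (hu : u ∈ K Q g.toLinearMap) (h1 : u ∈ evenOdd Q 1) (y : CliffordAlgebra Q) :
    CliffordAlgebra.map (isometryOfMem Q g hg) y * u = u * involute y := by
  induction y using CliffordAlgebra.induction with
  | algebraMap r => rw [AlgHom.commutes, AlgHom.commutes, Algebra.commutes]
  | ι v =>
    rw [map_apply_ι, involute_ι, mul_neg, ← neg_mul]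
    have := mem_K.1 hu v
    rwa [involute_eq_of_mem_odd h1] at this
  | mul a c ha hc => rw [map_mul, map_mul, mul_assoc, hc, ← mul_assoc, ha, mul_assoc]
  | add a c ha hc => rw [map_add, map_add, add_mul, mul_add, ha, hc]

/-- an isometry with an even unit in `K g` satisfies the Dickson condition (any ring) -/
theorem mem_SOeven_of_even (g : M ≃ₗ[R] M) (hg : g ∈ O Q) (u : (CliffordAlgebra Q)ˣ)
    (hu : (u : CliffordAlgebra Q) ∈ K Q g.toLinearMap) (h0 : (u : CliffordAlgebra Q) ∈ evenOdd Q 0) :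
    g ∈ SOeven Q := by
  refine ⟨hg, fun z hz => ?_⟩
  have h1 := map_mul_even g hg hu h0 z
  rw [(mem_center_even_iff z).1 hz _ h0] at h1
  exact u.isUnit.mul_right_cancel h1

section T

variable {t : CliffordAlgebra Q} {p : R} (ht : ∀ v, ι Q v * t + t * ι Q v = p • ι Q v)

include ht

lemma even_comm_t (y : CliffordAlgebra Q) (hy : y ∈ evenOdd Q 0) : y * t = t * y := by
  have h1 : ∀ v, ι Q v * t = p • ι Q v - t * ι Q v := fun v => eq_sub_of_add_eq (ht v)
  induction y, hy using CliffordAlgebra.even_induction with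
  | algebraMap r => rw [Algebra.commutes]
  | add y y' hy hy' h h' => rw [add_mul, mul_add, h, h']
  | ι_mul_ι_mul m₁ m₂ y hy h =>
    have h2 : ι Q m₁ * ι Q m₂ * t = t * (ι Q m₁ * ι Q m₂) := by
      rw [mul_assoc, h1, mul_sub, mul_smul_comm, ← mul_assoc (ι Q m₁), h1, sub_mul, smul_mul_assoc,
        sub_sub_cancel, mul_assoc]
    rw [mul_assoc, h, ← mul_assoc, h2, mul_assoc]

lemma odd_t (y : CliffordAlgebra Q) (hy : y ∈ evenOdd Q 1) : y * t = (algebraMap R _ p - t) * y := by
  have h1 : ∀ v, ι Q v * t = (algebraMap R _ p - t) * ι Q v := fun v => by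
    rw [sub_mul, ← Algebra.smul_def]
    exact eq_sub_of_add_eq (ht v)
  have h2 : ∀ v, ι Q v * (algebraMap R _ p - t) = t * ι Q v := fun v => by
    rw [mul_sub, ← Algebra.commutes, ← Algebra.smul_def, ← ht v, add_sub_cancel_left]
  induction y, hy using CliffordAlgebra.odd_induction with
  | ι v => exact h1 v
  | add y y' hy hy' h h' => rw [add_mul, mul_add, h, h']
  | ι_mul_ι_mul m₁ m₂ y hy h =>
    rw [mul_assoc, h, ← mul_assoc, mul_assoc (ι Q m₁), h2, ← mul_assoc (ι Q m₁), h1]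
    simp only [mul_assoc]

/-- an isometry with an odd unit in `K g` does not satisfy the Dickson condition -/
theorem not_mem_SOeven_of_odd [Nontrivial R] [Module.Free R M] (ht0 : t ∈ evenOdd Q 0)
    (hw : IsUnit (algebraMap R _ p - (2 : R) • t)) (g : M ≃ₗ[R] M) (u : (CliffordAlgebra Q)ˣ)
    (hu : (u : CliffordAlgebra Q) ∈ K Q g.toLinearMap) (h1 : (u : CliffordAlgebra Q) ∈ evenOdd Q 1) :
    g ∉ SOeven Q := by
  rintro ⟨hg, hD⟩
  have hz : (⟨t, ht0⟩ : CliffordAlgebra.even Q) ∈ Subalgebra.center R (CliffordAlgebra.even Q) := by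
    rw [mem_center_even_iff]
    exact fun y hy => even_comm_t ht y hy
  have h2 := map_mul_odd g hg hu h1 t
  have h3 : CliffordAlgebra.map (isometryOfMem Q g hg) t = t := hD ⟨t, ht0⟩ hz
  rw [h3, involute_eq_of_mem_even ht0, odd_t ht _ h1] at h2
  have h4 := u.isUnit.mul_right_cancel h2
  have h5 : algebraMap R (CliffordAlgebra Q) p - (2 : R) • t = 0 := by
    rw [two_smul, ← sub_sub, ← h4, sub_self]
  rw [h5] at hw
  have h6 : (1 : R) = 0 := by
    apply algebraMap_inj (Q := Q)
    rw [map_one, map_zero]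
    have := isUnit_zero_iff.1 hw
    exact this.symm
  exact one_ne_zero h6

end T

end General

section Local

variable [IsLocalRing R] {n : ℕ} (b : Module.Basis (Fin n) R M)
  (hQ : Function.Bijective (QuadraticMap.polarBilin Q)) (hn : Even n)

include b hQ hn

/-- over a local ring, even rank: the parity of a unit in `K g` decides the Dickson condition -/
theorem exists_unit_parity (g : M ≃ₗ[R] M) (hg : g ∈ O Q) :
    ∃ u : (CliffordAlgebra Q)ˣ, (u : CliffordAlgebra Q) ∈ K Q g.toLinearMap ∧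
      (((u : CliffordAlgebra Q) ∈ evenOdd Q 0 ∧ g ∈ SOeven Q) ∨
        ((u : CliffordAlgebra Q) ∈ evenOdd Q 1 ∧ g ∉ SOeven Q)) := by
  have : Module.Free R M := Module.Free.of_basis b
  obtain ⟨t, ht0, p, ht, hw⟩ := exists_t b hQ hn
  obtain ⟨u, hu, h | h⟩ := exists_homog_unit_mem_K b hQ g hg
  · exact ⟨u, hu, Or.inl ⟨h, mem_SOeven_of_even g hg u hu h⟩⟩
  · exact ⟨u, hu, Or.inr ⟨h, not_mem_SOeven_of_odd ht ht0 hw g u hu h⟩⟩

/-- Over a local ring, even rank: a Dickson-trivial isometry comes from `GSpin`. -/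
theorem exists_GSpin_conj (g : M ≃ₗ[R] M) (hg : g ∈ SOeven Q) :
    ∃ u ∈ GSpin Q, ∀ v : M, (u : CliffordAlgebra Q) * ι Q v * ↑u⁻¹ = ι Q (g v) := by
  obtain ⟨u, hu, ⟨h, _⟩ | ⟨_, h⟩⟩ := exists_unit_parity b hQ hn g hg.1
  · have h1 : ∀ v, (u : CliffordAlgebra Q) * ι Q v = ι Q (g v) * u := fun v => by
      have := mem_K.1 hu v
      rw [involute_eq_of_mem_even h] at this
      exact this.symm
    refine ⟨u, ⟨⟨?_, ?_⟩, h⟩, fun v => ?_⟩
    · apply (mem_GPin'_iff u).2
      refine ⟨fun v => ⟨g v, h1 v⟩, fun w => ⟨g.symm w, ?_⟩⟩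
      rw [h1, LinearEquiv.apply_symm_apply]
    · refine ⟨1, IsIdempotentElem.one, ?_, ?_⟩
      · rw [one_smul]; exact h
      · rw [sub_self, zero_smul]; exact Submodule.zero_mem _
    · rw [h1, mul_assoc, Units.mul_inv, mul_one]
  · exact absurd hg h

/-- Over a local ring, even rank: every isometry is conjugation by an element of the naive Clifford group. -/
theorem exists_GPin'_conj (g : M ≃ₗ[R] M) (hg : g ∈ O Q) :
    ∃ u ∈ GPin' Q, ∀ v : M, (u : CliffordAlgebra Q) * ι Q v * ↑u⁻¹ = ι Q (g v) := by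
  obtain ⟨u, hu, ⟨h, h'⟩ | ⟨h, _⟩⟩ := exists_unit_parity b hQ hn g hg
  · obtain ⟨u, hu, h⟩ := exists_GSpin_conj b hQ hn g h'
    exact ⟨u, hu.1.1, h⟩
  · obtain ⟨t, ht0, p, ht, hw⟩ := exists_t b hQ hn
    obtain ⟨w, hw'⟩ := hw
    have hwv : ∀ v, (w : CliffordAlgebra Q) * ι Q v = - (ι Q v * w) := fun v => by
      rw [hw', mul_sub, sub_mul, ← Algebra.commutes, ← Algebra.smul_def, ← ht v, smul_mul_assoc,
        mul_smul_comm, two_smul, two_smul]
      abel
    have h1 : ∀ v, ((u * w : (CliffordAlgebra Q)ˣ) : CliffordAlgebra Q) * ι Q v = ι Q (g v) * (u * w : (CliffordAlgebra Q)ˣ) := fun v => by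
      have h2 := mem_K.1 hu v
      rw [involute_eq_of_mem_odd h] at h2
      rw [Units.val_mul, mul_assoc, hwv, mul_neg, ← neg_mul, ← mul_assoc, ← h2, mul_assoc]
      rfl
    refine ⟨u * w, ?_, fun v => ?_⟩
    · rw [mem_GPin'_iff]
      refine ⟨fun v => ⟨g v, h1 v⟩, fun w => ⟨g.symm w, ?_⟩⟩
      rw [h1, LinearEquiv.apply_symm_apply]
    · rw [h1, mul_assoc, Units.mul_inv, mul_one]

/-- Over a local ring, positive even rank: the Dickson-trivial isometries have index two. -/
theorem index_SOeven (hn0 : 0 < n) : ((SOeven Q).subgroupOf (O Q)).index = 2 := by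
  have : Module.Free R M := Module.Free.of_basis b
  obtain ⟨t, ht0, p, ht, hw⟩ := exists_t b hQ hn
  obtain ⟨v, hv⟩ := exists_isUnit_apply b hQ hn0
  obtain ⟨c, hc⟩ := hv.exists_left_inv
  have hr : reflection v c hc ∈ O Q := fun x => reflection_isometry v c hc x
  have hvu : IsUnit (ι Q v) := by
    refine ⟨⟨ι Q v, algebraMap R _ c * ι Q v, ?_, ?_⟩, rfl⟩
    · rw [Algebra.left_comm, ι_sq_scalar, ← map_mul, hc, map_one]
    · rw [mul_assoc, ι_sq_scalar, ← map_mul, hc, map_one]
  obtain ⟨r, hr'⟩ := hvu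
  rw [Subgroup.index_eq_two_iff]
  refine ⟨⟨reflection v c hc, hr⟩, fun g => ?_⟩
  simp only [Subgroup.mem_subgroupOf]
  obtain ⟨u, hu, ⟨h, h'⟩ | ⟨h, h'⟩⟩ := exists_unit_parity b hQ hn g.1 g.2
  · right
    refine ⟨h', ?_⟩
    apply not_mem_SOeven_of_odd ht ht0 hw _ (u * r)
    · have := K_mul hu (ι_mem_K_reflection v c hc)
      rw [← hr'] at this
      exact this
    · rw [Units.val_mul, hr']
      exact mul01 h (ι_mem_evenOdd_one Q v)
  · left
    refine ⟨?_, h'⟩
    apply mem_SOeven_of_even _ ((O Q).mul_mem g.2 hr) (u * r)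
    · have := K_mul hu (ι_mem_K_reflection v c hc)
      rw [← hr'] at this
      exact this
    · rw [Units.val_mul, hr']
      exact mul11 h (ι_mem_evenOdd_one Q v)

/-- Over a local ring, positive even rank: the centre of the even subalgebra is `R + R t`. -/
theorem exists_of_mem_center_even (hn0 : 0 < n) {t : CliffordAlgebra Q} {p : R} (ht0 : t ∈ evenOdd Q 0)
    (ht : ∀ v, ι Q v * t + t * ι Q v = p • ι Q v) (hw : IsUnit (algebraMap R _ p - (2 : R) • t))
    {z : CliffordAlgebra Q} (hz0 : z ∈ evenOdd Q 0) (hz : ∀ y ∈ evenOdd Q 0, y * z = z * y) :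
    ∃ r s : R, z = algebraMap R _ r + s • t := by
  obtain ⟨v, hv⟩ := exists_isUnit_apply b hQ hn0
  obtain ⟨c, hc⟩ := hv.exists_left_inv
  have hvc : ι Q v * (c • ι Q v) = 1 := by
    rw [mul_smul_comm, ι_sq_scalar, Algebra.smul_def, ← map_mul, hc, map_one]
  have hcv : (c • ι Q v) * ι Q v = 1 := by
    rw [smul_mul_assoc, ι_sq_scalar, Algebra.smul_def, ← map_mul, hc, map_one]
  -- σ z
  set z' := ι Q v * z * (c • ι Q v) with hz'
  have h1 : ∀ x, ι Q x * z = z' * ι Q x := fun x => by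
    have h2 : (c • ι Q v) * ι Q x ∈ evenOdd Q 0 := by
      rw [smul_mul_assoc]
      exact Submodule.smul_mem _ _ (mul11 (ι_mem_evenOdd_one Q v) (ι_mem_evenOdd_one Q x))
    rw [hz', mul_assoc, mul_assoc, ← hz _ h2, ← mul_assoc, ← mul_assoc, hvc, one_mul]
  have h2 : ∀ x, ι Q x * z' = z * ι Q x := fun x => by
    have h3 : ι Q x * ι Q v ∈ evenOdd Q 0 := mul11 (ι_mem_evenOdd_one Q x) (ι_mem_evenOdd_one Q v)
    rw [hz', ← mul_assoc, ← mul_assoc, hz _ h3, mul_assoc, mul_assoc, hvc, mul_one]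
  obtain ⟨w, hw'⟩ := hw
  have hwv : ∀ x, ι Q x * (w : CliffordAlgebra Q) = - (w * ι Q x) := fun x => by
    rw [hw', mul_sub, sub_mul, ← Algebra.commutes, ← Algebra.smul_def, ← ht x, smul_mul_assoc,
      mul_smul_comm, two_smul, two_smul]
    abel
  have hwv' : ∀ x, ι Q x * (↑w⁻¹ : CliffordAlgebra Q) = - (↑w⁻¹ * ι Q x) := fun x => by
    have h4 := congrArg (fun y => (↑w⁻¹ : CliffordAlgebra Q) * y * ↑w⁻¹) (hwv x)
    simp only [mul_neg, neg_mul] at h4
    rw [← mul_assoc, mul_assoc _ (w : CliffordAlgebra Q), Units.mul_inv, mul_one, ← mul_assoc,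
      Units.inv_mul, one_mul] at h4
    rw [h4, neg_neg]
  -- `z - σ z = s w`
  obtain ⟨s, hs⟩ := exists_of_central_even_rank b hQ hn (x := (↑w⁻¹ : CliffordAlgebra Q) * (z - z'))
    (fun x => by
      rw [← mul_assoc, hwv', neg_mul, mul_assoc, mul_sub, h1, h2, mul_assoc (↑w⁻¹ : CliffordAlgebra Q) (z - z'),
        sub_mul, ← mul_neg, neg_sub])
  have hs' : z - z' = s • (w : CliffordAlgebra Q) := by
    rw [Algebra.smul_def, Algebra.commutes, ← hs, ← mul_assoc, Units.mul_inv, one_mul]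
  obtain ⟨r, hr⟩ := exists_of_central_even_rank b hQ hn (x := z + s • t) (fun x => by
    have h3 : z' = z - s • (w : CliffordAlgebra Q) := by rw [← hs', sub_sub_cancel]
    have h4 : ι Q x * t = p • ι Q x - t * ι Q x := eq_sub_of_add_eq (ht x)
    rw [mul_add, add_mul, h1, h3, hw', mul_smul_comm, h4, sub_mul, smul_mul_assoc, smul_mul_assoc,
      sub_mul, ← Algebra.smul_def, smul_mul_assoc, two_smul]
    module)
  exact ⟨r, -s, by rw [← hr]; module⟩

end Local

end K918.Cliff
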