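import Groth.Agent.QuadGrp.K918.Center
import Mathlib.RingTheory.LocalRing.MaximalIdeal.Basic

/-!
# Regular quadratic forms over a local ring

* `exists_homog_unit_mem_K`: every isometry `g` is `g v = ε(u) v u⁻¹` for a homogeneous unit `u` (any rank);
* `exists_t`: in even rank there are an even `t` and `p : R` with `v t + t v = p v` for all `v ∈ M` and `p - 2 t` a unit;
* `reflection`, `ι_mem_K_reflection`.
-/

set_option autoImplicit false
universe u v

namespace K918.Cliff

open CliffordAlgebra QuadGrp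

variable {R : Type u} [CommRing R] {M : Type v} [AddCommGroup M] [Module R M] {Q : QuadraticForm R M}

section UnitCriterion

variable {n : ℕ} (b : Module.Basis (Fin n) R M) (hQ : Function.Bijective (QuadraticMap.polarBilin Q))

include b hQ

/-- an element of `K g` whose norm is a unit is a unit -/
theorem isUnit_of_norm {g : M ≃ₗ[R] M} {x : CliffordAlgebra Q} (hx : x ∈ K Q g.toLinearMap) {r : R}
    (hr : star x * x = algebraMap R _ r) (hu : IsUnit r) : IsUnit x := by
  obtain ⟨r', hr'⟩ := mul_mem_K_id' b hQ (star_mem_K hx) hx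
  obtain ⟨c, hc⟩ := hu.exists_left_inv
  have h1 : algebraMap R _ c * star x * x = 1 := by
    rw [mul_assoc, hr, ← map_mul, hc, map_one]
  have h2 : algebraMap R _ r' * x = algebraMap R _ r * x := by
    rw [← hr', mul_assoc, hr, ← Algebra.commutes]
  have h3 : algebraMap R _ r' = algebraMap R (CliffordAlgebra Q) r := by
    have h4 := congrArg (fun z => algebraMap R _ c * star x * z) h2
    simp only [Algebra.left_comm] at h4
    rw [h1, mul_one, mul_one] at h4
    exact h4
  refine ⟨⟨x, algebraMap R _ c * star x, ?_, h1⟩, rfl⟩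
  rw [← mul_assoc, ← Algebra.commutes, mul_assoc, hr', h3, ← map_mul, hc, map_one]

end UnitCriterion

section ModJ

variable (J : Submodule R (CliffordAlgebra Q)) (hJl : ∀ a, ∀ y ∈ J, a * y ∈ J)
  (hJr : ∀ a, ∀ y ∈ J, y * a ∈ J) (hJe : ∀ y ∈ J, involute y ∈ J)

include hJl hJr hJe

lemma D_mem_J (g : M →ₗ[R] M) (v : M) (y : CliffordAlgebra Q) (hy : y ∈ J) : D Q g v y ∈ J := by
  rw [D_apply]
  exact J.sub_mem (hJl _ _ hy) (hJr _ _ (hJe y hy))

lemma ap_mem_J (g : M →ₗ[R] M) (L : List M) (y : CliffordAlgebra Q) (hy : y ∈ J) :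
    ap (D Q g) L y ∈ J := by
  induction L generalizing y with
  | nil => exact hy
  | cons v L ih => exact ih _ (D_mem_J J hJl hJr hJe g v y hy)

lemma exists_D_mem_J (h1J : (1 : CliffordAlgebra Q) ∉ J) (g : M →ₗ[R] M) (hg : ∀ v, Q (g v) = Q v)
    (L : List M) : ∃ y ∉ J, ∀ v ∈ L, D Q g v y ∈ J := by
  induction L with
  | nil => exact ⟨1, h1J, by simp⟩
  | cons v L ih =>
    obtain ⟨y, hy, h⟩ := ih
    by_cases hv : D Q g v y ∈ J
    · refine ⟨y, hy, fun w hw => ?_⟩
      rcases List.mem_cons.1 hw with rfl | hw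
      · exact hv
      · exact h w hw
    · refine ⟨D Q g v y, hv, fun w hw => ?_⟩
      rcases List.mem_cons.1 hw with rfl | hw
      · rw [D_D g hg]; exact J.zero_mem
      · rw [D_anti g hg]
        exact J.neg_mem (D_mem_J J hJl hJr hJe g v _ (h w hw))

omit hJr hJe hJl in
lemma D_mem_J_of_span (g : M →ₗ[R] M) (L : List M) (hL : Submodule.span R {v | v ∈ L} = ⊤)
    (y : CliffordAlgebra Q) (h : ∀ v ∈ L, D Q g v y ∈ J) (v : M) : D Q g v y ∈ J := by
  have hv : v ∈ Submodule.span R {v | v ∈ L} := by rw [hL]; trivial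
  induction hv using Submodule.span_induction with
  | mem v hv => exact h v hv
  | zero => rw [D_apply, map_zero, map_zero, zero_mul, mul_zero, sub_zero]; exact J.zero_mem
  | add v w _ _ hv hw => rw [D_add, LinearMap.add_apply]; exact J.add_mem hv hw
  | smul r v _ hv => rw [D_smul, LinearMap.smul_apply]; exact J.smul_mem r hv

lemma ap_mul_right_mem {g h : M →ₗ[R] M} (hgh : g ∘ₗ h = LinearMap.id) {y : CliffordAlgebra Q}
    (hy : ∀ w, D Q h w y ∈ J) (L : List M) (a : CliffordAlgebra Q) :
    ap (D Q LinearMap.id) L (a * y) - ap (D Q g) (L.map h) a * y ∈ J := by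
  induction L generalizing a with
  | nil => rw [List.map_nil, ap_nil, ap_nil, sub_self]; exact J.zero_mem
  | cons v L ih =>
    rw [ap_cons, List.map_cons, ap_cons]
    have h1 : D Q LinearMap.id v (a * y) = D Q g (h v) a * y + involute a * D Q h v y := by
      rw [← hgh, D_apply, D_apply, D_apply, LinearMap.comp_apply, map_mul]
      noncomm_ring
    rw [h1, map_add, add_sub_right_comm]
    exact J.add_mem (ih _) (ap_mem_J J hJl hJr hJe _ L _ (hJl _ _ (hy v)))

end ModJ

section Local

variable [IsLocalRing R] {n : ℕ} (b : Module.Basis (Fin n) R M)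
  (hQ : Function.Bijective (QuadraticMap.polarBilin Q))

/-- Over a local ring: some `P_g a` is a unit. -/
theorem exists_isUnit_ap (g : M ≃ₗ[R] M) (hg : ∀ v, Q (g v) = Q v) :
    ∃ a, IsUnit (ap (D Q g.toLinearMap) ((dl b hQ).map g.symm) a) := by
  have : Module.Free R M := Module.Free.of_basis b
  obtain ⟨π, hπ⟩ := exists_retr Q
  let J : Submodule R (CliffordAlgebra Q) := IsLocalRing.maximalIdeal R • ⊤
  have hJ : ∀ f : CliffordAlgebra Q →ₗ[R] CliffordAlgebra Q, ∀ y ∈ J, f y ∈ J := by
    intro f y hy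
    have h : J.map f ≤ J := by
      change Submodule.map f (IsLocalRing.maximalIdeal R • ⊤) ≤ _
      rw [Submodule.map_smul'']
      exact Submodule.smul_mono le_rfl le_top
    exact h ⟨y, hy, rfl⟩
  have hJl : ∀ a, ∀ y ∈ J, a * y ∈ J := fun a => hJ (LinearMap.mulLeft R a)
  have hJr : ∀ a, ∀ y ∈ J, y * a ∈ J := fun a => hJ (LinearMap.mulRight R a)
  have hJe : ∀ y ∈ J, involute y ∈ J := hJ (involute (Q := Q)).toLinearMap
  have hJs : ∀ y ∈ J, star y ∈ J := fun y hy => by
    rw [star_def]; exact hJ reverse _ (hJe y hy)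
  have hJπ : ∀ y ∈ J, π y ∈ IsLocalRing.maximalIdeal R := by
    intro y hy
    have h : J.map π ≤ IsLocalRing.maximalIdeal R • ⊤ := by
      change Submodule.map π (IsLocalRing.maximalIdeal R • ⊤) ≤ _
      rw [Submodule.map_smul'']
      exact Submodule.smul_mono le_rfl le_top
    have h2 := h ⟨y, hy, rfl⟩
    rw [smul_eq_mul, Ideal.mul_top] at h2
    exact h2
  have hunit : ∀ r : R, algebraMap R _ r ∉ J → IsUnit r := fun r hr => by
    by_contra hc
    apply hr
    rw [Algebra.algebraMap_eq_smul_one]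
    exact Submodule.smul_mem_smul ((IsLocalRing.mem_maximalIdeal r).2 hc) trivial
  have h1J : (1 : CliffordAlgebra Q) ∉ J := fun h => by
    have h2 := hJπ _ h
    rw [← map_one (algebraMap R (CliffordAlgebra Q)), hπ] at h2
    exact (IsLocalRing.maximalIdeal.isMaximal R).ne_top ((Ideal.eq_top_iff_one _).2 h2)
  have hgs : ∀ v, Q (g.symm v) = Q v := fun v => by
    rw [← hg (g.symm v), LinearEquiv.apply_symm_apply]
  obtain ⟨y, hy, h⟩ := exists_D_mem_J J hJl hJr hJe h1J g.symm.toLinearMap hgs (dl b hQ)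
  have hy' := D_mem_J_of_span J g.symm.toLinearMap _ (span_dl b hQ) y h
  obtain ⟨a, ha⟩ : ∃ a, T b hQ (a * y) ∉ J := by
    by_contra hc
    push Not at hc
    exact hy (mem_of_T_mul_mem (b := b) (hQ := hQ) J hJl hJr hJe y hc)
  refine ⟨a, ?_⟩
  have h2 := ap_mul_right_mem J hJl hJr hJe (g := g.toLinearMap) (h := g.symm.toLinearMap)
    (by ext; simp) hy' (dl b hQ) a
  set x := ap (D Q g.toLinearMap) ((dl b hQ).map g.symm) a with hxdef
  change T b hQ (a * y) - x * y ∈ J at h2
  have hx : x ∈ K Q g.toLinearMap := by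
    apply ap_mem_K _ hg
    have e : {v | v ∈ (dl b hQ).map g.symm} = g.symm '' {v | v ∈ dl b hQ} := by
      ext v; simp
    rw [e, ← LinearEquiv.coe_coe, Submodule.span_image, span_dl, Submodule.map_top, LinearEquiv.range]
  obtain ⟨r, hr⟩ := exists_T (b := b) (hQ := hQ) (a * y)
  have hru : IsUnit r := hunit r (by rw [← hr]; exact ha)
  obtain ⟨ν, hν⟩ := mul_mem_K_id b hQ (star_mem_K hx) hx
  apply isUnit_of_norm b hQ hx hν
  apply hunit
  intro hc
  -- contradiction
  rw [hr] at h2
  have h3 : star x * x * y ∈ J := hJr _ _ (by rw [hν]; exact hc)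
  have h4 : star x * algebraMap R _ r ∈ J := by
    have h5 := J.add_mem (hJl (star x) _ h2) h3
    rw [mul_sub, mul_assoc, sub_add_cancel] at h5
    exact h5
  obtain ⟨c, hc'⟩ := hru.exists_right_inv
  have h6 : star x ∈ J := by
    have h7 := hJr (algebraMap R _ c) _ h4
    rwa [mul_assoc, ← map_mul, hc', map_one, mul_one] at h7
  have h8 : x ∈ J := by
    have := hJs _ h6
    rwa [star_star] at this
  have h9 : algebraMap R (CliffordAlgebra Q) r ∈ J := by
    have := J.add_mem h2 (hJr y _ h8)
    rwa [sub_add_cancel] at this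
  have h10 := hJr (algebraMap R _ c) _ h9
  rw [← map_mul, hc', map_one] at h10
  exact h1J h10

include b hQ in
/-- Over a local ring every isometry is twisted conjugation by a homogeneous unit. -/
theorem exists_homog_unit_mem_K (g : M ≃ₗ[R] M) (hg : ∀ v, Q (g v) = Q v) :
    ∃ u : (CliffordAlgebra Q)ˣ, (u : CliffordAlgebra Q) ∈ K Q g.toLinearMap ∧
      ((u : CliffordAlgebra Q) ∈ evenOdd Q 0 ∨ (u : CliffordAlgebra Q) ∈ evenOdd Q 1) := by
  obtain ⟨a, ha⟩ := exists_isUnit_ap b hQ g hg
  have : Module.Free R M := Module.Free.of_basis b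
  set x := ap (D Q g.toLinearMap) ((dl b hQ).map g.symm) a with hxdef
  have hx : x ∈ K Q g.toLinearMap := by
    apply ap_mem_K _ hg
    have e : {v | v ∈ (dl b hQ).map g.symm} = g.symm '' {v | v ∈ dl b hQ} := by
      ext v; simp
    rw [e, ← LinearEquiv.coe_coe, Submodule.span_image, span_dl, Submodule.map_top, LinearEquiv.range]
  obtain ⟨x0, h0, x1, h1, hx01⟩ := exists_parts x
  rw [hx01] at hx ha
  obtain ⟨k0, k1⟩ := parts_mem_K h0 h1 hx
  obtain ⟨r0, h00⟩ := mul_mem_K_id b hQ (star_mem_K k0) k0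
  obtain ⟨r1, h11⟩ := mul_mem_K_id b hQ (star_mem_K k1) k1
  have k01 : star x0 * x1 = 0 := scalar_odd (mul_mem_K_id b hQ (star_mem_K k0) k1)
    (mul01 (star_mem_evenOdd h0) h1)
  have k10 : star x1 * x0 = 0 := scalar_odd (mul_mem_K_id b hQ (star_mem_K k1) k0)
    (mul10 (star_mem_evenOdd h1) h0)
  have hν : star (x0 + x1) * (x0 + x1) = algebraMap R _ (r0 + r1) := by
    rw [star_add, add_mul, mul_add, mul_add, h00, h11, k01, k10, map_add, add_zero, zero_add]
  have hunit : IsUnit (r0 + r1) := isUnit_of_isUnit_algebraMap (Q := Q) (by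
    rw [← hν]; exact ha.star.mul ha)
  rcases IsLocalRing.isUnit_or_isUnit_of_isUnit_add hunit with h | h
  · obtain ⟨u, hu⟩ := isUnit_of_norm b hQ k0 h00 h
    exact ⟨u, by rw [hu]; exact k0, Or.inl (by rw [hu]; exact h0)⟩
  · obtain ⟨u, hu⟩ := isUnit_of_norm b hQ k1 h11 h
    exact ⟨u, by rw [hu]; exact k1, Or.inr (by rw [hu]; exact h1)⟩

include b hQ in
/-- a regular form of positive rank over a local ring takes a unit value -/
theorem exists_isUnit_apply (hn : 0 < n) : ∃ v : M, IsUnit (Q v) := by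
  by_contra hc
  push Not at hc
  have h1 : ∀ v, Q v ∈ IsLocalRing.maximalIdeal R := fun v => (IsLocalRing.mem_maximalIdeal _).2 (hc v)
  have h2 : (1 : R) ∈ IsLocalRing.maximalIdeal R := by
    have h3 := LinearMap.congr_fun (polarBilin_db b hQ ⟨0, hn⟩) (b ⟨0, hn⟩)
    rw [Module.Basis.coord_apply, b.repr_self, Finsupp.single_eq_same,
      QuadraticMap.polarBilin_apply_apply, QuadraticMap.polar] at h3
    rw [← h3]
    exact Ideal.sub_mem _ (Ideal.sub_mem _ (h1 _) (h1 _)) (h1 _)
  exact (IsLocalRing.maximalIdeal.isMaximal R).ne_top ((Ideal.eq_top_iff_one _).2 h2)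

end Local

section Reflection

/-- the reflection in a vector with `Q v` a unit -/
noncomputable def reflection (v : M) (c : R) (hc : c * Q v = 1) : M ≃ₗ[R] M :=
  LinearEquiv.ofInvolutive (LinearMap.id - (QuadraticMap.polarBilin Q v).smulRight (c • v)) (fun x => by
    have h1 : QuadraticMap.polarBilin Q v v = 2 * Q v := by
      rw [QuadraticMap.polarBilin_apply_apply, QuadraticMap.polar_self, two_smul, two_mul]
    simp only [LinearMap.sub_apply, LinearMap.id_apply, LinearMap.smulRight_apply, map_sub, map_smul,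
      h1]
    have h2 : (2 * Q v) • c • v = (2 : R) • v := by
      rw [smul_smul, mul_assoc, mul_comm (Q v), hc, mul_one]
    rw [h2]
    module)

lemma reflection_apply (v : M) (c : R) (hc : c * Q v = 1) (x : M) :
    reflection v c hc x = x - QuadraticMap.polar Q v x • (c • v) := rfl

lemma reflection_isometry (v : M) (c : R) (hc : c * Q v = 1) (x : M) :
    Q (reflection v c hc x) = Q x := by
  rw [reflection_apply, sub_eq_add_neg, QuadraticMap.map_add Q, QuadraticMap.map_neg,
    QuadraticMap.map_smul, QuadraticMap.map_smul, QuadraticMap.polar_neg_right,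
    QuadraticMap.polar_smul_right, QuadraticMap.polar_smul_right, QuadraticMap.polar_comm Q x v]
  simp only [smul_eq_mul]
  have h : c * c * Q v = c := by rw [mul_assoc, hc, mul_one]
  rw [h]
  ring

lemma ι_mem_K_reflection (v : M) (c : R) (hc : c * Q v = 1) :
    ι Q v ∈ K Q (reflection v c hc).toLinearMap := by
  rw [mem_K]
  intro x
  have h1 : c • algebraMap R (CliffordAlgebra Q) (Q v) = 1 := by
    rw [Algebra.smul_def, ← map_mul, hc, map_one]
  rw [LinearEquiv.coe_coe, reflection_apply, map_sub, map_smul, map_smul, sub_mul, smul_mul_assoc,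
    smul_mul_assoc, ι_sq_scalar, involute_ι, neg_mul, h1, ← Algebra.algebraMap_eq_smul_one,
    ← ι_mul_ι_add_swap]
  abel

end Reflection


section B

/-- composition along a list, head outermost -/
noncomputable def apo (δ : M → CliffordAlgebra Q →ₗ[R] CliffordAlgebra Q) :
    List M → CliffordAlgebra Q →ₗ[R] CliffordAlgebra Q
  | [] => LinearMap.id
  | v :: L => δ v ∘ₗ apo δ L

lemma apo_cons (δ : M → CliffordAlgebra Q →ₗ[R] CliffordAlgebra Q) (v : M) (L : List M) (x : CliffordAlgebra Q) :
    apo δ (v :: L) x = δ v (apo δ L x) := rfl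

lemma apo_append (δ : M → CliffordAlgebra Q →ₗ[R] CliffordAlgebra Q) (L : List M) (v : M)
    (x : CliffordAlgebra Q) : apo δ (L ++ [v]) x = apo δ L (δ v x) := by
  induction L with
  | nil => rfl
  | cons w L ih => rw [List.cons_append, apo_cons, ih, apo_cons]

lemma ap_eq_apo (δ : M → CliffordAlgebra Q →ₗ[R] CliffordAlgebra Q) (L : List M) (x : CliffordAlgebra Q) :
    ap δ L x = apo δ L.reverse x := by
  induction L generalizing x with
  | nil => rfl
  | cons v L ih => rw [ap_cons, ih, List.reverse_cons, apo_append]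

/-- half of the difference of the top contraction and the `(-1)`-twisted top operator -/
noncomputable def Bo : List M → CliffordAlgebra Q →ₗ[R] CliffordAlgebra Q
  | [] => 0
  | v :: L => D Q (-LinearMap.id) v ∘ₗ Bo L + LinearMap.mulLeft R (ι Q v) ∘ₗ apo (D Q LinearMap.id) L

lemma Bo_cons (v : M) (L : List M) (x : CliffordAlgebra Q) :
    Bo (v :: L) x = D Q (-LinearMap.id) v (Bo L x) + ι Q v * apo (D Q LinearMap.id) L x := rfl

lemma D_neg_eq (v : M) (x : CliffordAlgebra Q) :
    D Q (-LinearMap.id) v x = D Q LinearMap.id v x - (2 : R) • (ι Q v * x) := by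
  rw [D_apply, D_apply, LinearMap.neg_apply, LinearMap.id_apply, map_neg, two_smul, neg_mul]
  abel

lemma apo_neg_eq (L : List M) (x : CliffordAlgebra Q) :
    apo (D Q (-LinearMap.id)) L x = apo (D Q LinearMap.id) L x - (2 : R) • Bo L x := by
  induction L with
  | nil => simp [apo, Bo]
  | cons v L ih =>
    rw [apo_cons, ih, map_sub, map_smul, D_neg_eq v (apo (D Q LinearMap.id) L x), Bo_cons, apo_cons,
      smul_add]
    abel

lemma D_apo_mem (w : M) (L : List M) (hw : w ∈ L) (x : CliffordAlgebra Q) :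
    D Q LinearMap.id w (apo (D Q LinearMap.id) L x) = 0 := by
  have h := ap_eq_apo (D Q LinearMap.id) L.reverse x
  rw [List.reverse_reverse] at h
  rw [← h]
  exact D_ap_mem _ (fun _ => rfl) w _ (List.mem_reverse.2 hw) x

lemma D_Bo (w : M) (L : List M) (hw : w ∈ L) (x : CliffordAlgebra Q) :
    D Q (-LinearMap.id) w (Bo L x) = - (ι Q w * apo (D Q LinearMap.id) L x) := by
  induction L with
  | nil => simp at hw
  | cons v L ih =>
    -- `D w (v z) + D v (w z) = -(w c_v z + v c_w z)`
    have key : ∀ (v w : M) (z : CliffordAlgebra Q),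
        D Q (-LinearMap.id) w (ι Q v * z) + D Q (-LinearMap.id) v (ι Q w * z) =
          -(ι Q v * D Q LinearMap.id w z + ι Q w * D Q LinearMap.id v z) := by
      intro v w z
      simp only [D_apply, LinearMap.neg_apply, LinearMap.id_apply, map_neg, map_mul, involute_ι]
      noncomm_ring
    have key2 : ∀ (w : M) (z : CliffordAlgebra Q),
        D Q (-LinearMap.id) w (ι Q w * z) = -(ι Q w * D Q LinearMap.id w z) := by
      intro w z
      simp only [D_apply, LinearMap.neg_apply, LinearMap.id_apply, map_neg, map_mul, involute_ι]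
      noncomm_ring
    have hneg : ∀ v, Q ((-LinearMap.id : M →ₗ[R] M) v) = Q v := fun v => by
      rw [LinearMap.neg_apply, LinearMap.id_apply, QuadraticMap.map_neg]
    rw [Bo_cons, map_add, apo_cons]
    rcases List.mem_cons.1 hw with h | h
    · subst h
      rw [D_D _ hneg, zero_add, key2]
    · rw [D_anti _ hneg, ih h, map_neg, neg_neg]
      have h1 := key v w (apo (D Q LinearMap.id) L x)
      rw [D_apo_mem w L h, mul_zero, zero_add] at h1
      rw [add_comm]
      exact h1

lemma apo_mem_evenOdd (L : List M) (i : ZMod 2) (x : CliffordAlgebra Q) (hx : x ∈ evenOdd Q i) :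
    apo (D Q LinearMap.id) L x ∈ evenOdd Q (i + L.length) := by
  have h := ap_eq_apo (D Q LinearMap.id) L.reverse x
  rw [List.reverse_reverse] at h
  rw [← h, ← List.length_reverse]
  exact ap_mem_evenOdd _ _ _ _ hx

lemma Bo_mem_evenOdd (L : List M) (i : ZMod 2) (x : CliffordAlgebra Q) (hx : x ∈ evenOdd Q i) :
    Bo L x ∈ evenOdd Q (i + L.length) := by
  induction L with
  | nil => exact Submodule.zero_mem _
  | cons v L ih =>
    have e : i + ((v :: L).length : ZMod 2) = i + (L.length : ZMod 2) + 1 := by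
      rw [List.length_cons]
      push_cast
      ring
    rw [Bo_cons, e]
    refine Submodule.add_mem _ (D_mem_evenOdd _ _ _ _ ih) ?_
    have h := SetLike.mul_mem_graded (ι_mem_evenOdd_one Q v) (apo_mem_evenOdd L i x hx)
    rwa [add_comm] at h

end B

section T

variable [IsLocalRing R] {n : ℕ} (b : Module.Basis (Fin n) R M)
  (hQ : Function.Bijective (QuadraticMap.polarBilin Q))

include b hQ in
/-- Over a local ring, in even rank: an even `t` with `v t + t v = p v` and `p - 2 t` a unit. -/
theorem exists_t (hn : Even n) : ∃ t ∈ evenOdd Q 0, ∃ p : R,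
    (∀ v, ι Q v * t + t * ι Q v = p • ι Q v) ∧ IsUnit (algebraMap R _ p - (2 : R) • t) := by
  have hneg : ∀ v, Q ((LinearEquiv.neg R : M ≃ₗ[R] M) v) = Q v := fun v => by
    rw [LinearEquiv.neg_apply, QuadraticMap.map_neg]
  obtain ⟨a, ha⟩ := exists_isUnit_ap b hQ (LinearEquiv.neg R) hneg
  have hg : ((LinearEquiv.neg R : M ≃ₗ[R] M).toLinearMap) = -LinearMap.id := by ext; simp
  rw [hg] at ha
  have hneg' : ∀ v, Q ((-LinearMap.id : M →ₗ[R] M) v) = Q v := fun v => by
    rw [LinearMap.neg_apply, LinearMap.id_apply, QuadraticMap.map_neg]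
  -- remove the signs of the vectors
  have h1 : ∀ (L : List M) (x : CliffordAlgebra Q),
      ap (D Q (-LinearMap.id)) (L.map (LinearEquiv.neg R : M ≃ₗ[R] M).symm) x =
        (-1 : R) ^ L.length • ap (D Q (-LinearMap.id)) L x := by
    intro L
    induction L with
    | nil => intro x; simp [ap_nil]
    | cons v L ih =>
      intro x
      rw [List.map_cons, ap_cons, ap_cons, ih]
      have h2 : D Q (-LinearMap.id) ((LinearEquiv.neg R : M ≃ₗ[R] M).symm v) x =
          - D Q (-LinearMap.id) v x := by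
        have h3 : (LinearEquiv.neg R : M ≃ₗ[R] M).symm v = (-1 : R) • v := by
          rw [LinearEquiv.symm_apply_eq]; simp
        rw [h3, D_smul, LinearMap.smul_apply, neg_smul, one_smul]
      rw [h2, map_neg, List.length_cons, pow_succ, mul_neg_one, neg_smul, smul_neg]
  rw [h1, length_dl, hn.neg_one_pow, one_smul] at ha
  -- the odd part of `a` does not contribute
  obtain ⟨a0, h0, a1, h1', rfl⟩ := exists_parts a
  have hn' : (n : ZMod 2) = 0 := by
    rw [ZMod.natCast_eq_zero_iff]
    exact hn.two_dvd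
  have h2 : ap (D Q (-LinearMap.id)) (dl b hQ) a1 = 0 := by
    apply eq_zero_of_central_odd b hQ hn
    · have := ap_mem_evenOdd (-LinearMap.id) (dl b hQ) 1 a1 h1'
      rwa [length_dl, hn', add_zero] at this
    · intro v
      have h3 : ap (D Q (-LinearMap.id)) (dl b hQ) a1 ∈ K Q (-LinearMap.id) :=
        ap_mem_K _ hneg' _ (span_dl b hQ) _
      have h4 : ap (D Q (-LinearMap.id)) (dl b hQ) a1 ∈ evenOdd Q 1 := by
        have := ap_mem_evenOdd (-LinearMap.id) (dl b hQ) 1 a1 h1'
        rwa [length_dl, hn', add_zero] at this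
      have h5 := mem_K.1 h3 v
      rw [involute_eq_of_mem_odd h4, LinearMap.neg_apply, LinearMap.id_apply, map_neg, neg_mul,
        neg_mul, neg_inj] at h5
      exact h5
  rw [map_add, h2, add_zero, ap_eq_apo, apo_neg_eq, ← ap_eq_apo] at ha
  obtain ⟨p, hp⟩ := exists_T (b := b) (hQ := hQ) a0
  refine ⟨Bo (dl b hQ).reverse a0, ?_, p, ?_, ?_⟩
  · have := Bo_mem_evenOdd (dl b hQ).reverse 0 a0 h0
    rwa [List.length_reverse, length_dl, hn', add_zero] at this
  · have ht : Bo (dl b hQ).reverse a0 ∈ evenOdd Q 0 := by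
      have := Bo_mem_evenOdd (dl b hQ).reverse 0 a0 h0
      rwa [List.length_reverse, length_dl, hn', add_zero] at this
    intro v
    have hv : v ∈ Submodule.span R {v | v ∈ dl b hQ} := by rw [span_dl]; trivial
    induction hv using Submodule.span_induction with
    | mem v hv =>
      have h6 := D_Bo v (dl b hQ).reverse (List.mem_reverse.2 hv) a0
      rw [← ap_eq_apo, ← T, hp, D_apply, LinearMap.neg_apply, LinearMap.id_apply, map_neg,
        involute_eq_of_mem_even ht, ← Algebra.commutes, ← Algebra.smul_def] at h6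
      rw [← neg_inj, ← h6]
      noncomm_ring
    | zero => simp
    | add v w _ _ hv hw =>
      rw [map_add, add_mul, mul_add, smul_add, ← hv, ← hw]
      abel
    | smul r v _ hv =>
      rw [map_smul, smul_mul_assoc, mul_smul_comm, ← smul_add, hv, smul_comm]
  · rw [← hp]
    exact ha

end T

end K918.Cliff
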