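import Groth.Prelude.Def_QuadGrp
import Mathlib.LinearAlgebra.Matrix.ToLin
import Mathlib.LinearAlgebra.Matrix.NonsingularInverse
import Mathlib.RingTheory.MvPolynomial.Basic
import Mathlib.Algebra.CharP.Two
import Mathlib.Data.ZMod.Basic

/-!
# The half-discriminant

* `two_mul_halfDiscUniv`: for odd `n`, twice the universal half-discriminant is the universal discriminant;
* `hdM U`: the half-discriminant of the quadratic form `xᵀ U x`; `hdM_map`, `two_mul_hdM`, `hdM_conj` (`det²`);
* `halfDisc_eq_hdM`: `halfDisc b refl Q = hdM (B(bᵢ,bⱼ))` for every bilinear lift `B` of `Q`;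
* `halfDisc_comp`: `halfDisc b (Q.comp g) = det g ^ 2 * halfDisc b Q`;
* `hdM_block`: if the first basis vector is orthogonal to the others, `hdM U = U 0 0 * det (polar of the others)`.
-/

set_option autoImplicit false
universe u v w

namespace K918.HalfDisc

open QuadGrp Matrix

section Alt

/-- The generic alternating matrix. -/
noncomputable def gen (n : ℕ) : Matrix (Fin n) (Fin n) (MvPolynomial (Fin n × Fin n) ℤ) :=
  fun i j => if i < j then MvPolynomial.X (i, j) else if j < i then - MvPolynomial.X (j, i) else 0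

lemma gen_transpose (n : ℕ) : (gen n)ᵀ = - gen n := by
  refine Matrix.ext fun i j => ?_
  rw [transpose_apply, Matrix.neg_apply]
  unfold gen
  rcases lt_trichotomy i j with h | h | h
  · rw [if_neg (not_lt.2 h.le), if_pos h, if_pos h]
  · subst h; simp
  · rw [if_pos h, if_neg (not_lt.2 h.le), if_pos h, neg_neg]

lemma det_gen {n : ℕ} (hn : Odd n) : (gen n).det = 0 := by
  have h : (gen n).det = - (gen n).det := by
    conv_lhs => rw [← det_transpose, gen_transpose, det_neg, Fintype.card_fin, hn.neg_one_pow]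
    rw [neg_one_mul]
  have h2 : (2 : MvPolynomial (Fin n × Fin n) ℤ) * (gen n).det = 0 := by linear_combination h
  rcases mul_eq_zero.1 h2 with h3 | h3
  · exact absurd h3 two_ne_zero
  · exact h3

/-- An alternating matrix of odd size has determinant zero (over any commutative ring). -/
theorem det_alt {R : Type u} [CommRing R] {n : ℕ} (hn : Odd n) (M : Matrix (Fin n) (Fin n) R)
    (h0 : ∀ i, M i i = 0) (h1 : ∀ i j, M j i = - M i j) : M.det = 0 := by
  let φ : MvPolynomial (Fin n × Fin n) ℤ →+* R :=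
    (MvPolynomial.eval₂Hom (Int.castRingHom R) fun p => M p.1 p.2)
  have h : M = (gen n).map φ := by
    ext i j
    simp only [map_apply, gen]
    rcases lt_trichotomy i j with h | h | h
    · simp [h, φ]
    · subst h; simp [h0]
    · simp [h, not_lt.2 h.le, φ, h1 j i]
  rw [h, ← RingHom.mapMatrix_apply, ← RingHom.map_det, det_gen hn, map_zero]

end Alt

section Univ

variable {R : Type u} [CommRing R] {S : Type v} [CommRing S] {n : ℕ}

/-- The polar matrix of a coefficient table. -/
def pm (a : Sym2 (Fin n) → R) : Matrix (Fin n) (Fin n) R :=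
  Matrix.of fun i j => if i = j then 2 * a s(i, j) else a s(i, j)

lemma pm_apply (a : Sym2 (Fin n) → R) (i j : Fin n) :
    pm a i j = if i = j then 2 * a s(i, j) else a s(i, j) := rfl

lemma univPolarMat_eq : univPolarMat n = pm (fun s => MvPolynomial.X s) := rfl

lemma pm_map (f : R →+* S) (a : Sym2 (Fin n) → R) : (pm a).map f = pm (fun s => f (a s)) := by
  ext i j
  simp only [map_apply, pm_apply]
  split_ifs
  · rw [map_mul, map_ofNat]
  · rfl

/-- the universal half-discriminant evaluated at a table -/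
noncomputable def hd (a : Sym2 (Fin n) → R) : R :=
  MvPolynomial.eval₂ (Int.castRingHom R) a (halfDiscUniv n)

lemma hd_map (f : R →+* S) (a : Sym2 (Fin n) → R) : f (hd a) = hd (fun s => f (a s)) := by
  unfold hd
  rw [← MvPolynomial.coe_eval₂Hom, ← RingHom.comp_apply, MvPolynomial.comp_eval₂Hom, MvPolynomial.coe_eval₂Hom]
  congr 1
  exact RingHom.ext_int _ _

lemma det_pm_eq (a : Sym2 (Fin n) → R) :
    (pm a).det = MvPolynomial.eval₂ (Int.castRingHom R) a (discUniv n) := by
  rw [← MvPolynomial.coe_eval₂Hom, discUniv, RingHom.map_det, univPolarMat_eq, RingHom.mapMatrix_apply, pm_map]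
  congr 2
  ext s
  simp

lemma two_dvd_coeff_discUniv (hn : Odd n) (s : Sym2 (Fin n) →₀ ℕ) :
    (2 : ℤ) ∣ MvPolynomial.coeff s (discUniv n) := by
  have h : MvPolynomial.map (Int.castRingHom (ZMod 2)) (discUniv n) = 0 := by
    rw [discUniv, RingHom.map_det, RingHom.mapMatrix_apply]
    have h2 : (2 : MvPolynomial (Sym2 (Fin n)) (ZMod 2)) = 0 := CharTwo.two_eq_zero
    apply det_alt hn
    · intro i
      rw [univPolarMat_eq, pm_map, pm_apply, if_pos rfl, h2, zero_mul]
    · intro i j
      rw [univPolarMat_eq, pm_map, CharTwo.neg_eq]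
      simp only [pm_apply]
      rw [Sym2.eq_swap]
      simp only [eq_comm]
  have h1 := congrArg (MvPolynomial.coeff s) h
  rw [MvPolynomial.coeff_map, MvPolynomial.coeff_zero, eq_intCast,
    ZMod.intCast_zmod_eq_zero_iff_dvd] at h1
  exact_mod_cast h1

/-- For odd `n`, twice the universal half-discriminant is the universal discriminant. -/
theorem two_mul_halfDiscUniv (hn : Odd n) : 2 * halfDiscUniv n = discUniv n := by
  ext s
  rw [show (2 : MvPolynomial (Sym2 (Fin n)) ℤ) = MvPolynomial.C 2 from (map_ofNat MvPolynomial.C 2).symm,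
    MvPolynomial.coeff_C_mul, coeff_halfDiscUniv]
  exact Int.mul_ediv_cancel' (two_dvd_coeff_discUniv hn s)

theorem two_mul_hd (hn : Odd n) (a : Sym2 (Fin n) → R) : 2 * hd a = (pm a).det := by
  rw [det_pm_eq, ← two_mul_halfDiscUniv hn, MvPolynomial.eval₂_mul]
  congr 1
  rw [show (2 : MvPolynomial (Sym2 (Fin n)) ℤ) = MvPolynomial.C 2 from (map_ofNat MvPolynomial.C 2).symm,
    MvPolynomial.eval₂_C]
  simp

end Univ

section MatrixForm

variable {R : Type u} [CommRing R] {S : Type v} [CommRing S] {n : ℕ}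

/-- The coefficient table of the quadratic form `xᵀ U x`. -/
def tab (U : Matrix (Fin n) (Fin n) R) : Sym2 (Fin n) → R :=
  Sym2.lift ⟨fun i j => if i = j then U i i else U i j + U j i, fun i j => by
    by_cases h : i = j
    · subst h; rfl
    · dsimp only
      rw [if_neg h, if_neg (Ne.symm h), add_comm]⟩

lemma tab_mk (U : Matrix (Fin n) (Fin n) R) (i j : Fin n) :
    tab U s(i, j) = if i = j then U i i else U i j + U j i := rfl

lemma pm_tab (U : Matrix (Fin n) (Fin n) R) : pm (tab U) = U + Uᵀ := by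
  ext i j
  rw [pm_apply, tab_mk, Matrix.add_apply, transpose_apply]
  split_ifs with h
  · subst h; rw [two_mul]
  · rfl

lemma tab_map (f : R →+* S) (U : Matrix (Fin n) (Fin n) R) :
    tab (U.map f) = fun s => f (tab U s) := by
  ext s
  induction s with
  | _ i j =>
    simp only [tab_mk, map_apply]
    split_ifs <;> simp

/-- The half-discriminant of the quadratic form `xᵀ U x`. -/
noncomputable def hdM (U : Matrix (Fin n) (Fin n) R) : R := hd (tab U)

lemma hdM_map (f : R →+* S) (U : Matrix (Fin n) (Fin n) R) : f (hdM U) = hdM (U.map f) := by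
  unfold hdM
  rw [hd_map, tab_map]

lemma two_mul_hdM (hn : Odd n) (U : Matrix (Fin n) (Fin n) R) : 2 * hdM U = (U + Uᵀ).det := by
  unfold hdM
  rw [two_mul_hd hn, pm_tab]

lemma hdM_congr {U V : Matrix (Fin n) (Fin n) R} (h0 : ∀ i, U i i = V i i)
    (h1 : ∀ i j, i ≠ j → U i j + U j i = V i j + V j i) : hdM U = hdM V := by
  unfold hdM
  congr 1
  ext s
  induction s with
  | _ i j =>
    simp only [tab_mk]
    split_ifs with h
    · exact h0 i
    · exact h1 i j h

/-- `det²`-equivariance of the half-discriminant. -/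
theorem hdM_conj (hn : Odd n) (U G : Matrix (Fin n) (Fin n) R) :
    hdM (Gᵀ * U * G) = G.det ^ 2 * hdM U := by
  let U0 : Matrix (Fin n) (Fin n) (MvPolynomial ((Fin n × Fin n) ⊕ (Fin n × Fin n)) ℤ) :=
    Matrix.of fun i j => MvPolynomial.X (Sum.inl (i, j))
  let G0 : Matrix (Fin n) (Fin n) (MvPolynomial ((Fin n × Fin n) ⊕ (Fin n × Fin n)) ℤ) :=
    Matrix.of fun i j => MvPolynomial.X (Sum.inr (i, j))
  let φ : MvPolynomial ((Fin n × Fin n) ⊕ (Fin n × Fin n)) ℤ →+* R :=
    MvPolynomial.eval₂Hom (Int.castRingHom R)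
      (Sum.elim (fun p => U p.1 p.2) (fun p => G p.1 p.2))
  have hφ1 : ∀ p, φ (MvPolynomial.X (Sum.inl p)) = U p.1 p.2 := fun p => MvPolynomial.eval₂_X _ _ _
  have hφ2 : ∀ p, φ (MvPolynomial.X (Sum.inr p)) = G p.1 p.2 := fun p => MvPolynomial.eval₂_X _ _ _
  have hU : U = U0.map φ := by
    ext i j
    exact (hφ1 (i, j)).symm
  have hG : G = G0.map φ := by
    ext i j
    exact (hφ2 (i, j)).symm
  have key : hdM (G0ᵀ * U0 * G0) = G0.det ^ 2 * hdM U0 := by
    have h1 := two_mul_hdM hn (G0ᵀ * U0 * G0)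
    have h2 := two_mul_hdM hn U0
    have h3 : G0ᵀ * U0 * G0 + (G0ᵀ * U0 * G0)ᵀ = G0ᵀ * (U0 + U0ᵀ) * G0 := by
      rw [transpose_mul, transpose_mul, transpose_transpose, Matrix.mul_add, Matrix.add_mul,
        Matrix.mul_assoc, Matrix.mul_assoc]
    rw [h3, det_mul, det_mul, det_transpose, ← h2] at h1
    have h4 : 2 * (hdM (G0ᵀ * U0 * G0) - G0.det ^ 2 * hdM U0) = 0 := by
      linear_combination h1
    rcases mul_eq_zero.1 h4 with h5 | h5
    · exact absurd h5 two_ne_zero
    · exact sub_eq_zero.1 h5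
  have h := congrArg φ key
  rw [hdM_map, map_mul, map_pow, RingHom.map_det, hdM_map, Matrix.map_mul, Matrix.map_mul,
    Matrix.transpose_map, RingHom.mapMatrix_apply, ← hU, ← hG] at h
  exact h

/-- If the first coordinate is orthogonal to the others: `hdM U = U₀₀ * det (polar matrix of the others)`. -/
theorem hdM_block {m : ℕ} (hm : Even m) (U : Matrix (Fin (m + 1)) (Fin (m + 1)) R)
    (h : ∀ j : Fin m, U 0 j.succ + U j.succ 0 = 0) :
    hdM U = U 0 0 * (Matrix.of fun i j : Fin m => U i.succ j.succ + U j.succ i.succ).det := by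
  let U0 : Matrix (Fin (m + 1)) (Fin (m + 1)) (MvPolynomial (Fin (m + 1) × Fin (m + 1)) ℤ) :=
    Matrix.of fun i j => if (i = 0 ∧ j ≠ 0) ∨ (i ≠ 0 ∧ j = 0) then 0 else MvPolynomial.X (i, j)
  let φ : MvPolynomial (Fin (m + 1) × Fin (m + 1)) ℤ →+* R :=
    MvPolynomial.eval₂Hom (Int.castRingHom R) (fun p => U p.1 p.2)
  have hφ : ∀ p, φ (MvPolynomial.X p) = U p.1 p.2 := fun p => MvPolynomial.eval₂_X _ _ _
  have e0 : U0 0 0 = MvPolynomial.X (0, 0) := by simp [U0]
  have e1 : ∀ j : Fin m, U0 0 j.succ = 0 := fun j => by simp [U0, Fin.succ_ne_zero]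
  have e2 : ∀ j : Fin m, U0 j.succ 0 = 0 := fun j => by simp [U0, Fin.succ_ne_zero]
  have e3 : ∀ i j : Fin m, U0 i.succ j.succ = MvPolynomial.X (i.succ, j.succ) := fun i j => by
    simp [U0, Fin.succ_ne_zero]
  have key : hdM U0 = U0 0 0 *
      (Matrix.of fun i j : Fin m => U0 i.succ j.succ + U0 j.succ i.succ).det := by
    have h1 := two_mul_hdM hm.add_one U0
    rw [det_succ_row_zero, Fin.sum_univ_succ] at h1
    have h2 : ∀ j : Fin m, (U0 + U0ᵀ) 0 j.succ = 0 := fun j => by
      rw [Matrix.add_apply, transpose_apply, e1, e2, add_zero]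
    simp only [h2, mul_zero, zero_mul, Finset.sum_const_zero, add_zero] at h1
    have h3 : (U0 + U0ᵀ).submatrix Fin.succ (Fin.succAbove 0) =
        Matrix.of fun i j : Fin m => U0 i.succ j.succ + U0 j.succ i.succ := by
      ext i j
      simp
    rw [h3, Matrix.add_apply, transpose_apply] at h1
    have h4 : 2 * (hdM U0 - U0 0 0 *
      (Matrix.of fun i j : Fin m => U0 i.succ j.succ + U0 j.succ i.succ).det) = 0 := by
      simp only [Fin.val_zero, pow_zero, one_mul] at h1
      linear_combination h1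
    rcases mul_eq_zero.1 h4 with h5 | h5
    · exact absurd h5 two_ne_zero
    · exact sub_eq_zero.1 h5
  have h5 := congrArg φ key
  rw [hdM_map, map_mul, RingHom.map_det, e0] at h5
  have h6 : hdM (U0.map φ) = hdM U := by
    apply hdM_congr
    · intro i
      rcases Fin.eq_zero_or_eq_succ i with rfl | ⟨i, rfl⟩
      · rw [map_apply, e0, hφ]
      · rw [map_apply, e3, hφ]
    · intro i j hij
      rcases Fin.eq_zero_or_eq_succ i with rfl | ⟨i, rfl⟩
      · rcases Fin.eq_zero_or_eq_succ j with rfl | ⟨j, rfl⟩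
        · exact absurd rfl hij
        · simp [e1, e2, h]
      · rcases Fin.eq_zero_or_eq_succ j with rfl | ⟨j, rfl⟩
        · simp only [map_apply, e1, e2, map_zero, add_zero]
          rw [add_comm, h]
        · rw [map_apply, map_apply, e3, e3, hφ, hφ]
  rw [h6] at h5
  rw [h5, hφ]
  congr 2
  ext i j
  rw [RingHom.mapMatrix_apply, map_apply, of_apply, of_apply, map_add, e3, e3, hφ, hφ]

end MatrixForm

section Forms

variable {R : Type u} [CommRing R] {M : Type v} [AddCommGroup M] [Module R M] {n : ℕ}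

/-- the matrix of a bilinear form -/
noncomputable def bmat (b : Module.Basis (Fin n) R M) (B : LinearMap.BilinMap R M R) : Matrix (Fin n) (Fin n) R :=
  Matrix.of fun i j => B (b i) (b j)

lemma coeffs_eq_tab (b : Module.Basis (Fin n) R M) (B : LinearMap.BilinMap R M R) :
    coeffs b (LinearEquiv.refl R R) B.toQuadraticMap = tab (bmat b B) := by
  ext s
  induction s with
  | _ i j =>
    rw [coeffs_mk, tab_mk]
    split_ifs with h
    · rfl
    · change QuadraticMap.polar (⇑B.toQuadraticMap) (b i) (b j) = _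
      simp [LinearMap.BilinMap.polar_toQuadraticMap, bmat]

/-- The half-discriminant of `Q` is `hdM` of the matrix of any bilinear lift. -/
theorem halfDisc_eq_hdM (b : Module.Basis (Fin n) R M) (B : LinearMap.BilinMap R M R)
    (Q : QuadraticForm R M) (h : B.toQuadraticMap = Q) :
    halfDisc b (LinearEquiv.refl R R) Q = hdM (bmat b B) := by
  subst h
  unfold halfDisc hdM hd
  rw [coeffs_eq_tab]

/-- `halfDisc (Q ∘ g) = det(g)² halfDisc Q`. -/
theorem halfDisc_comp (hn : Odd n) (b : Module.Basis (Fin n) R M) (Q : QuadraticForm R M) (g : M →ₗ[R] M) :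
    halfDisc b (LinearEquiv.refl R R) (Q.comp g) =
      LinearMap.det g ^ 2 * halfDisc b (LinearEquiv.refl R R) Q := by
  have hB := QuadraticMap.toQuadraticMap_toBilin Q b
  set B := Q.toBilin b
  have hB' : LinearMap.BilinMap.toQuadraticMap (B.compl₁₂ g g) = Q.comp g := by
    ext x
    rw [← hB]
    rfl
  rw [halfDisc_eq_hdM b B Q hB, halfDisc_eq_hdM b _ _ hB', ← LinearMap.det_toMatrix b g,
    ← hdM_conj hn]
  congr 1
  ext i j
  change B (g (b i)) (g (b j)) = _
  have hg : ∀ k, g (b k) = ∑ l, LinearMap.toMatrix b b g l k • b l := fun k => by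
    rw [← b.sum_repr (g (b k))]
    simp [LinearMap.toMatrix_apply]
  rw [hg i, hg j, Matrix.mul_apply]
  simp only [map_sum, LinearMap.sum_apply, map_smul, LinearMap.smul_apply, smul_eq_mul,
    Matrix.mul_apply, transpose_apply, Finset.sum_mul, Finset.mul_sum]
  refine Finset.sum_congr rfl fun k _ => Finset.sum_congr rfl fun l _ => ?_
  simp only [bmat, of_apply]
  ring

end Forms

end K918.HalfDisc
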