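import Groth.Agent.QuadGrp.K918.Regular

/-!
# The centre in even rank; units in `K g` are locally homogeneous

* `exists_of_central_even_rank`: `Q` regular of even rank: an element commuting with `M` is a scalar;
* `isLocHomog_of_mem_K`: a unit in `K g` (`g` an isometry) is locally homogeneous;
* `isLocHomog_of_normalises`: even rank, a unit normalising `M` is locally homogeneous.
-/

set_option autoImplicit false
universe u v

namespace K918.Cliff

open CliffordAlgebra QuadGrp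
open scoped Pointwise

variable {R : Type u} [CommRing R] {M : Type v} [AddCommGroup M] [Module R M] {Q : QuadraticForm R M}

section Scalars

lemma algebraMap_inj [Module.Free R M] {r s : R}
    (h : algebraMap R (CliffordAlgebra Q) r = algebraMap R (CliffordAlgebra Q) s) : r = s := by
  obtain ⟨π, hπ⟩ := exists_retr Q
  rw [← hπ r, h, hπ]

lemma isUnit_of_isUnit_algebraMap [Module.Free R M] {r : R}
    (h : IsUnit (algebraMap R (CliffordAlgebra Q) r)) : IsUnit r := by
  obtain ⟨π, hπ⟩ := exists_retr Q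
  obtain ⟨c, hc⟩ := h.exists_right_inv
  have h1 : r * π c = 1 := by
    rw [← smul_eq_mul, ← map_smul, Algebra.smul_def, hc, ← map_one (algebraMap R (CliffordAlgebra Q)), hπ]
  exact IsUnit.of_mul_eq_one _ h1

/-- an odd scalar is zero -/
lemma scalar_odd {x : CliffordAlgebra Q} (h : ∃ r : R, x = algebraMap R _ r) (h1 : x ∈ evenOdd Q 1) :
    x = 0 := by
  obtain ⟨r, rfl⟩ := h
  exact eq_zero_of_mem_evenOdd (algebraMap_mem_evenOdd_zero r) h1

lemma star_mem_evenOdd {i : ZMod 2} {x : CliffordAlgebra Q} (hx : x ∈ evenOdd Q i) :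
    star x ∈ evenOdd Q i := by
  rw [star_def]
  exact (reverse_mem_evenOdd_iff Q).2 ((involute_mem_evenOdd_iff Q).2 hx)

lemma commute_of_commute_ι {x : CliffordAlgebra Q} (h : ∀ v, ι Q v * x = x * ι Q v)
    (y : CliffordAlgebra Q) : y * x = x * y := by
  induction y using CliffordAlgebra.induction with
  | algebraMap r => rw [Algebra.commutes]
  | ι v => exact h v
  | mul a c ha hc => rw [mul_assoc, hc, ← mul_assoc, ha, mul_assoc]
  | add a c ha hc => rw [add_mul, mul_add, ha, hc]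

end Scalars

section Mul

lemma mul00 {x y : CliffordAlgebra Q} (hx : x ∈ evenOdd Q 0) (hy : y ∈ evenOdd Q 0) :
    x * y ∈ evenOdd Q 0 := by simpa using SetLike.mul_mem_graded hx hy

lemma mul01 {x y : CliffordAlgebra Q} (hx : x ∈ evenOdd Q 0) (hy : y ∈ evenOdd Q 1) :
    x * y ∈ evenOdd Q 1 := by simpa using SetLike.mul_mem_graded hx hy

lemma mul10 {x y : CliffordAlgebra Q} (hx : x ∈ evenOdd Q 1) (hy : y ∈ evenOdd Q 0) :
    x * y ∈ evenOdd Q 1 := by simpa using SetLike.mul_mem_graded hx hy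

lemma mul11 {x y : CliffordAlgebra Q} (hx : x ∈ evenOdd Q 1) (hy : y ∈ evenOdd Q 1) :
    x * y ∈ evenOdd Q 0 := by
  have := SetLike.mul_mem_graded hx hy
  rwa [show (1 : ZMod 2) + 1 = 0 from rfl] at this

end Mul

section EvenRank

variable {n : ℕ} (b : Module.Basis (Fin n) R M) (hQ : Function.Bijective (QuadraticMap.polarBilin Q))

include b hQ

/-- even element commuting with `M` is a scalar -/
theorem exists_of_central_even {x : CliffordAlgebra Q} (hx : x ∈ evenOdd Q 0)
    (h : ∀ v, ι Q v * x = x * ι Q v) : ∃ r : R, x = algebraMap R _ r :=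
  exists_of_mem_K_id (b := b) (hQ := hQ) (mem_K.2 fun v => by
    rw [involute_eq_of_mem_even hx]; exact h v)

/-- an odd central element vanishes in even rank -/
theorem eq_zero_of_central_odd (hn : Even n) {x : CliffordAlgebra Q} (hx : x ∈ evenOdd Q 1)
    (h : ∀ v, ι Q v * x = x * ι Q v) : x = 0 := by
  have hc := commute_of_commute_ι h
  have h2 : ∀ a, T b hQ (a * x) = - T b hQ (a * x) := by
    intro a
    obtain ⟨a0, h0, a1, h1, rfl⟩ := exists_parts a
    rw [add_mul, map_add]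
    have e0 : T b hQ (a0 * x) = 0 := by
      apply scalar_odd (exists_T _)
      have := ap_mem_evenOdd LinearMap.id (dl b hQ) 1 (a0 * x) (by
        have := SetLike.mul_mem_graded h0 hx
        rwa [zero_add] at this)
      rw [length_dl] at this
      have hn' : (n : ZMod 2) = 0 := by
        rw [ZMod.natCast_eq_zero_iff]
        exact hn.two_dvd
      rwa [hn', add_zero] at this
    have e1 : T b hQ (a1 * x) = - T b hQ (a1 * x) := by
      conv_lhs => rw [T_mul_odd x hx a1, involute_eq_of_mem_odd h1, mul_neg, map_neg, ← hc]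
    rw [e0, zero_add]
    exact e1
  have h3 : (2 : R) • x = 0 := by
    apply eq_zero_of_T_mul (b := b) (hQ := hQ)
    intro a
    rw [mul_smul_comm, map_smul, two_smul]
    nth_rewrite 1 [h2 a]
    rw [neg_add_cancel]
  have h4 : x ∈ K Q LinearMap.id := by
    rw [mem_K]
    intro v
    rw [LinearMap.id_apply, involute_eq_of_mem_odd hx, neg_mul, ← h v, eq_neg_iff_add_eq_zero,
      ← mul_add, ← two_smul R x, h3, mul_zero]
  exact scalar_odd (exists_of_mem_K_id (b := b) (hQ := hQ) h4) hx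

/-- the centre of the Clifford algebra of a regular form of even rank is the scalars -/
theorem exists_of_central_even_rank (hn : Even n) {x : CliffordAlgebra Q}
    (h : ∀ v, ι Q v * x = x * ι Q v) : ∃ r : R, x = algebraMap R _ r := by
  obtain ⟨x0, h0, x1, h1, rfl⟩ := exists_parts x
  have h2 : ∀ v, ι Q v * x0 = x0 * ι Q v ∧ ι Q v * x1 = x1 * ι Q v := fun v => by
    have h3 := h v
    rw [mul_add, add_mul] at h3
    have h4 := parts_eq (x0 := ι Q v * x1) (x1 := ι Q v * x0) (y0 := x1 * ι Q v) (y1 := x0 * ι Q v)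
      (mul11 (ι_mem_evenOdd_one Q v) h1) (mul10 (ι_mem_evenOdd_one Q v) h0)
      (mul11 h1 (ι_mem_evenOdd_one Q v)) (mul01 h0 (ι_mem_evenOdd_one Q v))
      (by rw [add_comm, h3, add_comm])
    exact ⟨h4.2, h4.1⟩
  have h5 := eq_zero_of_central_odd b hQ hn h1 (fun v => (h2 v).2)
  rw [h5, add_zero]
  exact exists_of_central_even b hQ h0 (fun v => (h2 v).1)

end EvenRank

section LocHomog

/-- Local homogeneity from the products of the homogeneous parts. -/
theorem isLocHomog_aux [Module.Free R M] {u x0 x1 : CliffordAlgebra Q} (hu : IsUnit u) (h0 : x0 ∈ evenOdd Q 0)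
    (h1 : x1 ∈ evenOdd Q 1) (h : u = x0 + x1) (r0 r1 : R) (h00 : star x0 * x0 = algebraMap R _ r0)
    (h11 : star x1 * x1 = algebraMap R _ r1) (h01 : x0 * star x1 = 0) (h10 : x1 * star x0 = 0)
    (k01 : star x0 * x1 = 0) (k10 : star x1 * x0 = 0) : IsLocHomog Q u := by
  have hν : star u * u = algebraMap R _ (r0 + r1) := by
    rw [h, star_add, add_mul, mul_add, mul_add, h00, h11, k01, k10, map_add, add_zero, zero_add]
  have hstar : IsUnit (star u) := hu.star
  have hunit : IsUnit (r0 + r1) := isUnit_of_isUnit_algebraMap (Q := Q) (by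
    rw [← hν]; exact hstar.mul hu)
  obtain ⟨ν, hνu⟩ := hunit
  have e0 : algebraMap R _ r1 * x0 = 0 := by
    rw [Algebra.commutes, ← h11, ← mul_assoc, h01, zero_mul]
  have e1 : algebraMap R _ r0 * x1 = 0 := by
    rw [Algebra.commutes, ← h00, ← mul_assoc, h10, zero_mul]
  have e2 : r1 * r0 = 0 := by
    apply algebraMap_inj (Q := Q)
    rw [map_mul, ← h00, ← mul_assoc, Algebra.commutes, mul_assoc, e0, mul_zero, map_zero]
  have hr0 : (↑ν⁻¹ : R) * (r0 + r1) = 1 := by rw [← hνu, Units.inv_mul]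
  refine ⟨↑ν⁻¹ * r0, ?_, ?_, ?_⟩
  · change _ * _ = _
    calc (↑ν⁻¹ : R) * r0 * (↑ν⁻¹ * r0) = ↑ν⁻¹ * (↑ν⁻¹ * (r0 + r1)) * r0 - ↑ν⁻¹ * ↑ν⁻¹ * (r1 * r0) := by ring
      _ = ↑ν⁻¹ * r0 := by rw [hr0, e2]; ring
  · rw [h, smul_add, mul_smul, mul_smul, Algebra.smul_def r0 x1, e1, smul_zero, add_zero]
    exact Submodule.smul_mem _ _ (Submodule.smul_mem _ _ h0)
  · have h2 : (1 : R) - ↑ν⁻¹ * r0 = ↑ν⁻¹ * r1 := by
      rw [← hr0]; ring
    rw [h2, h, smul_add, mul_smul, mul_smul, Algebra.smul_def r1 x0, e0, smul_zero, zero_add]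
    exact Submodule.smul_mem _ _ (Submodule.smul_mem _ _ h1)

variable {n : ℕ} (b : Module.Basis (Fin n) R M) (hQ : Function.Bijective (QuadraticMap.polarBilin Q))

include b hQ

lemma mul_mem_K_id {g : M ≃ₗ[R] M} {x y : CliffordAlgebra Q} (hx : x ∈ K Q g.symm.toLinearMap)
    (hy : y ∈ K Q g.toLinearMap) : ∃ r : R, x * y = algebraMap R _ r := by
  have h := K_mul hx hy
  rw [show g.symm.toLinearMap ∘ₗ g.toLinearMap = LinearMap.id from by ext; simp] at h
  exact exists_of_mem_K_id (b := b) (hQ := hQ) h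

lemma mul_mem_K_id' {g : M ≃ₗ[R] M} {x y : CliffordAlgebra Q} (hx : x ∈ K Q g.symm.toLinearMap)
    (hy : y ∈ K Q g.toLinearMap) : ∃ r : R, y * x = algebraMap R _ r := by
  have h := K_mul hy hx
  rw [show g.toLinearMap ∘ₗ g.symm.toLinearMap = LinearMap.id from by ext; simp] at h
  exact exists_of_mem_K_id (b := b) (hQ := hQ) h

/-- a unit in `K g` is locally homogeneous -/
theorem isLocHomog_of_mem_K {g : M ≃ₗ[R] M} {u : CliffordAlgebra Q} (hu : IsUnit u)
    (hg : u ∈ K Q g.toLinearMap) : IsLocHomog Q u := by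
  have : Module.Free R M := Module.Free.of_basis b
  obtain ⟨x0, h0, x1, h1, rfl⟩ := exists_parts u
  obtain ⟨k0, k1⟩ := parts_mem_K h0 h1 hg
  have s0 := star_mem_K k0
  have s1 := star_mem_K k1
  obtain ⟨r0, h00⟩ := mul_mem_K_id b hQ s0 k0
  obtain ⟨r1, h11⟩ := mul_mem_K_id b hQ s1 k1
  refine isLocHomog_aux hu h0 h1 rfl r0 r1 h00 h11 ?_ ?_ ?_ ?_
  · exact scalar_odd (mul_mem_K_id' b hQ s1 k0)
      (mul01 h0 (star_mem_evenOdd h1))
  · exact scalar_odd (mul_mem_K_id' b hQ s0 k1)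
      (mul10 h1 (star_mem_evenOdd h0))
  · exact scalar_odd (mul_mem_K_id b hQ s0 k1)
      (mul01 (star_mem_evenOdd h0) h1)
  · exact scalar_odd (mul_mem_K_id b hQ s1 k0)
      (mul10 (star_mem_evenOdd h1) h0)

/-- even rank: a unit normalising `M` is locally homogeneous -/
theorem isLocHomog_of_normalises (hn : Even n) {u : CliffordAlgebra Q} (hu : IsUnit u)
    (hg : ∀ v, ∃ w, u * ι Q v = ι Q w * u) (hg' : ∀ w, ∃ v, u * ι Q v = ι Q w * u) : IsLocHomog Q u := by
  have : Module.Free R M := Module.Free.of_basis b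
  obtain ⟨x0, h0, x1, h1, rfl⟩ := exists_parts u
  -- the homogeneous parts intertwine
  have k : ∀ v w, (x0 + x1) * ι Q v = ι Q w * (x0 + x1) →
      x0 * ι Q v = ι Q w * x0 ∧ x1 * ι Q v = ι Q w * x1 := fun v w h => by
    rw [mul_add, add_mul] at h
    have h4 := parts_eq (x0 := x1 * ι Q v) (x1 := x0 * ι Q v) (y0 := ι Q w * x1) (y1 := ι Q w * x0)
      (mul11 h1 (ι_mem_evenOdd_one Q v)) (mul01 h0 (ι_mem_evenOdd_one Q v))
      (mul11 (ι_mem_evenOdd_one Q w) h1) (mul10 (ι_mem_evenOdd_one Q w) h0)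
      (by rw [add_comm, h, add_comm])
    exact ⟨h4.2, h4.1⟩
  have ks : ∀ {x : CliffordAlgebra Q} {v w : M}, x * ι Q v = ι Q w * x →
      ι Q v * star x = star x * ι Q w := fun {x v w} h => by
    have := congrArg star h
    rw [star_mul, star_mul, star_ι, star_ι, neg_mul, mul_neg, neg_inj] at this
    exact this
  -- products commute with `M`
  have c1 : ∀ {x y : CliffordAlgebra Q}, (∀ v w, (x0 + x1) * ι Q v = ι Q w * (x0 + x1) →
      x * ι Q v = ι Q w * x ∧ y * ι Q v = ι Q w * y) → ∀ v, ι Q v * (star x * y) = star x * y * ι Q v := by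
    intro x y h v
    obtain ⟨w, hw⟩ := hg v
    obtain ⟨h2, h3⟩ := h v w hw
    rw [← mul_assoc, ks h2, mul_assoc, mul_assoc, ← h3]
  have c2 : ∀ {x y : CliffordAlgebra Q}, (∀ v w, (x0 + x1) * ι Q v = ι Q w * (x0 + x1) →
      x * ι Q v = ι Q w * x ∧ y * ι Q v = ι Q w * y) → ∀ v, ι Q v * (x * star y) = x * star y * ι Q v := by
    intro x y h w
    obtain ⟨v, hv⟩ := hg' w
    obtain ⟨h2, h3⟩ := h v w hv
    rw [← mul_assoc, ← h2, mul_assoc, ks h3, ← mul_assoc]
  obtain ⟨r0, h00⟩ := exists_of_central_even b hQ (x := star x0 * x0)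
    (mul00 (star_mem_evenOdd h0) h0)
    (c1 fun v w h => ⟨(k v w h).1, (k v w h).1⟩)
  obtain ⟨r1, h11⟩ := exists_of_central_even b hQ (x := star x1 * x1)
    (mul11 (star_mem_evenOdd h1) h1)
    (c1 fun v w h => ⟨(k v w h).2, (k v w h).2⟩)
  refine isLocHomog_aux hu h0 h1 rfl r0 r1 h00 h11 ?_ ?_ ?_ ?_
  · exact eq_zero_of_central_odd b hQ hn
      (mul01 h0 (star_mem_evenOdd h1))
      (c2 fun v w h => ⟨(k v w h).1, (k v w h).2⟩)
  · exact eq_zero_of_central_odd b hQ hn
      (mul10 h1 (star_mem_evenOdd h0))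
      (c2 fun v w h => ⟨(k v w h).2, (k v w h).1⟩)
  · exact eq_zero_of_central_odd b hQ hn
      (mul01 (star_mem_evenOdd h0) h1)
      (c1 fun v w h => ⟨(k v w h).1, (k v w h).2⟩)
  · exact eq_zero_of_central_odd b hQ hn
      (mul10 (star_mem_evenOdd h1) h0)
      (c1 fun v w h => ⟨(k v w h).2, (k v w h).1⟩)

end LocHomog

section GPin

/-- membership in the naive Clifford group in terms of intertwining -/
theorem mem_GPin'_iff (u : (CliffordAlgebra Q)ˣ) :
    u ∈ GPin' Q ↔ (∀ v, ∃ w, (u : CliffordAlgebra Q) * ι Q v = ι Q w * u) ∧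
      (∀ w, ∃ v, (u : CliffordAlgebra Q) * ι Q v = ι Q w * u) := by
  rw [mem_GPin']
  have h1 : ∀ x : CliffordAlgebra Q, ConjAct.toConjAct u • x = u * x * ↑u⁻¹ := fun x => rfl
  constructor
  · intro h
    constructor
    · intro v
      have h2 : ConjAct.toConjAct u • ι Q v ∈ LinearMap.range (ι Q) := by
        rw [← h]
        exact Submodule.smul_mem_pointwise_smul _ _ _ ⟨v, rfl⟩
      obtain ⟨w, hw⟩ := h2
      refine ⟨w, ?_⟩
      rw [hw, h1, mul_assoc, Units.inv_mul, mul_one]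
    · intro w
      have h2 : ι Q w ∈ ConjAct.toConjAct u • LinearMap.range (ι Q) := by
        rw [h]
        exact ⟨w, rfl⟩
      obtain ⟨x, ⟨v, rfl⟩, hx⟩ := h2
      refine ⟨v, ?_⟩
      have h3 : (u : CliffordAlgebra Q) * ι Q v * ↑u⁻¹ = ι Q w := hx
      rw [← h3, mul_assoc, Units.inv_mul, mul_one]
  · rintro ⟨h2, h3⟩
    apply le_antisymm
    · rintro _ ⟨_, ⟨v, rfl⟩, rfl⟩
      obtain ⟨w, hw⟩ := h2 v
      refine ⟨w, ?_⟩
      change ι Q w = (u : CliffordAlgebra Q) * ι Q v * ↑u⁻¹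
      rw [hw, mul_assoc, Units.mul_inv, mul_one]
    · rintro _ ⟨w, rfl⟩
      obtain ⟨v, hv⟩ := h3 w
      refine ⟨ι Q v, ⟨v, rfl⟩, ?_⟩
      change (u : CliffordAlgebra Q) * ι Q v * ↑u⁻¹ = ι Q w
      rw [hv, mul_assoc, Units.mul_inv, mul_one]

end GPin

end K918.Cliff
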