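import Groth.Agent.QuadGrp.K918.HalfDisc
import Mathlib.LinearAlgebra.QuadraticForm.Radical
import Mathlib.LinearAlgebra.Basis.VectorSpace
import Mathlib.LinearAlgebra.Basis.Fin
import Mathlib.LinearAlgebra.FreeModule.Finite.Basic
import Mathlib.RingTheory.LocalRing.ResidueField.Ideal

/-!
# The half-discriminant, II: base change, change of basis, the criterion over a field

* `baseChangeForm_eq`: `baseChangeForm A Q` is the quadratic form of the base change of any bilinear lift;
* `halfDisc_baseChangeForm`; `halfDisc_eq_det_sq_mul` (change of basis);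
* `halfDisc_ne_zero_iff`: over a field, in odd rank, `halfDisc ≠ 0` iff `Q` is nondegenerate (Mathlib's sense).
-/

set_option autoImplicit false
universe u v w

namespace K918.HalfDisc

open QuadGrp Matrix TensorProduct

section BaseChange

variable {R : Type u} [CommRing R] {M : Type v} [AddCommGroup M] [Module R M] {n : ℕ}
variable (A : Type w) [CommRing A] [Algebra R A]

lemma baseChangeForm_tmul [Module.Free R M] (Q : QuadraticForm R M) (a : A) (m : M) :
    baseChangeForm A Q (a ⊗ₜ[R] m) = a * a * algebraMap R A (Q m) := by
  change AlgebraTensorModule.rid R A A (baseChange A Q (a ⊗ₜ[R] m)) = _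
  rw [baseChange_tmul, AlgebraTensorModule.rid_tmul, Algebra.smul_def, mul_comm]

/-- `baseChangeForm A Q` is the quadratic form of the base change of any bilinear lift of `Q`. -/
theorem baseChangeForm_eq [Module.Free R M] (Q : QuadraticForm R M) (B : LinearMap.BilinForm R M)
    (h : LinearMap.BilinMap.toQuadraticMap B = Q) :
    LinearMap.BilinMap.toQuadraticMap (LinearMap.BilinForm.baseChange A B) = baseChangeForm A Q := by
  apply _root_.baseChange_ext
  intro m
  rw [baseChangeForm_tmul, LinearMap.BilinMap.toQuadraticMap_apply,
    LinearMap.BilinForm.baseChange_tmul, ← h, LinearMap.BilinMap.toQuadraticMap_apply,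
    Algebra.smul_def, mul_comm]

lemma polar_baseChangeForm_tmul [Module.Free R M] (Q : QuadraticForm R M) (a a' : A) (m m' : M) :
    QuadraticMap.polar (baseChangeForm A Q) (a ⊗ₜ[R] m) (a' ⊗ₜ[R] m') =
      a * a' * algebraMap R A (QuadraticMap.polar Q m m') := by
  rw [← baseChangeForm_eq A Q (bilinLift Q) (bilinLift_spec Q), LinearMap.BilinMap.polar_toQuadraticMap]
  conv_rhs => rw [← bilinLift_spec Q, LinearMap.BilinMap.polar_toQuadraticMap]
  rw [LinearMap.BilinForm.baseChange_tmul, LinearMap.BilinForm.baseChange_tmul, map_add,
    Algebra.smul_def, Algebra.smul_def]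
  ring

/-- The half-discriminant commutes with base change. -/
theorem halfDisc_baseChangeForm [Module.Free R M] (b : Module.Basis (Fin n) R M) (Q : QuadraticForm R M) :
    halfDisc (b.baseChange A) (LinearEquiv.refl A A) (baseChangeForm A Q) =
      algebraMap R A (halfDisc b (LinearEquiv.refl R R) Q) := by
  rw [halfDisc_eq_hdM b (bilinLift Q) Q (bilinLift_spec Q), hdM_map,
    halfDisc_eq_hdM (b.baseChange A) _ _ (baseChangeForm_eq A Q (bilinLift Q) (bilinLift_spec Q))]
  congr 1
  ext i j
  simp only [bmat, of_apply, map_apply, Module.Basis.baseChange_apply]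
  rw [LinearMap.BilinForm.baseChange_tmul, Algebra.smul_def, mul_one, mul_one]

end BaseChange

section Basis

variable {R : Type u} [CommRing R] {M : Type v} [AddCommGroup M] [Module R M] {n : ℕ}

/-- Change of basis. -/
theorem halfDisc_eq_det_sq_mul (hn : Odd n) (b b' : Module.Basis (Fin n) R M) (Q : QuadraticForm R M) :
    halfDisc b' (LinearEquiv.refl R R) Q =
      LinearMap.det (b.equiv b' (Equiv.refl _)).toLinearMap ^ 2 * halfDisc b (LinearEquiv.refl R R) Q := by
  rw [← halfDisc_comp hn b Q]
  have hB := QuadraticMap.toQuadraticMap_toBilin Q b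
  set B := Q.toBilin b
  set g := (b.equiv b' (Equiv.refl _)).toLinearMap with hg
  have hB' : LinearMap.BilinMap.toQuadraticMap (B.compl₁₂ g g) = Q.comp g := by
    ext x
    rw [← hB]
    rfl
  rw [halfDisc_eq_hdM b _ _ hB', halfDisc_eq_hdM b' _ _ hB]
  congr 1
  ext i j
  simp only [bmat, of_apply]
  change _ = B (g (b i)) (g (b j))
  simp [hg]

theorem isUnit_halfDisc_iff (hn : Odd n) (b b' : Module.Basis (Fin n) R M) (Q : QuadraticForm R M) :
    IsUnit (halfDisc b' (LinearEquiv.refl R R) Q) ↔ IsUnit (halfDisc b (LinearEquiv.refl R R) Q) := by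
  rw [halfDisc_eq_det_sq_mul hn b b' Q]
  have h : IsUnit (LinearMap.det (b.equiv b' (Equiv.refl _)).toLinearMap ^ 2) :=
    (LinearEquiv.isUnit_det' _).pow 2
  exact ⟨fun h' => isUnit_of_mul_isUnit_right h', fun h' => h.mul h'⟩

/-- The half-discriminant in a basis whose first vector is orthogonal to the others. -/
theorem halfDisc_of_ortho {m : ℕ} (hm : Even m) (b : Module.Basis (Fin (m + 1)) R M) (Q : QuadraticForm R M)
    (h : ∀ j : Fin m, QuadraticMap.polar Q (b 0) (b j.succ) = 0) :
    halfDisc b (LinearEquiv.refl R R) Q = Q (b 0) *
      (Matrix.of fun i j : Fin m => QuadraticMap.polar Q (b i.succ) (b j.succ)).det := by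
  have hB := QuadraticMap.toQuadraticMap_toBilin Q b
  set B := Q.toBilin b
  have hp : ∀ x y, QuadraticMap.polar Q x y = B x y + B y x := fun x y => by
    rw [← hB, LinearMap.BilinMap.polar_toQuadraticMap]
  rw [halfDisc_eq_hdM b B Q hB, hdM_block hm]
  · congr 1
    · rw [← hB]; rfl
    · congr 1
      ext i j
      simp only [bmat, of_apply, hp]
  · intro j
    rw [← h j, hp]
    rfl

end Basis

section Field

variable {k : Type u} [Field k] {V : Type v} [AddCommGroup V] [Module k V]

/-- a basis with prescribed first vector -/
lemma exists_basis_zero_eq {n : ℕ} (b : Module.Basis (Fin (n + 1)) k V) (x : V) (hx : x ≠ 0) :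
    ∃ b' : Module.Basis (Fin (n + 1)) k V, b' 0 = x := by
  have : Module.Finite k V := Module.Finite.of_basis b
  obtain ⟨W, hW⟩ := Submodule.exists_isCompl (k ∙ x)
  have h1 : Module.finrank k (k ∙ x) = 1 := finrank_span_singleton hx
  have h2 : Module.finrank k V = n + 1 := by rw [Module.finrank_eq_card_basis b, Fintype.card_fin]
  have h3 : Module.finrank k W = n := by
    have := Submodule.finrank_add_eq_of_isCompl hW
    omega
  let c : Module.Basis (Fin n) k W := Module.finBasisOfFinrankEq k W h3
  refine ⟨Module.Basis.mkFinCons x c ?_ ?_, ?_⟩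
  · intro a y hy h
    have h4 : a • x ∈ (k ∙ x) ⊓ W := by
      refine ⟨Submodule.smul_mem _ _ (Submodule.mem_span_singleton_self x), ?_⟩
      have : a • x = -y := eq_neg_of_add_eq_zero_left h
      rw [this]
      exact W.neg_mem hy
    rw [hW.inf_eq_bot, Submodule.mem_bot] at h4
    exact (smul_eq_zero.1 h4).resolve_right hx
  · intro z
    have h4 : z ∈ (k ∙ x) ⊔ W := by rw [hW.sup_eq_top]; trivial
    obtain ⟨y, hy, w, hw, rfl⟩ := Submodule.mem_sup.1 h4
    obtain ⟨a, rfl⟩ := Submodule.mem_span_singleton.1 hy
    exact ⟨-a, by simpa [add_comm, add_left_comm] using hw⟩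
  · rw [Module.Basis.coe_mkFinCons, Fin.cons_zero]

/-- Over a field, in odd rank: the half-discriminant is nonzero iff the form is nondegenerate. -/
theorem halfDisc_ne_zero_iff {m : ℕ} (hm : Even m) (b : Module.Basis (Fin (m + 1)) k V) (Q : QuadraticForm k V) :
    halfDisc b (LinearEquiv.refl k k) Q ≠ 0 ↔ QuadraticMap.Nondegenerate (Q := Q) := by
  have hodd : Odd (m + 1) := hm.add_one
  have : Module.Finite k V := Module.Finite.of_basis b
  have hinv : ∀ b' : Module.Basis (Fin (m + 1)) k V,
      halfDisc b (LinearEquiv.refl k k) Q ≠ 0 ↔ halfDisc b' (LinearEquiv.refl k k) Q ≠ 0 := fun b' => by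
    rw [← isUnit_iff_ne_zero, ← isUnit_iff_ne_zero, isUnit_halfDisc_iff hodd b' b]
  constructor
  · intro h
    constructor
    · rw [Submodule.eq_bot_iff]
      rintro x ⟨hx1, hx2⟩
      by_contra hx
      obtain ⟨b', hb'⟩ := exists_basis_zero_eq b x hx
      apply (hinv b').1 h
      rw [halfDisc_of_ortho hm, hb', hx1, zero_mul]
      intro j
      rw [hb']
      exact LinearMap.congr_fun hx2 (b' j.succ)
    · by_contra hr
      rw [not_le] at hr
      -- two independent vectors in the kernel
      have h1 : 1 < Module.finrank k (QuadraticMap.polarBilin Q).ker := by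
        rw [← Module.finrank_eq_rank] at hr
        exact_mod_cast hr
      have : Nontrivial (QuadraticMap.polarBilin Q).ker := by
        apply Module.nontrivial_of_finrank_pos (R := k)
        omega
      obtain ⟨⟨x, hxk⟩, hx⟩ := exists_ne (0 : (QuadraticMap.polarBilin Q).ker)
      have hx' : x ≠ 0 := fun h => hx (Subtype.ext h)
      obtain ⟨y, hyk, hy⟩ : ∃ y ∈ (QuadraticMap.polarBilin Q).ker, y ∉ (k ∙ x) := by
        by_contra hc
        push Not at hc
        have h2 : (QuadraticMap.polarBilin Q).ker ≤ (k ∙ x) := hc
        have h3 := Submodule.finrank_mono h2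
        rw [finrank_span_singleton hx'] at h3
        omega
      rw [LinearMap.mem_ker] at hxk hyk
      obtain ⟨b', hb'⟩ := exists_basis_zero_eq b x hx'
      apply (hinv b').1 h
      rw [halfDisc_of_ortho hm]
      · have h4 : (Matrix.of fun i j : Fin m => QuadraticMap.polar Q (b' i.succ) (b' j.succ)).det = 0 := by
          rw [← Matrix.exists_mulVec_eq_zero_iff]
          refine ⟨fun j => b'.repr y j.succ, ?_, ?_⟩
          · intro h0
            apply hy
            rw [Submodule.mem_span_singleton]
            refine ⟨b'.repr y 0, ?_⟩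
            conv_rhs => rw [← b'.sum_repr y, Fin.sum_univ_succ]
            rw [Finset.sum_eq_zero, add_zero, hb']
            intro j _
            have := congrFun h0 j
            simp only [Pi.zero_apply] at this
            rw [this, zero_smul]
          · ext i
            have h5 : QuadraticMap.polarBilin Q (b' i.succ) y = 0 := by
              rw [QuadraticMap.polarBilin_apply_apply, QuadraticMap.polar_comm]
              exact LinearMap.congr_fun hyk _
            have h6 : QuadraticMap.polarBilin Q (b' i.succ) x = 0 := by
              rw [QuadraticMap.polarBilin_apply_apply, QuadraticMap.polar_comm]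
              exact LinearMap.congr_fun hxk _
            rw [← b'.sum_repr y, Fin.sum_univ_succ, map_add, map_smul, hb', h6, smul_zero, zero_add,
              map_sum] at h5
            simp only [Matrix.mulVec, dotProduct, of_apply, Pi.zero_apply]
            rw [← h5]
            refine Finset.sum_congr rfl fun j _ => ?_
            rw [map_smul, smul_eq_mul, mul_comm]
            rfl
        rw [h4, mul_zero]
      · intro j
        rw [hb']
        exact LinearMap.congr_fun hxk _
  · intro hQ h
    have hdet : (Matrix.of fun i j => QuadraticMap.polar Q (b i) (b j)).det = 0 := by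
      have hB := QuadraticMap.toQuadraticMap_toBilin Q b
      rw [halfDisc_eq_hdM b _ _ hB] at h
      have h2 := two_mul_hdM hodd (bmat b (Q.toBilin b))
      rw [h, mul_zero] at h2
      rw [h2]
      congr 1
      ext i j
      rw [of_apply, Matrix.add_apply, transpose_apply]
      conv_lhs => rw [← hB, LinearMap.BilinMap.polar_toQuadraticMap]
      rfl
    obtain ⟨c, hc, hc'⟩ := Matrix.exists_mulVec_eq_zero_iff.2 hdet
    set x : V := ∑ i, c i • b i with hxdef
    have hx : x ≠ 0 := by
      intro h0
      apply hc
      have h3 : ∀ i, b.repr x i = c i := fun i => by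
        rw [hxdef, b.repr_sum_self]
      ext i
      rw [← h3, h0, map_zero]
      rfl
    have hxk : QuadraticMap.polarBilin Q x = 0 := by
      apply b.ext
      intro i
      have h3 := congrFun hc' i
      simp only [Matrix.mulVec, dotProduct, of_apply, Pi.zero_apply] at h3
      rw [LinearMap.zero_apply, QuadraticMap.polarBilin_apply_apply, QuadraticMap.polar_comm,
        ← QuadraticMap.polarBilin_apply_apply, hxdef, map_sum, ← h3]
      refine Finset.sum_congr rfl fun j _ => ?_
      rw [map_smul, smul_eq_mul, mul_comm]
      rfl
    obtain ⟨b', hb'⟩ := exists_basis_zero_eq b x hx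
    have hd : halfDisc b' (LinearEquiv.refl k k) Q = 0 := by
      by_contra h'
      exact (hinv b').2 h' h
    rw [halfDisc_of_ortho hm] at hd
    · rcases mul_eq_zero.1 hd with h4 | h4
      · have h5 : x ∈ Q.radical := ⟨by rw [← hb']; exact h4, hxk⟩
        rw [hQ.radical_eq_bot, Submodule.mem_bot] at h5
        exact hx h5
      · obtain ⟨d, hd0, hd'⟩ := Matrix.exists_mulVec_eq_zero_iff.2 h4
        set y : V := ∑ i, d i • b' i.succ with hydef
        have hyr : b'.repr y = Finsupp.equivFunOnFinite.symm (Fin.cons 0 d) := by
          apply Finsupp.ext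
          intro i
          have : y = ∑ i, (Fin.cons 0 d : Fin (m + 1) → k) i • b' i := by
            rw [Fin.sum_univ_succ]
            simp [hydef]
          rw [this, b'.repr_sum_self]
          rfl
        have hyk : QuadraticMap.polarBilin Q y = 0 := by
          apply b'.ext
          intro i
          rw [LinearMap.zero_apply]
          rcases Fin.eq_zero_or_eq_succ i with rfl | ⟨i, rfl⟩
          · rw [hb', QuadraticMap.polarBilin_apply_apply, QuadraticMap.polar_comm]
            exact LinearMap.congr_fun hxk _
          · have h3 := congrFun hd' i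
            simp only [Matrix.mulVec, dotProduct, of_apply, Pi.zero_apply] at h3
            rw [QuadraticMap.polarBilin_apply_apply, QuadraticMap.polar_comm,
              ← QuadraticMap.polarBilin_apply_apply, hydef, map_sum, ← h3]
            refine Finset.sum_congr rfl fun j _ => ?_
            rw [map_smul, smul_eq_mul, mul_comm]
            rfl
        -- x, y independent in the kernel
        have hli : LinearIndependent k ![(⟨x, hxk⟩ : (QuadraticMap.polarBilin Q).ker), ⟨y, hyk⟩] := by
          rw [LinearIndependent.pair_iff]
          intro s t hst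
          have h6 : s • x + t • y = 0 := congrArg Subtype.val hst
          have h7 := congrArg b'.repr h6
          rw [map_add, map_smul, map_smul, ← hb', b'.repr_self, hyr, map_zero] at h7
          obtain ⟨i, hi⟩ := Function.ne_iff.1 hd0
          have h8 := DFunLike.congr_fun h7 i.succ
          have h9 := DFunLike.congr_fun h7 0
          simp at h8 h9
          simp only [Pi.zero_apply] at hi
          refine ⟨?_, ?_⟩
          · simpa [Fin.succ_ne_zero] using h9
          · exact (h8.resolve_right hi)
        have h10 := hli.fintype_card_le_finrank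
        have h11 := hQ.rank_rad_polar_le
        rw [← Module.finrank_eq_rank] at h11
        have h12 : Module.finrank k (QuadraticMap.polarBilin Q).ker ≤ 1 := by exact_mod_cast h11
        rw [Fintype.card_fin] at h10
        omega
    · intro j
      rw [hb']
      exact LinearMap.congr_fun hxk _

end Field

end K918.HalfDisc
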