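import Groth.Agent.QuadGrp.K918.Infin
import Groth.Agent.QuadGrp.K918.HalfDisc2
import Mathlib.Algebra.DualNumber
import Mathlib.LinearAlgebra.Dimension.Constructions
import Mathlib.LinearAlgebra.FiniteDimensional.Defs

/-!
# An isometry commuting with the infinitesimal rotations over the dual numbers is a scalar
-/

set_option autoImplicit false
universe u v

namespace K918.Cliff

open CliffordAlgebra QuadGrp TensorProduct

variable {R : Type u} [CommRing R] {M : Type v} [AddCommGroup M] [Module R M] [Module.Free R M]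
  {Q : QuadraticForm R M}

local notation "R[ε]" => TrivSqZeroExt R R

lemma eps_mul : (DualNumber.eps : DualNumber R) * DualNumber.eps = 0 := DualNumber.eps_mul_eps

/-- the `ε`-coefficient of an element of `R[ε] ⊗ M` -/
noncomputable def epsCoeff : DualNumber R ⊗[R] M →ₗ[R] M :=
  (TensorProduct.lid R M).toLinearMap ∘ₗ LinearMap.rTensor M (TrivSqZeroExt.sndHom R R)

lemma epsCoeff_tmul (a : DualNumber R) (m : M) : epsCoeff (a ⊗ₜ[R] m) = TrivSqZeroExt.snd a • m := rfl

/-- commuting with `rot ε (1 ⊗ v) (1 ⊗ w)` -/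
theorem commutes_of_rot (g : M ≃ₗ[R] M) (v w : M)
    (h : g.baseChange R (DualNumber R) M M * rot (baseChangeForm (DualNumber R) Q) DualNumber.eps eps_mul
        (1 ⊗ₜ v) (1 ⊗ₜ w) =
      rot (baseChangeForm (DualNumber R) Q) DualNumber.eps eps_mul (1 ⊗ₜ v) (1 ⊗ₜ w) *
        g.baseChange R (DualNumber R) M M) (x : M) :
    QuadraticMap.polar Q v x • g w - QuadraticMap.polar Q w x • g v =
      QuadraticMap.polar Q v (g x) • w - QuadraticMap.polar Q w (g x) • v := by
  have h1 := LinearEquiv.congr_fun h (1 ⊗ₜ[R] x)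
  have hp : ∀ a c : M, QuadraticMap.polar (baseChangeForm (DualNumber R) Q)
      ((1 : DualNumber R) ⊗ₜ[R] a) ((1 : DualNumber R) ⊗ₜ[R] c) = algebraMap R _ (QuadraticMap.polar Q a c) :=
    fun a c => by rw [HalfDisc.polar_baseChangeForm_tmul, one_mul, one_mul]
  rw [LinearEquiv.mul_apply, LinearEquiv.mul_apply, rot_apply, LinearEquiv.baseChange_tmul, rot_apply,
    X_apply, X_apply, hp, hp, hp, hp, map_add, map_smul, map_sub, map_smul, map_smul,
    LinearEquiv.baseChange_tmul, LinearEquiv.baseChange_tmul, LinearEquiv.baseChange_tmul] at h1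
  have h2 := add_left_cancel h1
  have h3 := congrArg (epsCoeff (R := R) (M := M)) h2
  simp only [TensorProduct.smul_tmul', smul_sub, map_sub, epsCoeff_tmul, smul_eq_mul, mul_one] at h3
  have h4 : ∀ r : R, TrivSqZeroExt.snd ((DualNumber.eps : DualNumber R) * algebraMap R (DualNumber R) r) = r := by
    intro r
    rw [← Algebra.commutes, ← Algebra.smul_def]
    simp
  simpa only [h4] using h3

end K918.Cliff
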