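import Groth.Agent.QuadGrp.K918.RepFam
import Groth.Agent.QuadGrp.K918.HalfDisc2
import Groth.Agent.QuadGrp.K918.Center
import Groth.Agent.QuadGrp.K916.BC

/-!
# Points of subgroup functors of Clifford units: coordinates, naturality, representability

`cA`, `eA`: the base change of Clifford algebras for `baseChangeForm A Q`; `F φ : C(Q_A) → C(Q_B)`; `op L A` the base
change of a linear operator; `crd`: coordinates; `affine_lfp_of_cliffRep`: a group scheme which is the Clifford group or
the Pin group is affine of finite presentation.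
-/

set_option autoImplicit false
universe u
open CategoryTheory CategoryTheory.Limits AlgebraicGeometry

namespace K918.Pts

open CliffordAlgebra QuadGrp TensorProduct K916.BC K918.Cliff

variable {R : Type u} [CommRing R] {M : Type u} [AddCommGroup M] [Module R M] [Module.Free R M]
  (Q : QuadraticForm R M)

section Base

variable (A : Type u) [CommRing A] [Algebra R A]

theorem isBC : IsBC A Q (baseChangeForm A Q) (TensorProduct.mk R A M 1) where
  isBaseChange := TensorProduct.isBaseChange R M A
  compat m := by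
    change baseChangeForm A Q (1 ⊗ₜ m) = _
    rw [K918.HalfDisc.baseChangeForm_tmul, one_mul, one_mul]

/-- `C(Q) → C(Q_A)` -/
noncomputable abbrev cA : CliffordAlgebra Q →ₐ[R] CliffordAlgebra (baseChangeForm A Q) := cmap (isBC Q A).compat

/-- `A ⊗ C(Q) ≃ C(Q_A)` -/
noncomputable def eA : A ⊗[R] CliffordAlgebra Q ≃ₐ[A] CliffordAlgebra (baseChangeForm A Q) := equivBC (isBC Q A)

theorem eA_tmul (a : A) (x : CliffordAlgebra Q) : eA Q A (a ⊗ₜ x) = a • cA Q A x := equivBC_tmul (isBC Q A) a x

theorem eA_symm_smul (a : A) (x : CliffordAlgebra Q) : (eA Q A).symm (a • cA Q A x) = a ⊗ₜ x := by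
  rw [← eA_tmul, AlgEquiv.symm_apply_apply]

theorem ι_tmul (a : A) (m : M) : ι (baseChangeForm A Q) (a ⊗ₜ m) = a • cA Q A (ι Q m) := by
  rw [cmap_ι, ← map_smul]
  congr 1
  change _ = a • ((1 : A) ⊗ₜ[R] m)
  rw [smul_tmul', smul_eq_mul, mul_one]

variable {Q A} in
theorem ind {motive : CliffordAlgebra (baseChangeForm A Q) → Prop} (zero : motive 0)
    (smul : ∀ (a : A) (y : CliffordAlgebra Q), motive (a • cA Q A y)) (add : ∀ x y, motive x → motive y → motive (x + y))
    (x : CliffordAlgebra (baseChangeForm A Q)) : motive x := by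
  obtain ⟨t, rfl⟩ := (eA Q A).surjective x
  induction t with
  | zero => rw [map_zero]; exact zero
  | tmul a y => rw [eA_tmul]; exact smul a y
  | add x y hx hy => rw [map_add]; exact add _ _ hx hy

end Base

section Maps

variable {A B : Type u} [CommRing A] [Algebra R A] [CommRing B] [Algebra R B] (φ : A →ₐ[R] B)

/-- the algebra map `C(Q_A) → C(Q_B)` over `φ` -/
noncomputable def F : CliffordAlgebra (baseChangeForm A Q) →ₐ[R] CliffordAlgebra (baseChangeForm B Q) :=
  (((eA Q B).restrictScalars R).toAlgHom.comp (Algebra.TensorProduct.map φ (AlgHom.id R _))).comp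
    ((eA Q A).symm.restrictScalars R).toAlgHom

theorem F_smul_cA (a : A) (x : CliffordAlgebra Q) : F Q φ (a • cA Q A x) = φ a • cA Q B x := by
  change eA Q B (Algebra.TensorProduct.map φ (AlgHom.id R _) ((eA Q A).symm (a • cA Q A x))) = _
  rw [eA_symm_smul, Algebra.TensorProduct.map_tmul, eA_tmul]
  rfl

theorem F_ι (v : A ⊗[R] M) : F Q φ (ι _ v) = ι _ (LinearMap.rTensor M φ.toLinearMap v) := by
  induction v with
  | zero => simp
  | tmul a m => rw [ι_tmul, F_smul_cA, LinearMap.rTensor_tmul, ι_tmul]; rfl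
  | add x y hx hy => rw [map_add, map_add, hx, hy, map_add, map_add]

theorem F_algebraMap (a : A) : F Q φ (algebraMap A _ a) = algebraMap B _ (φ a) := by
  have h := F_smul_cA Q φ a 1
  rwa [map_one, map_one, ← Algebra.algebraMap_eq_smul_one, ← Algebra.algebraMap_eq_smul_one] at h

theorem F_smul (a : A) (x : CliffordAlgebra (baseChangeForm A Q)) : F Q φ (a • x) = φ a • F Q φ x := by
  rw [Algebra.smul_def, map_mul, F_algebraMap, ← Algebra.smul_def]

theorem F_star (x : CliffordAlgebra (baseChangeForm A Q)) : F Q φ (star x) = star (F Q φ x) := by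
  induction x using ind with
  | zero => rw [star_zero, map_zero, star_zero]
  | smul a y =>
    rw [CliffordAlgebra.star_smul, ← cmap_star, F_smul_cA, F_smul_cA, cmap_star, CliffordAlgebra.star_smul]
  | add x y hx hy => rw [star_add, map_add, hx, hy, map_add, star_add]

end Maps

section Op

variable {Q}

/-- base change of a linear operator on the Clifford algebra -/
noncomputable def op (L : CliffordAlgebra Q →ₗ[R] CliffordAlgebra Q) (A : Type u) [CommRing A] [Algebra R A] :
    CliffordAlgebra (baseChangeForm A Q) →ₗ[A] CliffordAlgebra (baseChangeForm A Q) :=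
  (eA Q A).toLinearEquiv.toLinearMap ∘ₗ L.baseChange A ∘ₗ (eA Q A).symm.toLinearEquiv.toLinearMap

variable (L : CliffordAlgebra Q →ₗ[R] CliffordAlgebra Q)
variable {A B : Type u} [CommRing A] [Algebra R A] [CommRing B] [Algebra R B]

theorem op_smul_cA (a : A) (x : CliffordAlgebra Q) : op L A (a • cA Q A x) = a • cA Q A (L x) := by
  change eA Q A (L.baseChange A ((eA Q A).symm (a • cA Q A x))) = _
  rw [eA_symm_smul, LinearMap.baseChange_tmul, eA_tmul]

theorem op_nat (φ : A →ₐ[R] B) (x : CliffordAlgebra (baseChangeForm A Q)) : op L B (F Q φ x) = F Q φ (op L A x) := by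
  induction x using ind with
  | zero => simp only [map_zero]
  | smul a y => rw [op_smul_cA, F_smul_cA, F_smul_cA, op_smul_cA]
  | add x y hx hy => rw [map_add, map_add, hx, hy, map_add, map_add]

/-- membership in the vectors -/
theorem mem_range_iff (hL1 : ∀ x, L x ∈ LinearMap.range (ι Q)) (hL2 : ∀ m, L (ι Q m) = ι Q m)
    (x : CliffordAlgebra (baseChangeForm A Q)) : x ∈ LinearMap.range (ι (baseChangeForm A Q)) ↔ x - op L A x = 0 := by
  rw [sub_eq_zero]
  constructor
  · rintro ⟨v, rfl⟩
    induction v with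
    | zero => simp
    | tmul a m => rw [ι_tmul, op_smul_cA, hL2]
    | add x y hx hy => rw [map_add, map_add, ← hx, ← hy]
  · intro h
    rw [h]
    clear h
    induction x using ind with
    | zero => rw [map_zero]; exact Submodule.zero_mem _
    | smul a y =>
      rw [op_smul_cA]
      obtain ⟨m, hm⟩ := hL1 y
      rw [← hm, cmap_ι]
      exact Submodule.smul_mem _ _ ⟨_, rfl⟩
    | add x y hx hy => rw [map_add]; exact Submodule.add_mem _ hx hy

variable (Q) in
theorem exists_proj : ∃ π : CliffordAlgebra Q →ₗ[R] CliffordAlgebra Q,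
    (∀ x, π x ∈ evenOdd Q 0) ∧ ∀ x, x - π x ∈ evenOdd Q 1 := by
  have h := evenOdd_isCompl Q
  refine ⟨(evenOdd Q 0).subtype ∘ₗ Submodule.projectionOnto _ _ h, fun x => Submodule.coe_mem _, fun x => ?_⟩
  obtain ⟨y, hy, z, hz, rfl⟩ := Submodule.mem_sup.1 (show x ∈ evenOdd Q 0 ⊔ evenOdd Q 1 by rw [h.sup_eq_top]; trivial)
  have h1 : Submodule.projectionOnto _ _ h y = ⟨y, hy⟩ := Submodule.projectionOnto_apply_left h ⟨y, hy⟩
  have h2 : Submodule.projectionOnto _ _ h z = 0 := Submodule.projectionOnto_apply_right h ⟨z, hz⟩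
  change y + z - ((Submodule.projectionOnto _ _ h (y + z) : evenOdd Q 0) : CliffordAlgebra Q) ∈ _
  rw [map_add, h1, h2, add_zero]
  simpa using hz

variable {L} (hL0 : ∀ x, L x ∈ evenOdd Q 0) (hL1 : ∀ x, x - L x ∈ evenOdd Q 1)

include hL0 in
theorem op_mem_even (x : CliffordAlgebra (baseChangeForm A Q)) : op L A x ∈ evenOdd (baseChangeForm A Q) 0 := by
  induction x using ind with
  | zero => rw [map_zero]; exact Submodule.zero_mem _
  | smul a y =>
    rw [op_smul_cA]
    exact Submodule.smul_mem _ _ (cmap_mem_evenOdd _ _ (hL0 y))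
  | add x y hx hy => rw [map_add]; exact Submodule.add_mem _ hx hy

include hL1 in
theorem sub_op_mem_odd (x : CliffordAlgebra (baseChangeForm A Q)) : x - op L A x ∈ evenOdd (baseChangeForm A Q) 1 := by
  induction x using ind with
  | zero => rw [map_zero, sub_zero]; exact Submodule.zero_mem _
  | smul a y =>
    rw [op_smul_cA, ← smul_sub, ← map_sub]
    exact Submodule.smul_mem _ _ (cmap_mem_evenOdd _ _ (hL1 y))
  | add x y hx hy =>
    rw [map_add, add_sub_add_comm]
    exact Submodule.add_mem _ hx hy

include hL0 hL1 in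
theorem mem_even_iff (x : CliffordAlgebra (baseChangeForm A Q)) :
    x ∈ evenOdd (baseChangeForm A Q) 0 ↔ x - op L A x = 0 := by
  constructor
  · intro h
    exact eq_zero_of_mem_evenOdd (Submodule.sub_mem _ h (op_mem_even hL0 x)) (sub_op_mem_odd hL1 x)
  · intro h
    rw [sub_eq_zero.1 h]
    exact op_mem_even hL0 x

include hL0 hL1 in
theorem mem_odd_iff (x : CliffordAlgebra (baseChangeForm A Q)) :
    x ∈ evenOdd (baseChangeForm A Q) 1 ↔ op L A x = 0 := by
  constructor
  · intro h
    refine eq_zero_of_mem_evenOdd (op_mem_even hL0 x) ?_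
    have := Submodule.sub_mem _ h (sub_op_mem_odd hL1 x)
    rwa [sub_sub_cancel] at this
  · intro h
    have := sub_op_mem_odd hL1 x
    rwa [h, sub_zero] at this

end Op

section Crd

variable {Q} {ι' : Type} [Finite ι'] (b : Module.Basis ι' R (CliffordAlgebra Q))

/-- coordinates on `C(Q_A)` -/
noncomputable def crd (A : Type u) [CommRing A] [Algebra R A] :
    CliffordAlgebra (baseChangeForm A Q) ≃ₗ[A] (ι' → A) :=
  ((b.baseChange A).map (eA Q A).toLinearEquiv).equivFun

variable {A B : Type u} [CommRing A] [Algebra R A] [CommRing B] [Algebra R B]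

theorem crd_smul_cA (a : A) (x : CliffordAlgebra Q) (i : ι') : crd b A (a • cA Q A x) i = b.repr x i • a := by
  change (b.baseChange A).repr ((eA Q A).symm (a • cA Q A x)) i = _
  rw [eA_symm_smul, Module.Basis.baseChange_repr_tmul]

theorem crd_nat (φ : A →ₐ[R] B) (x : CliffordAlgebra (baseChangeForm A Q)) (i : ι') :
    crd b B (F Q φ x) i = φ (crd b A x i) := by
  induction x using ind with
  | zero => simp
  | smul a y => rw [F_smul_cA, crd_smul_cA, crd_smul_cA, map_smul]
  | add x y hx hy => rw [map_add, map_add, map_add, Pi.add_apply, hx, hy, Pi.add_apply, map_add]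

theorem crd_symm_nat (φ : A →ₐ[R] B) (x : ι' → A) :
    (crd b B).symm (fun i => φ (x i)) = F Q φ ((crd b A).symm x) := by
  rw [LinearEquiv.symm_apply_eq]
  funext i
  rw [crd_nat, LinearEquiv.apply_symm_apply]

end Crd

end K918.Pts
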