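import Groth.Agent.QuadGrp.K918.CliffPts

/-!
# The Clifford group scheme and the Pin group scheme are affine of finite presentation
-/

set_option autoImplicit false
universe u
open CategoryTheory CategoryTheory.Limits AlgebraicGeometry

namespace K918.Pts

open CliffordAlgebra QuadGrp TensorProduct K916.BC K918.Cliff K918.Rep

variable {R : Type u} [CommRing R] {M : Type u} [AddCommGroup M] [Module R M] [Module.Free R M]
  {Q : QuadraticForm R M} {n : ℕ} (c : Fin n → M) (q π : CliffordAlgebra Q →ₗ[R] CliffordAlgebra Q) (pin : Bool)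

/-- the equations of the Clifford group (`pin = false`) or of the Pin group (`pin = true`): `X Y = 1 = Y X`, `e` is
idempotent, `e X` is even and `(1 - e) X` is odd, `X`, `Y` normalise the vectors, [`star X * X = 1`]. -/
noncomputable def eqs {A : Type u} [CommRing A] [Algebra R A] (X Y : CliffordAlgebra (baseChangeForm A Q)) (e : A) :
    Fin 6 ⊕ (Fin n ⊕ Fin n) → CliffordAlgebra (baseChangeForm A Q) :=
  Sum.elim ![X * Y - 1, Y * X - 1, algebraMap A _ (e * e - e), e • X - op π A (e • X), op π A ((1 - e) • X),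
      if pin = true then star X * X - 1 else 0]
    (Sum.elim (fun j => X * ι _ ((1 : A) ⊗ₜ[R] c j) * Y - op q A (X * ι _ ((1 : A) ⊗ₜ[R] c j) * Y))
      (fun j => Y * ι _ ((1 : A) ⊗ₜ[R] c j) * X - op q A (Y * ι _ ((1 : A) ⊗ₜ[R] c j) * X)))

section Nat

variable {A B : Type u} [CommRing A] [Algebra R A] [CommRing B] [Algebra R B]

omit [Module.Free R M] in
theorem F_one_tmul [Module.Free R M] (φ : A →ₐ[R] B) (m : M) :
    F Q φ (ι _ ((1 : A) ⊗ₜ[R] m)) = ι _ ((1 : B) ⊗ₜ[R] m) := by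
  rw [F_ι, LinearMap.rTensor_tmul]
  congr 2
  exact map_one φ

theorem eqs_nat (φ : A →ₐ[R] B) (X Y : CliffordAlgebra (baseChangeForm A Q)) (e : A)
    (k : Fin 6 ⊕ (Fin n ⊕ Fin n)) :
    eqs c q π pin (F Q φ X) (F Q φ Y) (φ e) k = F Q φ (eqs c q π pin X Y e k) := by
  rcases k with k | k | k
  · fin_cases k
    · change F Q φ X * F Q φ Y - 1 = F Q φ (X * Y - 1)
      rw [map_sub, map_mul, map_one]
    · change F Q φ Y * F Q φ X - 1 = F Q φ (Y * X - 1)
      rw [map_sub, map_mul, map_one]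
    · change algebraMap B _ (φ e * φ e - φ e) = F Q φ (algebraMap A _ (e * e - e))
      rw [F_algebraMap, map_sub φ, map_mul φ]
    · change φ e • F Q φ X - op π B (φ e • F Q φ X) = F Q φ (e • X - op π A (e • X))
      rw [map_sub, ← F_smul, op_nat]
    · change op π B ((1 - φ e) • F Q φ X) = F Q φ (op π A ((1 - e) • X))
      rw [← op_nat, F_smul, map_sub, map_one]
    · change (if pin = true then star (F Q φ X) * F Q φ X - 1 else 0) =
        F Q φ (if pin = true then star X * X - 1 else 0)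
      split_ifs
      · rw [map_sub, map_mul, map_one, F_star]
      · rw [map_zero]
  · change F Q φ X * ι _ ((1 : B) ⊗ₜ[R] c k) * F Q φ Y - op q B (F Q φ X * ι _ ((1 : B) ⊗ₜ[R] c k) * F Q φ Y) =
      F Q φ (X * ι _ ((1 : A) ⊗ₜ[R] c k) * Y - op q A (X * ι _ ((1 : A) ⊗ₜ[R] c k) * Y))
    rw [← F_one_tmul φ, ← map_mul, ← map_mul, op_nat, map_sub]
  · change F Q φ Y * ι _ ((1 : B) ⊗ₜ[R] c k) * F Q φ X - op q B (F Q φ Y * ι _ ((1 : B) ⊗ₜ[R] c k) * F Q φ X) =
      F Q φ (Y * ι _ ((1 : A) ⊗ₜ[R] c k) * X - op q A (Y * ι _ ((1 : A) ⊗ₜ[R] c k) * X))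
    rw [← F_one_tmul φ, ← map_mul, ← map_mul, op_nat, map_sub]

end Nat

section Sol

variable (hq1 : ∀ x, q x ∈ LinearMap.range (ι Q)) (hq2 : ∀ m, q (ι Q m) = ι Q m)
  (hπ0 : ∀ x, π x ∈ evenOdd Q 0) (hπ1 : ∀ x, x - π x ∈ evenOdd Q 1) (hc : Submodule.span R (Set.range c) = ⊤)
variable (A : Type u) [CommRing A] [Algebra R A]

include hc in
theorem conj_mem (X Y : CliffordAlgebra (baseChangeForm A Q))
    (h : ∀ j, X * ι _ ((1 : A) ⊗ₜ[R] c j) * Y ∈ LinearMap.range (ι (baseChangeForm A Q))) (v : A ⊗[R] M) :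
    X * ι _ v * Y ∈ LinearMap.range (ι (baseChangeForm A Q)) := by
  have h1 : ∀ m : M, X * ι _ ((1 : A) ⊗ₜ[R] m) * Y ∈ LinearMap.range (ι (baseChangeForm A Q)) := by
    intro m
    have hm : m ∈ Submodule.span R (Set.range c) := by rw [hc]; trivial
    induction hm using Submodule.span_induction with
    | mem x hx => obtain ⟨j, rfl⟩ := hx; exact h j
    | zero => rw [tmul_zero, map_zero, mul_zero, zero_mul]; exact Submodule.zero_mem _
    | add x y _ _ hx hy => rw [tmul_add, map_add, mul_add, add_mul]; exact Submodule.add_mem _ hx hy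
    | smul r x _ hx =>
      rw [tmul_smul, ← algebraMap_smul A r ((1 : A) ⊗ₜ[R] x), map_smul, mul_smul_comm, smul_mul_assoc]
      exact Submodule.smul_mem _ _ hx
  induction v with
  | zero => rw [map_zero, mul_zero, zero_mul]; exact Submodule.zero_mem _
  | tmul a m =>
    have : a ⊗ₜ[R] m = a • ((1 : A) ⊗ₜ[R] m) := by rw [smul_tmul', smul_eq_mul, mul_one]
    rw [this, map_smul, mul_smul_comm, smul_mul_assoc]
    exact Submodule.smul_mem _ _ (h1 m)
  | add x y hx hy => rw [map_add, mul_add, add_mul]; exact Submodule.add_mem _ hx hy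

omit [Module.Free R M] in
theorem mem_GPin'_iff_conj {Q : QuadraticForm R M} (u : (CliffordAlgebra Q)ˣ) :
    u ∈ GPin' Q ↔ (∀ v, (u : CliffordAlgebra Q) * ι Q v * ↑u⁻¹ ∈ LinearMap.range (ι Q)) ∧
      ∀ v, ↑u⁻¹ * ι Q v * (u : CliffordAlgebra Q) ∈ LinearMap.range (ι Q) := by
  rw [mem_GPin'_iff]
  constructor
  · rintro ⟨h1, h2⟩
    refine ⟨fun v => ?_, fun v => ?_⟩
    · obtain ⟨w, hw⟩ := h1 v
      exact ⟨w, by rw [hw, mul_assoc, Units.mul_inv, mul_one]⟩
    · obtain ⟨w, hw⟩ := h2 v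
      exact ⟨w, by rw [mul_assoc, ← hw, ← mul_assoc, Units.inv_mul, one_mul]⟩
  · rintro ⟨h1, h2⟩
    refine ⟨fun v => ?_, fun v => ?_⟩
    · obtain ⟨w, hw⟩ := h1 v
      exact ⟨w, by rw [hw, mul_assoc, Units.inv_mul, mul_one]⟩
    · obtain ⟨w, hw⟩ := h2 v
      refine ⟨w, ?_⟩
      rw [hw, mul_assoc, ← mul_assoc, Units.mul_inv, one_mul]

include hq1 hq2 hπ0 hπ1 hc in
/-- the equations define the group -/
theorem eqs_iff (u : (CliffordAlgebra (baseChangeForm A Q))ˣ) (e : A) :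
    (∀ k, eqs c q π pin (u : CliffordAlgebra (baseChangeForm A Q)) ↑u⁻¹ e k = 0) ↔
      (u ∈ GPin' (baseChangeForm A Q) ∧ (IsIdempotentElem e ∧ e • (u : CliffordAlgebra (baseChangeForm A Q)) ∈
        evenOdd (baseChangeForm A Q) 0 ∧ (1 - e) • (u : CliffordAlgebra (baseChangeForm A Q)) ∈
          evenOdd (baseChangeForm A Q) 1)) ∧
        (pin = true → star (u : CliffordAlgebra (baseChangeForm A Q)) * u = 1) := by
  constructor
  · intro h
    have h2 : algebraMap A (CliffordAlgebra (baseChangeForm A Q)) (e * e - e) = 0 := h (Sum.inl 2)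
    have h3 : e • (u : CliffordAlgebra (baseChangeForm A Q)) - op π A (e • (u : CliffordAlgebra (baseChangeForm A Q))) = 0 :=
      h (Sum.inl 3)
    have h4 : op π A ((1 - e) • (u : CliffordAlgebra (baseChangeForm A Q))) = 0 := h (Sum.inl 4)
    have h5 : (if pin = true then star (u : CliffordAlgebra (baseChangeForm A Q)) * u - 1 else 0) = 0 := h (Sum.inl 5)
    refine ⟨⟨?_, ?_, ?_, ?_⟩, ?_⟩
    · rw [mem_GPin'_iff_conj]
      refine ⟨conj_mem c hc A _ _ fun j => ?_, conj_mem c hc A _ _ fun j => ?_⟩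
      · rw [mem_range_iff q hq1 hq2]
        exact h (Sum.inr (Sum.inl j))
      · rw [mem_range_iff q hq1 hq2]
        exact h (Sum.inr (Sum.inr j))
    · rw [← map_zero (algebraMap A _)] at h2
      exact sub_eq_zero.1 (algebraMap_inj h2)
    · rw [mem_even_iff hπ0 hπ1]; exact h3
    · rw [mem_odd_iff hπ0 hπ1]; exact h4
    · intro hp
      rw [if_pos hp] at h5
      exact sub_eq_zero.1 h5
  · rintro ⟨⟨h1, h2, h3, h4⟩, h5⟩ k
    rw [mem_GPin'_iff_conj] at h1
    rcases k with k | k | k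
    · fin_cases k
      · change (u : CliffordAlgebra (baseChangeForm A Q)) * ↑u⁻¹ - 1 = 0
        rw [Units.mul_inv, sub_self]
      · change ↑u⁻¹ * (u : CliffordAlgebra (baseChangeForm A Q)) - 1 = 0
        rw [Units.inv_mul, sub_self]
      · change algebraMap A (CliffordAlgebra (baseChangeForm A Q)) (e * e - e) = 0
        rw [show e * e = e from h2, sub_self, map_zero]
      · exact (mem_even_iff hπ0 hπ1 _).1 h3
      · exact (mem_odd_iff hπ0 hπ1 _).1 h4
      · change (if pin = true then star (u : CliffordAlgebra (baseChangeForm A Q)) * u - 1 else 0) = 0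
        split_ifs with hp
        · rw [h5 hp, sub_self]
        · rfl
    · exact (mem_range_iff q hq1 hq2 _).1 (h1.1 _)
    · exact (mem_range_iff q hq1 hq2 _).1 (h1.2 _)

omit [Module.Free R M] in
/-- the idempotent of a locally homogeneous unit is unique -/
theorem idem_unique [Module.Free R M] {Q : QuadraticForm R M} (u : (CliffordAlgebra Q)ˣ) {e f : R}
    (_he : IsIdempotentElem e) (he0 : e • (u : CliffordAlgebra Q) ∈ evenOdd Q 0)
    (he1 : (1 - e) • (u : CliffordAlgebra Q) ∈ evenOdd Q 1) (_hf : IsIdempotentElem f)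
    (hf0 : f • (u : CliffordAlgebra Q) ∈ evenOdd Q 0) (hf1 : (1 - f) • (u : CliffordAlgebra Q) ∈ evenOdd Q 1) :
    e = f := by
  have key : ∀ {e f : R}, e • (u : CliffordAlgebra Q) ∈ evenOdd Q 0 → (1 - f) • (u : CliffordAlgebra Q) ∈ evenOdd Q 1 →
      e * (1 - f) = 0 := by
    intro e f h0 h1
    have h2 : (e * (1 - f)) • (u : CliffordAlgebra Q) = 0 := by
      apply eq_zero_of_mem_evenOdd
      · rw [mul_comm, mul_smul]; exact Submodule.smul_mem _ _ h0
      · rw [mul_smul]; exact Submodule.smul_mem _ _ h1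
    have h3 : algebraMap R (CliffordAlgebra Q) (e * (1 - f)) = algebraMap R _ 0 := by
      rw [map_zero, ← mul_one (algebraMap R (CliffordAlgebra Q) (e * (1 - f))), ← Units.mul_inv u, ← mul_assoc,
        ← Algebra.smul_def, h2, zero_mul]
    exact algebraMap_inj h3
  have k1 := key he0 hf1
  have k2 := key hf0 he1
  linear_combination k1 - k2

end Sol

section Family

variable {ι' : Type} [Finite ι'] (b : Module.Basis ι' R (CliffordAlgebra Q))

/-- the natural family of equations in coordinates -/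
noncomputable def fam : Fam R ((ι' ⊕ ι') ⊕ Unit) ((Fin 6 ⊕ (Fin n ⊕ Fin n)) × ι') where
  E A _ _ x k := crd b A (eqs c q π pin ((crd b A).symm fun i => x (Sum.inl (Sum.inl i)))
    ((crd b A).symm fun i => x (Sum.inl (Sum.inr i))) (x (Sum.inr ())) k.1) k.2
  nat A B _ _ _ _ φ x := by
    funext k
    change crd b B (eqs c q π pin ((crd b B).symm fun i => φ (x (Sum.inl (Sum.inl i))))
      ((crd b B).symm fun i => φ (x (Sum.inl (Sum.inr i)))) (φ (x (Sum.inr ()))) k.1) k.2 = _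
    rw [crd_symm_nat b φ (fun i => x (Sum.inl (Sum.inl i))), crd_symm_nat b φ (fun i => x (Sum.inl (Sum.inr i))),
      eqs_nat, crd_nat]

variable (A : Type u) [CommRing A] [Algebra R A]

theorem fam_eq_zero_iff (x : (ι' ⊕ ι') ⊕ Unit → A) :
    (fam c q π pin b).E A x = 0 ↔ ∀ k, eqs c q π pin ((crd b A).symm fun i => x (Sum.inl (Sum.inl i)))
      ((crd b A).symm fun i => x (Sum.inl (Sum.inr i))) (x (Sum.inr ())) k = 0 := by
  constructor
  · intro h k
    have h1 : crd b A (eqs c q π pin ((crd b A).symm fun i => x (Sum.inl (Sum.inl i)))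
      ((crd b A).symm fun i => x (Sum.inl (Sum.inr i))) (x (Sum.inr ())) k) = 0 := by
      funext i
      exact congrFun h (k, i)
    exact (LinearEquiv.map_eq_zero_iff _).1 h1
  · intro h
    funext k
    change crd b A (eqs c q π pin ((crd b A).symm fun i => x (Sum.inl (Sum.inl i)))
      ((crd b A).symm fun i => x (Sum.inl (Sum.inr i))) (x (Sum.inr ())) k.1) k.2 = 0
    rw [h, map_zero]
    rfl

variable (hq1 : ∀ x, q x ∈ LinearMap.range (ι Q)) (hq2 : ∀ m, q (ι Q m) = ι Q m)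
  (hπ0 : ∀ x, π x ∈ evenOdd Q 0) (hπ1 : ∀ x, x - π x ∈ evenOdd Q 1) (hc : Submodule.span R (Set.range c) = ⊤)
  (T : ∀ (A : Type u) [CommRing A] [Algebra R A], Subgroup (CliffordAlgebra (baseChangeForm A Q))ˣ)
  (hT : ∀ (A : Type u) [CommRing A] [Algebra R A] (u : (CliffordAlgebra (baseChangeForm A Q))ˣ),
    u ∈ T A ↔ u ∈ GPin (baseChangeForm A Q) ∧
      (pin = true → star (u : CliffordAlgebra (baseChangeForm A Q)) * u = 1))

/-- the coordinates of a unit with its idempotent -/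
noncomputable def tup (u : (CliffordAlgebra (baseChangeForm A Q))ˣ) (e : A) : (ι' ⊕ ι') ⊕ Unit → A :=
  Sum.elim (Sum.elim (crd b A u) (crd b A ↑u⁻¹)) fun _ => e

include hT in
theorem exists_idem (u : (CliffordAlgebra (baseChangeForm A Q))ˣ) (hu : u ∈ T A) :
    ∃ e : A, IsIdempotentElem e ∧ e • (u : CliffordAlgebra (baseChangeForm A Q)) ∈
        evenOdd (baseChangeForm A Q) 0 ∧ (1 - e) • (u : CliffordAlgebra (baseChangeForm A Q)) ∈
          evenOdd (baseChangeForm A Q) 1 := ((hT A u).1 hu).1.2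

include hq1 hq2 hπ0 hπ1 hc in
theorem tup_sol (u : (CliffordAlgebra (baseChangeForm A Q))ˣ) (e : A)
    (h : (u ∈ GPin' (baseChangeForm A Q) ∧ (IsIdempotentElem e ∧ e • (u : CliffordAlgebra (baseChangeForm A Q)) ∈
        evenOdd (baseChangeForm A Q) 0 ∧ (1 - e) • (u : CliffordAlgebra (baseChangeForm A Q)) ∈
          evenOdd (baseChangeForm A Q) 1)) ∧
        (pin = true → star (u : CliffordAlgebra (baseChangeForm A Q)) * u = 1)) :
    (fam c q π pin b).E A (tup b A u e) = 0 := by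
  rw [fam_eq_zero_iff]
  have h1 : (crd b A).symm (fun i => tup b A u e (Sum.inl (Sum.inl i))) = u := (crd b A).symm_apply_apply _
  have h2 : (crd b A).symm (fun i => tup b A u e (Sum.inl (Sum.inr i))) = ↑u⁻¹ := (crd b A).symm_apply_apply _
  rw [h1, h2]
  exact (eqs_iff c q π pin hq1 hq2 hπ0 hπ1 hc A u e).2 h

/-- the unit of a solution -/
noncomputable def solUnit (x : {x : (ι' ⊕ ι') ⊕ Unit → A // (fam c q π pin b).E A x = 0}) :
    (CliffordAlgebra (baseChangeForm A Q))ˣ where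
  val := (crd b A).symm fun i => x.1 (Sum.inl (Sum.inl i))
  inv := (crd b A).symm fun i => x.1 (Sum.inl (Sum.inr i))
  val_inv := sub_eq_zero.1 ((fam_eq_zero_iff c q π pin b A x.1).1 x.2 (Sum.inl 0))
  inv_val := sub_eq_zero.1 ((fam_eq_zero_iff c q π pin b A x.1).1 x.2 (Sum.inl 1))

include hq1 hq2 hπ0 hπ1 hc in
theorem solUnit_spec (x : {x : (ι' ⊕ ι') ⊕ Unit → A // (fam c q π pin b).E A x = 0}) :
    ((solUnit c q π pin b A x) ∈ GPin' (baseChangeForm A Q) ∧ (IsIdempotentElem (x.1 (Sum.inr ())) ∧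
      (x.1 (Sum.inr ())) • ((solUnit c q π pin b A x) : CliffordAlgebra (baseChangeForm A Q)) ∈
        evenOdd (baseChangeForm A Q) 0 ∧
      (1 - x.1 (Sum.inr ())) • ((solUnit c q π pin b A x) : CliffordAlgebra (baseChangeForm A Q)) ∈
          evenOdd (baseChangeForm A Q) 1)) ∧
        (pin = true → star ((solUnit c q π pin b A x) : CliffordAlgebra (baseChangeForm A Q)) *
          (solUnit c q π pin b A x) = 1) :=
  (eqs_iff c q π pin hq1 hq2 hπ0 hπ1 hc A (solUnit c q π pin b A x) _).1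
    ((fam_eq_zero_iff c q π pin b A x.1).1 x.2)

/-- the group is the set of solutions -/
noncomputable def grpEquiv : ↥(T A) ≃ {x : (ι' ⊕ ι') ⊕ Unit → A // (fam c q π pin b).E A x = 0} where
  toFun u := ⟨tup b A u.1 (exists_idem pin A T hT u.1 u.2).choose, tup_sol c q π pin b A hq1 hq2 hπ0 hπ1 hc _ _
    ⟨⟨((hT A u.1).1 u.2).1.1, (exists_idem pin A T hT u.1 u.2).choose_spec⟩, ((hT A u.1).1 u.2).2⟩⟩
  invFun x := ⟨solUnit c q π pin b A x, (hT A _).2 ⟨⟨(solUnit_spec c q π pin b A hq1 hq2 hπ0 hπ1 hc x).1.1,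
    ⟨_, (solUnit_spec c q π pin b A hq1 hq2 hπ0 hπ1 hc x).1.2⟩⟩,
    (solUnit_spec c q π pin b A hq1 hq2 hπ0 hπ1 hc x).2⟩⟩
  left_inv u := by
    apply Subtype.ext
    apply Units.ext
    exact (crd b A).symm_apply_apply _
  right_inv x := by
    apply Subtype.ext
    have hs := solUnit_spec c q π pin b A hq1 hq2 hπ0 hπ1 hc x
    funext s
    rcases s with (i | i) | ⟨⟩
    · exact congrFun ((crd b A).apply_symm_apply fun i => x.1 (Sum.inl (Sum.inl i))) i
    · exact congrFun ((crd b A).apply_symm_apply fun i => x.1 (Sum.inl (Sum.inr i))) i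
    · have h := (exists_idem pin A T hT (solUnit c q π pin b A x) ((hT A _).2 ⟨⟨hs.1.1, ⟨_, hs.1.2⟩⟩, hs.2⟩)).choose_spec
      exact idem_unique _ h.1 h.2.1 h.2.2 hs.1.2.1 hs.1.2.2.1 hs.1.2.2.2

theorem grpEquiv_inl (u : ↥(T A)) (i : ι') :
    (grpEquiv c q π pin b A hq1 hq2 hπ0 hπ1 hc T hT u).1 (Sum.inl (Sum.inl i)) = crd b A u.1 i := rfl

theorem grpEquiv_inr (u : ↥(T A)) (i : ι') :
    (grpEquiv c q π pin b A hq1 hq2 hπ0 hπ1 hc T hT u).1 (Sum.inl (Sum.inr i)) = crd b A ↑(u.1)⁻¹ i := rfl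

theorem grpEquiv_idem (u : ↥(T A)) (e : A) (he : IsIdempotentElem e)
    (he0 : e • (u.1 : CliffordAlgebra (baseChangeForm A Q)) ∈ evenOdd (baseChangeForm A Q) 0)
    (he1 : (1 - e) • (u.1 : CliffordAlgebra (baseChangeForm A Q)) ∈ evenOdd (baseChangeForm A Q) 1) :
    (grpEquiv c q π pin b A hq1 hq2 hπ0 hπ1 hc T hT u).1 (Sum.inr ()) = e := by
  have h := (exists_idem pin A T hT u.1 u.2).choose_spec
  exact idem_unique _ h.1 h.2.1 h.2.2 he he0 he1

end Family

open scoped MonObj in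
/-- the underlying equivalences of a representation -/
noncomputable def ptsEquiv {T : ∀ (A : Type u) [CommRing A] [Algebra R A], Subgroup (CliffordAlgebra (baseChangeForm A Q))ˣ}
    {G : Over (Spec (CommRingCat.of R))} [GrpObj G] (D : CliffRep Q (fun A _ _ => T A) G)
    (A : Type u) [CommRing A] [Algebra R A] : (specOver R A ⟶ G) ≃ ↥(T A) := (D.pts A).toEquiv

/-- **The Clifford group and the Pin group are affine of finite presentation.** -/
theorem affine_lfp_of_cliffRep [Module.Finite R M] (pin : Bool)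
    (T : ∀ (A : Type u) [CommRing A] [Algebra R A], Subgroup (CliffordAlgebra (baseChangeForm A Q))ˣ)
    (hT : ∀ (A : Type u) [CommRing A] [Algebra R A] (u : (CliffordAlgebra (baseChangeForm A Q))ˣ),
      u ∈ T A ↔ u ∈ GPin (baseChangeForm A Q) ∧
        (pin = true → star (u : CliffordAlgebra (baseChangeForm A Q)) * u = 1))
    (G : Over (Spec (CommRingCat.of R))) [GrpObj G] (D : CliffRep Q (fun A _ _ => T A) G) :
    IsAffineHom G.hom ∧ LocallyOfFinitePresentation G.hom := by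
  obtain ⟨n, c, hc⟩ := Module.Finite.exists_fin (R := R) (M := M)
  obtain ⟨r, p, -, -, -, hp⟩ := K916.Basic.exists_retractions Q
  obtain ⟨π, hπ0, hπ1⟩ := exists_proj Q
  have : Module.Free R (CliffordAlgebra Q) := K916.Basic.module_free Q
  have : Module.Finite R (CliffordAlgebra Q) := K916.Basic.module_finite Q
  obtain ⟨N, b⟩ : ∃ N : ℕ, Nonempty (Module.Basis (Fin N) R (CliffordAlgebra Q)) :=
    ⟨_, ⟨(Module.Free.chooseBasis R (CliffordAlgebra Q)).reindex (Fintype.equivFin _)⟩⟩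
  obtain ⟨b⟩ := b
  let q : CliffordAlgebra Q →ₗ[R] CliffordAlgebra Q := ι Q ∘ₗ p
  have hq1 : ∀ x, q x ∈ LinearMap.range (ι Q) := fun x => ⟨p x, rfl⟩
  have hq2 : ∀ m, q (ι Q m) = ι Q m := fun m => congrArg (ι Q) (hp m)
  let e : ∀ (A : Type u) [CommRing A] [Algebra R A], (specOver R A ⟶ G) ≃
      {x : (Fin N ⊕ Fin N) ⊕ Unit → A // (fam c q π pin b).E A x = 0} := fun A _ _ =>
    (ptsEquiv D A).trans (grpEquiv c q π pin b A hq1 hq2 hπ0 hπ1 hc T hT)
  refine affine_lfp_of_fam (fam c q π pin b) G e ?_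
  intro A B _ _ _ _ φ y s
  have hnat : (((D.pts B (specOverMap R φ ≫ y) : ↥(T B)) : (CliffordAlgebra (baseChangeForm B Q))ˣ) :
      CliffordAlgebra (baseChangeForm B Q)) =
      F Q φ ((((D.pts A y : ↥(T A)) : (CliffordAlgebra (baseChangeForm A Q))ˣ) : CliffordAlgebra (baseChangeForm A Q))) :=
    D.natural A B φ (F Q φ : CliffordAlgebra (baseChangeForm A Q) →+* CliffordAlgebra (baseChangeForm B Q))
      (F_ι Q φ) (F_algebraMap Q φ) y
  have hunit : ((D.pts B (specOverMap R φ ≫ y) : ↥(T B)) : (CliffordAlgebra (baseChangeForm B Q))ˣ) =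
      Units.map (F Q φ : CliffordAlgebra (baseChangeForm A Q) →* CliffordAlgebra (baseChangeForm B Q))
        ((D.pts A y : ↥(T A)) : (CliffordAlgebra (baseChangeForm A Q))ˣ) := Units.ext hnat
  have hinv : ((((D.pts B (specOverMap R φ ≫ y) : ↥(T B)) : (CliffordAlgebra (baseChangeForm B Q))ˣ)⁻¹ :
      (CliffordAlgebra (baseChangeForm B Q))ˣ) : CliffordAlgebra (baseChangeForm B Q)) =
      F Q φ (((((D.pts A y : ↥(T A)) : (CliffordAlgebra (baseChangeForm A Q))ˣ)⁻¹ :
        (CliffordAlgebra (baseChangeForm A Q))ˣ)) : CliffordAlgebra (baseChangeForm A Q)) := by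
    rw [hunit, ← map_inv]
    rfl
  rcases s with (i | i) | ⟨⟩
  · change crd b B (((D.pts B (specOverMap R φ ≫ y) : ↥(T B)) : (CliffordAlgebra (baseChangeForm B Q))ˣ) :
      CliffordAlgebra (baseChangeForm B Q)) i = _
    rw [hnat, crd_nat]
    rfl
  · change crd b B ((((D.pts B (specOverMap R φ ≫ y) : ↥(T B)) : (CliffordAlgebra (baseChangeForm B Q))ˣ)⁻¹ :
      (CliffordAlgebra (baseChangeForm B Q))ˣ) : CliffordAlgebra (baseChangeForm B Q)) i = _
    rw [hinv, crd_nat]
    rfl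
  · obtain ⟨ε, h1, h2, h3⟩ := exists_idem pin A T hT _ (D.pts A y).2
    have hA : (e A y).1 (Sum.inr ()) = ε :=
      grpEquiv_idem c q π pin b A hq1 hq2 hπ0 hπ1 hc T hT (D.pts A y) ε h1 h2 h3
    rw [hA]
    refine grpEquiv_idem c q π pin b B hq1 hq2 hπ0 hπ1 hc T hT (D.pts B (specOverMap R φ ≫ y)) (φ ε)
      (h1.map φ) ?_ ?_
    · rw [hnat, ← F_smul, mem_even_iff hπ0 hπ1, op_nat, ← map_sub, (mem_even_iff hπ0 hπ1 _).1 h2, map_zero]
    · rw [hnat, ← map_one φ, ← map_sub, ← F_smul, mem_odd_iff hπ0 hπ1, op_nat, (mem_odd_iff hπ0 hπ1 _).1 h3, map_zero]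

end K918.Pts
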