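import Mathlib.LinearAlgebra.CliffordAlgebra.Contraction
import Mathlib.LinearAlgebra.CliffordAlgebra.Star
import Mathlib.LinearAlgebra.CliffordAlgebra.Grading
import Mathlib.LinearAlgebra.QuadraticForm.Basis
import Mathlib.LinearAlgebra.ExteriorAlgebra.Basic
import Mathlib.LinearAlgebra.Basis.Basic

/-!
# Contractions on a Clifford algebra, kernels of coordinate contractions (any commutative ring)

`b : Basis (Fin n) R M`; `c i := contractLeft (b.coord i)`.

* `contract_mul`: `d⌋(x * y) = (d⌋x) * y + involute x * (d⌋y)`;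
* `polar_contract`: `polar(v)⌋x = v x - involute x v`;
* `Cgt b k`: the subalgebra generated by `b j`, `j ≥ k`; `exists_of_contract_mem`: if all coordinate
  contractions `c i x`, `i < k`, lie in `J` then `x ∈ Cgt b k + J`; in particular an element killed by all
  contractions is a scalar (`exists_algebraMap_of_contract_eq_zero`);
* `retr`: a linear retraction of `R → C(Q)`; `ρ`: a linear retraction of `M → C(Q)`.
-/

set_option autoImplicit false
universe u v

namespace K918.Cliff

open CliffordAlgebra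

variable {R : Type u} [CommRing R] {M : Type v} [AddCommGroup M] [Module R M] {Q : QuadraticForm R M}

/-- Contraction is a graded derivation. -/
theorem contract_mul (d : Module.Dual R M) (x y : CliffordAlgebra Q) :
    contractLeft d (x * y) = contractLeft d x * y + involute x * contractLeft d y := by
  induction x using CliffordAlgebra.left_induction with
  | algebraMap r =>
    rw [contractLeft_algebraMap_mul, contractLeft_algebraMap, zero_mul, zero_add, AlgHom.commutes]
  | add x x' hx hx' =>
    rw [add_mul, map_add, map_add, map_add, hx, hx', add_mul, add_mul]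
    abel
  | ι_mul x m hx =>
    rw [mul_assoc, contractLeft_ι_mul, hx, contractLeft_ι_mul, map_mul, involute_ι, sub_mul,
      smul_mul_assoc, mul_add, mul_assoc, neg_mul, neg_mul, mul_assoc]
    abel

/-- Contraction by the polar form is the graded commutator. -/
theorem polar_contract (v : M) (x : CliffordAlgebra Q) :
    contractLeft (QuadraticMap.polarBilin Q v) x = ι Q v * x - involute x * ι Q v := by
  induction x using CliffordAlgebra.left_induction with
  | algebraMap r =>
    rw [contractLeft_algebraMap, AlgHom.commutes, Algebra.commutes, sub_self]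
  | add x x' hx hx' =>
    rw [map_add, map_add, hx, hx', mul_add, add_mul]
    abel
  | ι_mul x m hx =>
    rw [contractLeft_ι_mul, hx, QuadraticMap.polarBilin_apply_apply, Algebra.smul_def,
      ← ι_mul_ι_add_swap, map_mul, involute_ι]
    simp only [mul_sub, add_mul, neg_mul, mul_assoc]
    abel

theorem contract_involute (d : Module.Dual R M) (x : CliffordAlgebra Q) :
    contractLeft d (involute x) = - involute (contractLeft d x) := by
  induction x using CliffordAlgebra.left_induction with
  | algebraMap r =>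
    rw [AlgHom.commutes, contractLeft_algebraMap, map_zero, neg_zero]
  | add x x' hx hx' =>
    rw [map_add, map_add, map_add, map_add, hx, hx', neg_add]
  | ι_mul x m hx =>
    rw [map_mul, involute_ι, neg_mul, map_neg, contractLeft_ι_mul, contractLeft_ι_mul, hx, map_sub,
      map_smul, map_mul, involute_ι]
    simp only [mul_neg, neg_mul, sub_neg_eq_add, neg_add_rev]

/-- Contraction shifts the parity. -/
theorem contract_mem_evenOdd (d : Module.Dual R M) (i : ZMod 2) (x : CliffordAlgebra Q)
    (hx : x ∈ evenOdd Q i) : contractLeft d x ∈ evenOdd Q (i + 1) := by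
  induction x, hx using CliffordAlgebra.evenOdd_induction with
  | range_ι_pow v h =>
    -- an element of a power of `range ι`
    obtain ⟨k, hk⟩ : ∃ k : ℕ, v ∈ LinearMap.range (ι Q) ^ k ∧ (k : ZMod 2) = i :=
      ⟨i.val, h, ZMod.natCast_zmod_val i⟩
    obtain ⟨hk, rfl⟩ := hk
    clear h
    induction k generalizing v with
    | zero =>
      rw [pow_zero, Submodule.mem_one] at hk
      obtain ⟨r, rfl⟩ := hk
      rw [contractLeft_algebraMap]
      exact Submodule.zero_mem _
    | succ k ih =>
      rw [pow_succ'] at hk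
      induction hk using Submodule.mul_induction_on' with
      | mem_mul_mem a ha c hc =>
        obtain ⟨m, rfl⟩ := ha
        rw [contractLeft_ι_mul]
        have h1 : (k + 1 : ℕ) + 1 = (k : ZMod 2) := by
          push_cast
          rw [add_assoc, CharTwo.add_self_eq_zero, add_zero]
        rw [h1]
        refine Submodule.sub_mem _ (Submodule.smul_mem _ _ ?_) ?_
        · exact (le_iSup (fun j : { n : ℕ // ↑n = (k : ZMod 2) } => LinearMap.range (ι Q) ^ (j : ℕ)) ⟨k, rfl⟩) hc
        · have h2 := SetLike.mul_mem_graded (ι_mem_evenOdd_one Q m) (ih c hc)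
          rwa [add_comm (k : ZMod 2) 1, ← add_assoc, CharTwo.add_self_eq_zero, zero_add] at h2
      | add a _ c _ ha hc =>
        rw [map_add]
        exact Submodule.add_mem _ ha hc
  | add x y hx hy hx' hy' =>
    rw [map_add]
    exact Submodule.add_mem _ hx' hy'
  | ι_mul_ι_mul m₁ m₂ x hx hx' =>
    rw [mul_assoc, contractLeft_ι_mul, contractLeft_ι_mul]
    refine Submodule.sub_mem _ (Submodule.smul_mem _ _ ?_) ?_
    · have h2 := SetLike.mul_mem_graded (ι_mem_evenOdd_one Q m₂) hx
      rwa [add_comm] at h2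
    · rw [mul_sub, mul_smul_comm]
      refine Submodule.sub_mem _ (Submodule.smul_mem _ _ ?_) ?_
      · have h2 := SetLike.mul_mem_graded (ι_mem_evenOdd_one Q m₁) hx
        rwa [add_comm] at h2
      · have h2 := SetLike.mul_mem_graded (ι_mem_evenOdd_one Q m₁)
          (SetLike.mul_mem_graded (ι_mem_evenOdd_one Q m₂) hx')
        rwa [← add_assoc, ← add_assoc, CharTwo.add_self_eq_zero, zero_add] at h2

section Retraction

variable (Q)

/-- a linear retraction of the scalars -/
theorem exists_retr [Module.Free R M] :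
    ∃ π : CliffordAlgebra Q →ₗ[R] R, ∀ r : R, π (algebraMap R _ r) = r := by
  obtain ⟨B, hB⟩ := LinearMap.BilinMap.toQuadraticMap_surjective Q
  have h : LinearMap.BilinMap.toQuadraticMap (-B) = (0 : QuadraticForm R M) - Q := by
    rw [LinearMap.BilinMap.toQuadraticMap_neg, hB, zero_sub]
  refine ⟨(ExteriorAlgebra.algebraMapInv (R := R) (M := M)).toLinearMap ∘ₗ changeForm h, fun r => ?_⟩
  rw [LinearMap.comp_apply, changeForm_algebraMap]
  exact ExteriorAlgebra.algebraMap_leftInverse M r

end Retraction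


section Coord

variable {n : ℕ} (b : Module.Basis (Fin n) R M)

variable (Q) in
/-- the subalgebra generated by the basis vectors of index `≥ k` -/
def Cgt (k : ℕ) : Subalgebra R (CliffordAlgebra Q) :=
  Algebra.adjoin R {x | ∃ j : Fin n, k ≤ j.val ∧ x = ι Q (b j)}

variable {b}

lemma mem_Cgt {k : ℕ} {j : Fin n} (h : k ≤ j.val) : ι Q (b j) ∈ Cgt Q b k :=
  Algebra.subset_adjoin ⟨j, h, rfl⟩

lemma Cgt_anti {k l : ℕ} (h : k ≤ l) : Cgt Q b l ≤ Cgt Q b k :=
  Algebra.adjoin_mono fun _ ⟨j, hj, hx⟩ => ⟨j, h.trans hj, hx⟩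

variable (Q b) in
lemma Cgt_zero : Cgt Q b 0 = ⊤ := by
  rw [eq_top_iff, ← CliffordAlgebra.adjoin_range_ι]
  apply Algebra.adjoin_le
  rintro _ ⟨m, rfl⟩
  rw [← b.sum_repr m, map_sum]
  refine Subalgebra.sum_mem _ fun j _ => ?_
  rw [map_smul]
  exact Subalgebra.smul_mem _ (mem_Cgt (Nat.zero_le _)) _

variable (Q b) in
lemma Cgt_n : Cgt Q b n = ⊥ := by
  rw [Cgt, show {x | ∃ j : Fin n, n ≤ j.val ∧ x = ι Q (b j)} = ∅ from ?_, Algebra.adjoin_empty]
  ext x
  simp only [Set.mem_setOf_eq, Set.mem_empty_iff_false, iff_false, not_exists, not_and]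
  intro j hj
  omega

/-- moving a generator to the left through `Cgt (k+1)` -/
lemma exists_mul_ι (k : Fin n) (x : CliffordAlgebra Q) (hx : x ∈ Cgt Q b (k.val + 1)) :
    ∃ p ∈ Cgt Q b (k.val + 1), ∃ q ∈ Cgt Q b (k.val + 1), x * ι Q (b k) = p + ι Q (b k) * q := by
  induction hx using Algebra.adjoin_induction with
  | mem x hx =>
    obtain ⟨j, hj, rfl⟩ := hx
    refine ⟨algebraMap R _ (QuadraticMap.polar Q (b j) (b k)), Subalgebra.algebraMap_mem _ _,
      -ι Q (b j), Subalgebra.neg_mem _ (mem_Cgt hj), ?_⟩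
    rw [← ι_mul_ι_add_swap]
    simp
  | algebraMap r =>
    exact ⟨0, Subalgebra.zero_mem _, algebraMap R _ r, Subalgebra.algebraMap_mem _ _, by
      rw [zero_add, Algebra.commutes]⟩
  | add x y hx hy hx' hy' =>
    obtain ⟨p, hp, q, hq, h⟩ := hx'
    obtain ⟨p', hp', q', hq', h'⟩ := hy'
    refine ⟨p + p', Subalgebra.add_mem _ hp hp', q + q', Subalgebra.add_mem _ hq hq', ?_⟩
    rw [add_mul, h, h', mul_add]
    abel
  | mul x y hx hy hx' hy' =>
    obtain ⟨p, hp, q, hq, h⟩ := hx'
    obtain ⟨p', hp', q', hq', h'⟩ := hy'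
    refine ⟨x * p' + p * q', Subalgebra.add_mem _ (Subalgebra.mul_mem _ hx hp')
      (Subalgebra.mul_mem _ hp hq'), q * q', Subalgebra.mul_mem _ hq hq', ?_⟩
    rw [mul_assoc, h', mul_add, ← mul_assoc, h, add_mul]
    simp only [mul_assoc, add_assoc]

/-- every element of `Cgt k` is `p + e_k q` with `p, q ∈ Cgt (k+1)` -/
lemma exists_decomp (k : Fin n) (x : CliffordAlgebra Q) (hx : x ∈ Cgt Q b k.val) :
    ∃ p ∈ Cgt Q b (k.val + 1), ∃ q ∈ Cgt Q b (k.val + 1), x = p + ι Q (b k) * q := by
  induction hx using Algebra.adjoin_induction with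
  | mem x hx =>
    obtain ⟨j, hj, rfl⟩ := hx
    rcases Nat.eq_or_lt_of_le hj with h | h
    · have : k = j := Fin.ext h
      subst this
      exact ⟨0, Subalgebra.zero_mem _, 1, Subalgebra.one_mem _, by rw [zero_add, mul_one]⟩
    · exact ⟨ι Q (b j), mem_Cgt h, 0, Subalgebra.zero_mem _, by rw [mul_zero, add_zero]⟩
  | algebraMap r =>
    exact ⟨algebraMap R _ r, Subalgebra.algebraMap_mem _ _, 0, Subalgebra.zero_mem _, by
      rw [mul_zero, add_zero]⟩
  | add x y hx hy hx' hy' =>
    obtain ⟨p, hp, q, hq, h⟩ := hx'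
    obtain ⟨p', hp', q', hq', h'⟩ := hy'
    refine ⟨p + p', Subalgebra.add_mem _ hp hp', q + q', Subalgebra.add_mem _ hq hq', ?_⟩
    rw [h, h', mul_add]
    abel
  | mul x y hx hy hx' hy' =>
    obtain ⟨p, hp, q, hq, h⟩ := hx'
    obtain ⟨p', hp', q', hq', h'⟩ := hy'
    obtain ⟨r, hr, s, hs, h1⟩ := exists_mul_ι k p hp
    obtain ⟨r', hr', s', hs', h2⟩ := exists_mul_ι k q hq
    refine ⟨p * p' + r * q' + Q (b k) • (s' * q'), ?_, s * q' + q * p' + r' * q', ?_, ?_⟩
    · exact Subalgebra.add_mem _ (Subalgebra.add_mem _ (Subalgebra.mul_mem _ hp hp')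
        (Subalgebra.mul_mem _ hr hq')) (Subalgebra.smul_mem _ (Subalgebra.mul_mem _ hs' hq') _)
    · exact Subalgebra.add_mem _ (Subalgebra.add_mem _ (Subalgebra.mul_mem _ hs hq')
        (Subalgebra.mul_mem _ hq hp')) (Subalgebra.mul_mem _ hr' hq')
    · rw [h, h']
      have e1 : p * (ι Q (b k) * q') = r * q' + ι Q (b k) * (s * q') := by
        rw [← mul_assoc, h1, add_mul, mul_assoc]
      have e2 : ι Q (b k) * q * (ι Q (b k) * q') = ι Q (b k) * (r' * q') + Q (b k) • (s' * q') := by
        rw [mul_assoc, ← mul_assoc q, h2, add_mul, mul_add, Algebra.smul_def, ← ι_sq_scalar]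
        simp only [mul_assoc]
      rw [add_mul, mul_add, mul_add, e1, e2, mul_add, mul_add]
      simp only [mul_assoc]
      abel

/-- contraction by `b.coord i` kills `Cgt k` for `i < k` -/
lemma contract_coord_eq_zero (i : Fin n) {k : ℕ} (h : i.val < k) (x : CliffordAlgebra Q)
    (hx : x ∈ Cgt Q b k) : contractLeft (b.coord i) x = 0 := by
  induction hx using Algebra.adjoin_induction with
  | mem x hx =>
    obtain ⟨j, hj, rfl⟩ := hx
    rw [contractLeft_ι, Module.Basis.coord_apply, b.repr_self, Finsupp.single_apply,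
      if_neg (fun h' => by subst h'; omega), map_zero]
  | algebraMap r => rw [contractLeft_algebraMap]
  | add x y hx hy hx' hy' => rw [map_add, hx', hy', add_zero]
  | mul x y hx hy hx' hy' => rw [contract_mul, hx', hy', zero_mul, mul_zero, add_zero]

lemma contract_coord_ι_mul_self (i : Fin n) (x : CliffordAlgebra Q) :
    contractLeft (b.coord i) (ι Q (b i) * x) = x - ι Q (b i) * contractLeft (b.coord i) x := by
  rw [contractLeft_ι_mul, Module.Basis.coord_apply, b.repr_self, Finsupp.single_eq_same, one_smul]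

/-- If the first `k` coordinate contractions of `x` lie in `J` then `x ∈ Cgt k + J`. -/
theorem exists_of_contract_mem (J : Submodule R (CliffordAlgebra Q))
    (hc : ∀ i, ∀ y ∈ J, contractLeft (b.coord i) y ∈ J) (he : ∀ i, ∀ y ∈ J, ι Q (b i) * y ∈ J)
    (k : ℕ) (hk : k ≤ n) (x : CliffordAlgebra Q)
    (hx : ∀ i : Fin n, i.val < k → contractLeft (b.coord i) x ∈ J) :
    ∃ a ∈ Cgt Q b k, x - a ∈ J := by
  induction k with
  | zero => exact ⟨x, by rw [Cgt_zero]; trivial, by rw [sub_self]; exact J.zero_mem⟩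
  | succ k ih =>
    obtain ⟨a, ha, hxa⟩ := ih (by omega) (fun i hi => hx i (by omega))
    obtain ⟨p, hp, q, hq, h⟩ := exists_decomp ⟨k, hk⟩ a ha
    have h1 : contractLeft (b.coord ⟨k, hk⟩) a = q := by
      rw [h, map_add, contract_coord_eq_zero ⟨k, hk⟩ (Nat.lt_succ_self k) p hp, zero_add,
        contract_coord_ι_mul_self, contract_coord_eq_zero ⟨k, hk⟩ (Nat.lt_succ_self k) q hq,
        mul_zero, sub_zero]
    have h2 : q ∈ J := by
      have h3 := J.sub_mem (hx ⟨k, hk⟩ (Nat.lt_succ_self k)) (hc ⟨k, hk⟩ _ hxa)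
      rwa [map_sub, sub_sub_cancel, h1] at h3
    refine ⟨p, hp, ?_⟩
    have h4 : x - p = (x - a) + ι Q (b ⟨k, hk⟩) * q := by rw [h]; abel
    rw [h4]
    exact J.add_mem hxa (he _ _ h2)

/-- If all coordinate contractions of `x` lie in `J` then `x` is a scalar modulo `J`. -/
theorem exists_scalar_of_contract_mem (J : Submodule R (CliffordAlgebra Q))
    (hc : ∀ i, ∀ y ∈ J, contractLeft (b.coord i) y ∈ J) (he : ∀ i, ∀ y ∈ J, ι Q (b i) * y ∈ J)
    (x : CliffordAlgebra Q) (hx : ∀ i : Fin n, contractLeft (b.coord i) x ∈ J) :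
    ∃ r : R, x - algebraMap R _ r ∈ J := by
  obtain ⟨a, ha, h⟩ := exists_of_contract_mem (b := b) J hc he n le_rfl x (fun i _ => hx i)
  rw [Cgt_n, Algebra.mem_bot] at ha
  obtain ⟨r, rfl⟩ := ha
  exact ⟨r, h⟩

/-- An element killed by all coordinate contractions is a scalar. -/
theorem exists_algebraMap_of_contract_eq_zero (x : CliffordAlgebra Q)
    (hx : ∀ i : Fin n, contractLeft (b.coord i) x = 0) : ∃ r : R, x = algebraMap R _ r := by
  obtain ⟨r, h⟩ := exists_scalar_of_contract_mem (b := b) (⊥ : Submodule R (CliffordAlgebra Q))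
    (fun i y hy => by rw [Submodule.mem_bot] at hy ⊢; rw [hy, map_zero])
    (fun i y hy => by rw [Submodule.mem_bot] at hy ⊢; rw [hy, mul_zero]) x
    (fun i => by rw [hx i]; exact Submodule.zero_mem _)
  exact ⟨r, sub_eq_zero.1 ((Submodule.mem_bot R).1 h)⟩

end Coord

end K918.Cliff
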