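import Groth.Agent.QuadGrp.K918.Thick

/-!
# A quadratic module as a hyperplane `v^⊥` in a regular one

`hyp Q φ (x, t) = Q x + t φ x` on `M × R`; `j : C(Q) → C(hyp Q φ)` is injective with image the kernel of the contraction
by the second projection.  If `hyp Q φ` is regular then `GSpin(Q)` is the centralizer in `GSpin(hyp Q φ)` of the vector
`v₀` dual to the second projection.
-/

set_option autoImplicit false
universe u v w u'

namespace K918.Emb

open CliffordAlgebra QuadGrp K918.Cliff

variable {R : Type u} [CommRing R] {M : Type v} [AddCommGroup M] [Module R M]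

section Naturality

variable {N : Type w} [AddCommGroup N] [Module R N] {Q₁ : QuadraticForm R M} {Q₂ : QuadraticForm R N}

/-- contraction is natural -/
theorem contract_map (i : Q₁ →qᵢ Q₂) (d : Module.Dual R N) (z : CliffordAlgebra Q₁) :
    contractLeft d (CliffordAlgebra.map i z) = CliffordAlgebra.map i (contractLeft (d ∘ₗ i.toLinearMap) z) := by
  induction z using CliffordAlgebra.left_induction with
  | algebraMap r => rw [AlgHom.commutes, contractLeft_algebraMap, contractLeft_algebraMap, map_zero]
  | add x y hx hy => rw [map_add, map_add, hx, hy, map_add, map_add]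
  | ι_mul x m hx =>
    rw [map_mul, map_apply_ι, contractLeft_ι_mul, contractLeft_ι_mul, hx, map_sub, map_mul, map_smul, map_apply_ι]
    rfl

theorem map_mem_evenOdd (i : Q₁ →qᵢ Q₂) (k : ZMod 2) {x : CliffordAlgebra Q₁} (hx : x ∈ evenOdd Q₁ k) :
    CliffordAlgebra.map i x ∈ evenOdd Q₂ k := by
  refine evenOdd_induction Q₁ k (motive := fun x _ => CliffordAlgebra.map i x ∈ evenOdd Q₂ k) ?_ ?_ ?_ x hx
  · intro x hx
    have h1 : ∀ (n : ℕ) (x : CliffordAlgebra Q₁), x ∈ LinearMap.range (ι Q₁) ^ n →
        CliffordAlgebra.map i x ∈ LinearMap.range (ι Q₂) ^ n := by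
      intro n
      induction n with
      | zero =>
        intro x hx
        rw [pow_zero, Submodule.mem_one] at hx ⊢
        obtain ⟨r, rfl⟩ := hx
        exact ⟨r, (AlgHom.commutes _ _).symm⟩
      | succ n ih =>
        intro x hx
        rw [pow_succ] at hx ⊢
        refine Submodule.mul_induction_on hx ?_ ?_
        · rintro y hy _ ⟨m, rfl⟩
          rw [map_mul, map_apply_ι]
          exact Submodule.mul_mem_mul (ih y hy) ⟨_, rfl⟩
        · intro y z hy hz
          rw [map_add]
          exact Submodule.add_mem _ hy hz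
    have h2 := h1 _ x hx
    refine (le_iSup (fun j : { n : ℕ // (n : ZMod 2) = k } => LinearMap.range (ι Q₂) ^ (j : ℕ)) ⟨k.val, by simp⟩) h2
  · intro x y hx hy hx' hy'
    rw [map_add]
    exact Submodule.add_mem _ hx' hy'
  · intro m₁ m₂ x hx hx'
    rw [map_mul, map_mul, map_apply_ι, map_apply_ι]
    have := SetLike.mul_mem_graded (ι_mul_ι_mem_evenOdd_zero Q₂ (i m₁) (i m₂)) hx'
    rwa [zero_add] at this

theorem map_involute (i : Q₁ →qᵢ Q₂) (x : CliffordAlgebra Q₁) :
    CliffordAlgebra.map i (involute x) = involute (CliffordAlgebra.map i x) := by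
  induction x using CliffordAlgebra.induction with
  | algebraMap r => simp
  | ι m => simp
  | mul a b ha hb => rw [map_mul, map_mul, map_mul, map_mul, ha, hb]
  | add a b ha hb => rw [map_add, map_add, map_add, map_add, ha, hb]

end Naturality

/-- the form `Q x + t φ x` -/
noncomputable def hyp (Q : QuadraticForm R M) (φ : M →ₗ[R] R) : QuadraticForm R (M × R) :=
  Q.comp (LinearMap.fst R M R) + QuadraticMap.linMulLin (LinearMap.snd R M R) (φ ∘ₗ LinearMap.fst R M R)

variable (Q : QuadraticForm R M) (φ : M →ₗ[R] R)

theorem hyp_apply (x : M) (t : R) : hyp Q φ (x, t) = Q x + t * φ x := rfl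

theorem polar_hyp (x y : M) (t s : R) :
    QuadraticMap.polar (hyp Q φ) (x, t) (y, s) = QuadraticMap.polar Q x y + t * φ y + s * φ x := by
  rw [QuadraticMap.polar, Prod.mk_add_mk, hyp_apply, hyp_apply, hyp_apply, QuadraticMap.polar, map_add φ]
  ring

/-- the inclusion -/
def inlI : Q →qᵢ hyp Q φ where
  toLinearMap := LinearMap.inl R M R
  map_app' := fun x => by
    change hyp Q φ (x, 0) = Q x
    rw [hyp_apply, zero_mul, add_zero]

theorem inlI_apply (x : M) : inlI Q φ x = (x, 0) := rfl

/-- the map of Clifford algebras -/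
noncomputable def j : CliffordAlgebra Q →ₐ[R] CliffordAlgebra (hyp Q φ) := CliffordAlgebra.map (inlI Q φ)

theorem j_ι (x : M) : j Q φ (ι Q x) = ι (hyp Q φ) (x, 0) := map_apply_ι _ _

/-- `j` is injective -/
theorem j_injective [Module.Free R M] : Function.Injective (j Q φ) := by
  let B₀ := bilinLift Q
  let B₁ : LinearMap.BilinForm R (M × R) := (B₀.compl₁₂ (LinearMap.fst R M R) (LinearMap.fst R M R)) +
    (LinearMap.mk₂ R (fun p r : M × R => p.2 * φ r.1) (fun p p' r => by simp [add_mul])
      (fun c p r => by simp [mul_assoc]) (fun p r r' => by simp [mul_add]) (fun c p r => by simp; ring))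
  have h0 : (-B₀).toQuadraticMap = (0 : QuadraticForm R M) - Q := by
    rw [LinearMap.BilinMap.toQuadraticMap_neg, bilinLift_spec, zero_sub]
  have h1 : (-B₁).toQuadraticMap = (0 : QuadraticForm R (M × R)) - hyp Q φ := by
    rw [LinearMap.BilinMap.toQuadraticMap_neg, zero_sub]
    congr 1
    ext ⟨x, t⟩
    rw [hyp_apply]
    have := DFunLike.congr_fun (bilinLift_spec Q) x
    change B₀ x x + t * φ x = Q x + t * φ x
    rw [← this]
    rfl
  have key : ∀ y, changeForm h1 (j Q φ y) = ExteriorAlgebra.map (LinearMap.inl R M R) (changeForm h0 y) := by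
    intro y
    induction y using CliffordAlgebra.left_induction with
    | algebraMap r =>
      rw [AlgHom.commutes, changeForm_algebraMap, changeForm_algebraMap]
      exact ((ExteriorAlgebra.map (LinearMap.inl R M R)).commutes r).symm
    | add x y hx hy => rw [map_add, map_add, hx, hy, map_add, map_add]
    | ι_mul x m hx =>
      rw [map_mul, j_ι, changeForm_ι_mul, changeForm_ι_mul, hx, map_sub, map_mul]
      congr 1
      · congr 1
        exact (ExteriorAlgebra.map_apply_ι (LinearMap.inl R M R) m).symm
      · have h2 := contract_map (Q₁ := (0 : QuadraticForm R M)) (Q₂ := (0 : QuadraticForm R (M × R)))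
          ⟨LinearMap.inl R M R, fun _ => rfl⟩ ((-B₁) (m, 0)) (changeForm h0 x)
        have e : ((-B₁) (m, 0)) ∘ₗ LinearMap.inl R M R = (-B₀) m := by
          apply LinearMap.ext
          intro y
          change -(B₀ m y + 0 * φ y) = -(B₀ m y)
          rw [zero_mul, add_zero]
        refine h2.trans ?_
        exact congrArg (fun d => ExteriorAlgebra.map (LinearMap.inl R M R) (contractLeft d (changeForm h0 x))) e
  have hinj : Function.Injective (ExteriorAlgebra.map (LinearMap.inl R M R)) :=
    ExteriorAlgebra.map_injective ⟨LinearMap.fst R M R, by ext; rfl⟩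
  intro x y hxy
  have h2 := congrArg (changeForm h1) hxy
  rw [key, key] at h2
  exact (changeFormEquiv h0).injective (hinj h2)

section Basis

variable {n : ℕ} (b : Module.Basis (Fin n) R M)

/-- the basis of `M × R` starting with `(0, 1)` -/
noncomputable def bW : Module.Basis (Fin (n + 1)) R (M × R) :=
  Module.Basis.ofEquivFun
    { toFun := fun p => Fin.cons p.2 (b.equivFun p.1)
      map_add' := fun p p' => by
        funext i
        refine Fin.cases ?_ (fun k => ?_) i
        · simp
        · simp
      map_smul' := fun c p => by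
        funext i
        refine Fin.cases ?_ (fun k => ?_) i
        · simp
        · simp
      invFun := fun y => (b.equivFun.symm (Fin.tail y), y 0)
      left_inv := fun p => by simp
      right_inv := fun y => by
        simp only [LinearEquiv.apply_symm_apply]
        exact Fin.cons_self_tail y }

theorem bW_repr_zero (p : M × R) : (bW b).repr p 0 = p.2 := rfl

theorem bW_repr_succ (p : M × R) (k : Fin n) : (bW b).repr p k.succ = b.repr p.1 k := rfl

theorem coord_zero : (bW b).coord 0 = LinearMap.snd R M R := rfl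

theorem bW_zero : bW b 0 = (0, 1) := by
  apply (bW b).repr.injective
  ext i
  rw [(bW b).repr_self]
  refine Fin.cases ?_ (fun k => ?_) i
  · rw [bW_repr_zero, Finsupp.single_eq_same]
  · rw [bW_repr_succ, map_zero, Finsupp.single_eq_of_ne (Fin.succ_ne_zero k)]; rfl

theorem bW_succ (k : Fin n) : bW b k.succ = (b k, 0) := by
  apply (bW b).repr.injective
  ext i
  rw [(bW b).repr_self]
  refine Fin.cases ?_ (fun l => ?_) i
  · rw [bW_repr_zero, Finsupp.single_eq_of_ne (Fin.succ_ne_zero k).symm]
  · rw [bW_repr_succ, b.repr_self, Finsupp.single_apply, Finsupp.single_apply]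
    by_cases h : k = l
    · rw [if_pos h, if_pos (congrArg Fin.succ h)]
    · rw [if_neg h, if_neg fun h' => h (Fin.succ_injective _ h')]

end Basis

theorem contract_snd_j (y : CliffordAlgebra Q) : contractLeft (LinearMap.snd R M R) (j Q φ y) = 0 := by
  rw [j, contract_map]
  have : LinearMap.snd R M R ∘ₗ (inlI Q φ).toLinearMap = 0 := by
    ext x; rfl
  rw [this, map_zero, LinearMap.zero_apply, map_zero]

variable {Q φ}

include Q φ in
theorem mem_range_j {n : ℕ} (b : Module.Basis (Fin n) R M) {y : CliffordAlgebra (hyp Q φ)}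
    (hy : contractLeft (LinearMap.snd R M R) y = 0) : ∃ x, j Q φ x = y := by
  obtain ⟨a, ha, h⟩ := exists_of_contract_mem (b := bW b) (⊥ : Submodule R (CliffordAlgebra (hyp Q φ)))
    (fun i y hy => by rw [Submodule.mem_bot] at hy ⊢; rw [hy, map_zero])
    (fun i y hy => by rw [Submodule.mem_bot] at hy ⊢; rw [hy, mul_zero]) 1 (by omega) y
    (fun i hi => by
      have : i = 0 := Fin.ext (by rw [Fin.val_zero]; omega)
      rw [this, coord_zero, hy]
      exact Submodule.zero_mem _)
  rw [Submodule.mem_bot, sub_eq_zero] at h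
  subst h
  have h2 : Cgt (hyp Q φ) (bW b) 1 ≤ (j Q φ).range := by
    apply Algebra.adjoin_le
    rintro _ ⟨i, hi, rfl⟩
    obtain ⟨k, rfl⟩ := Fin.exists_succ_eq.2 (show i ≠ 0 from fun h => by subst h; simp at hi)
    exact ⟨ι Q (b k), by change j Q φ (ι Q (b k)) = _; rw [j_ι, bW_succ]⟩
  exact h2 ha

section Regular

variable {n : ℕ} (b : Module.Basis (Fin n) R M) (hq : IsRegular (hyp Q φ))

/-- the vector dual to the second projection -/
noncomputable def v₀ : M × R := db (bW b) hq 0

theorem polarBilin_v₀ : QuadraticMap.polarBilin (hyp Q φ) (v₀ b hq) = LinearMap.snd R M R := by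
  rw [v₀, polarBilin_db, coord_zero]

theorem polar_v₀ (p : M × R) : QuadraticMap.polar (hyp Q φ) (v₀ b hq) p = p.2 :=
  DFunLike.congr_fun (polarBilin_v₀ b hq) p

theorem contract_v₀ (y : CliffordAlgebra (hyp Q φ)) :
    ι (hyp Q φ) (v₀ b hq) * y - involute y * ι (hyp Q φ) (v₀ b hq) = contractLeft (LinearMap.snd R M R) y := by
  rw [← polarBilin_v₀ b hq, ← D_id, D_apply, LinearMap.id_apply]

/-- `v₀` commutes with the even part of the image of `C(Q)` -/
theorem v₀_comm {y : CliffordAlgebra Q} (hy : y ∈ evenOdd Q 0) :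
    ι (hyp Q φ) (v₀ b hq) * j Q φ y = j Q φ y * ι (hyp Q φ) (v₀ b hq) := by
  have h := contract_v₀ b hq (j Q φ y)
  rw [contract_snd_j, sub_eq_zero, ← map_involute', involute_eq_of_mem_even hy] at h
  exact h
where
  map_involute' {x : CliffordAlgebra Q} : j Q φ (involute x) = involute (j Q φ x) := map_involute _ _

end Regular

end K918.Emb
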