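import Groth.Agent.QuadGrp.K918.Emb

/-!
# The even Clifford group of a hyperplane `v^⊥`

* `exists_of_contract_inl`: an element killed by the contractions by `polar (x, 0)`, `x ∈ M`, is in `R + R v₀`;
* `mem_GPin'_j`: the even part of the Clifford group of `Q` maps to the Clifford group of `hyp Q φ`;
* `exists_of_comm`: an even element of the Clifford group of `hyp Q φ` commuting with `v₀` comes from `Q`.
-/

set_option autoImplicit false
universe u v w u'

namespace K918.Emb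

open CliffordAlgebra QuadGrp K918.Cliff

variable {R : Type u} [CommRing R] {M : Type v} [AddCommGroup M] [Module R M] {Q : QuadraticForm R M}
  {φ : M →ₗ[R] R} {n : ℕ} (b : Module.Basis (Fin n) R M) (hq : IsRegular (hyp Q φ))

include b hq in
/-- an element killed by all contractions by polar functionals is a scalar -/
theorem exists_of_contract_polar {z : CliffordAlgebra (hyp Q φ)}
    (hz : ∀ p : M × R, contractLeft (QuadraticMap.polarBilin (hyp Q φ) p) z = 0) : ∃ r : R, z = algebraMap R _ r :=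
  exists_algebraMap_of_contract_eq_zero (b := bW b) z fun i => by
    rw [← polarBilin_db (bW b) hq i]; exact hz _

include b hq in
theorem exists_of_contract_inl {z : CliffordAlgebra (hyp Q φ)}
    (hz : ∀ x : M, contractLeft (QuadraticMap.polarBilin (hyp Q φ) (x, 0)) z = 0) :
    ∃ r s : R, z = algebraMap R _ r + s • ι (hyp Q φ) (v₀ b hq) := by
  have hdec : ∀ p : M × R, QuadraticMap.polarBilin (hyp Q φ) p =
      QuadraticMap.polarBilin (hyp Q φ) (p.1, 0) + p.2 • QuadraticMap.polarBilin (hyp Q φ) (0, 1) := fun p => by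
    rw [← map_smul, ← map_add]
    congr 1
    rw [Prod.smul_mk, smul_zero, smul_eq_mul, mul_one, Prod.mk_add_mk, add_zero, zero_add]
  have ha : ∀ (d d' : Module.Dual R (M × R)) (y : CliffordAlgebra (hyp Q φ)),
      contractLeft (d + d') y = contractLeft d y + contractLeft d' y := fun d d' y => by
    rw [map_add, LinearMap.add_apply]
  have hsm : ∀ (c : R) (d : Module.Dual R (M × R)) (y : CliffordAlgebra (hyp Q φ)),
      contractLeft (c • d) y = c • contractLeft d y := fun c d y => by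
    rw [map_smul, LinearMap.smul_apply]
  obtain ⟨s, hs⟩ := exists_of_contract_polar b hq
    (z := contractLeft (QuadraticMap.polarBilin (hyp Q φ) (0, 1)) z) (fun p => by
      rw [hdec p, ha, hsm, contractLeft_contractLeft, smul_zero, add_zero, contractLeft_comm, hz, map_zero, neg_zero])
  have h1 : QuadraticMap.polarBilin (hyp Q φ) (0, 1) (v₀ b hq) = 1 := by
    change QuadraticMap.polar (hyp Q φ) (0, 1) (v₀ b hq) = 1
    rw [QuadraticMap.polar_comm, polar_v₀]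
  have h2 : ∀ x : M, QuadraticMap.polarBilin (hyp Q φ) (x, 0) (v₀ b hq) = 0 := fun x => by
    change QuadraticMap.polar (hyp Q φ) (x, 0) (v₀ b hq) = 0
    rw [QuadraticMap.polar_comm, polar_v₀]
  obtain ⟨r, hr⟩ := exists_of_contract_polar b hq (z := z - s • ι (hyp Q φ) (v₀ b hq)) (fun p => by
    rw [hdec p, ha, hsm, map_sub, map_sub, map_smul, map_smul, contractLeft_ι, contractLeft_ι, hz, hs, h1, h2,
      map_zero, smul_zero, sub_zero, zero_add, map_one, Algebra.algebraMap_eq_smul_one, sub_self, smul_zero])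
  exact ⟨r, s, by rw [← hr, sub_add_cancel]⟩

theorem j_involute (x : CliffordAlgebra Q) : j Q φ (involute x) = involute (j Q φ x) := map_involute _ _

theorem j_mem_evenOdd {k : ZMod 2} {x : CliffordAlgebra Q} (hx : x ∈ evenOdd Q k) :
    j Q φ x ∈ evenOdd (hyp Q φ) k := map_mem_evenOdd _ _ hx

theorem mem_evenOdd_of_j [Module.Free R M] {x : CliffordAlgebra Q} (hx : j Q φ x ∈ evenOdd (hyp Q φ) 0) :
    x ∈ evenOdd Q 0 := by
  obtain ⟨x0, h0, x1, h1, rfl⟩ := exists_parts x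
  rw [map_add] at hx
  have h2 : j Q φ x1 ∈ evenOdd (hyp Q φ) 0 := by
    have := Submodule.sub_mem _ hx (j_mem_evenOdd h0)
    rwa [add_sub_cancel_left] at this
  have h3 := eq_zero_of_mem_evenOdd h2 (j_mem_evenOdd h1)
  rw [← map_zero (j Q φ)] at h3
  rw [j_injective Q φ h3, add_zero]
  exact h0

include hq in
/-- an even element commuting with `v₀` comes from `C(Q)` -/
theorem exists_j_of_comm {y : CliffordAlgebra (hyp Q φ)} (h0 : y ∈ evenOdd (hyp Q φ) 0)
    (hc : ι (hyp Q φ) (v₀ b hq) * y = y * ι (hyp Q φ) (v₀ b hq)) : ∃ x, j Q φ x = y := by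
  apply mem_range_j b
  rw [← contract_v₀ b hq, involute_eq_of_mem_even h0, hc, sub_self]

theorem ι_mul_add (Q' : QuadraticForm R M) (x y : M) : ι Q' x * ι Q' y + ι Q' y * ι Q' x =
    algebraMap R _ (QuadraticMap.polar Q' x y) := ι_mul_ι_add_swap x y

include b hq in
/-- **The even part of the Clifford group of `Q` is contained in the Clifford group of `hyp Q φ`.** -/
theorem mem_GPin'_j (u : (CliffordAlgebra Q)ˣ) (hu : u ∈ GPin' Q) (h0 : (u : CliffordAlgebra Q) ∈ evenOdd Q 0) :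
    Units.map (j Q φ : CliffordAlgebra Q →* CliffordAlgebra (hyp Q φ)) u ∈ GPin' (hyp Q φ) := by
  -- it suffices to show that `U w U⁻¹` is a vector, for `U` and for its inverse
  have hU0 : u⁻¹ ∈ GPin' Q := (GPin' Q).inv_mem hu
  have h0' : (↑u⁻¹ : CliffordAlgebra Q) ∈ evenOdd Q 0 := (evenUnits Q).inv_mem h0
  have key : ∀ (u : (CliffordAlgebra Q)ˣ), u ∈ GPin' Q → (u : CliffordAlgebra Q) ∈ evenOdd Q 0 →
      (↑u⁻¹ : CliffordAlgebra Q) ∈ evenOdd Q 0 → ∀ p : M × R,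
      j Q φ u * ι (hyp Q φ) p * j Q φ ↑u⁻¹ ∈ LinearMap.range (ι (hyp Q φ)) := by
    intro u hu h0 h0' p
    obtain ⟨hu1, hu2⟩ := (mem_GPin'_iff u).1 hu
    have hinv : j Q φ u * j Q φ ↑u⁻¹ = 1 := by rw [← map_mul, Units.mul_inv, map_one]
    have hinv' : j Q φ ↑u⁻¹ * j Q φ u = 1 := by rw [← map_mul, Units.inv_mul, map_one]
    -- the vectors of `M`
    have hM : ∀ x : M, ∃ y : M, j Q φ u * ι (hyp Q φ) (x, 0) = ι (hyp Q φ) (y, 0) * j Q φ u := fun x => by
      obtain ⟨y, hy⟩ := hu1 x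
      exact ⟨y, by rw [← j_ι, ← j_ι, ← map_mul, ← map_mul, hy]⟩
    have hM' : ∀ y : M, ∃ x : M, j Q φ u * ι (hyp Q φ) (x, 0) = ι (hyp Q φ) (y, 0) * j Q φ u := fun y => by
      obtain ⟨x, hx⟩ := hu2 y
      exact ⟨x, by rw [← j_ι, ← j_ι, ← map_mul, ← map_mul, hx]⟩
    -- reduction to `(0, 1)`
    suffices h01 : j Q φ u * ι (hyp Q φ) (0, 1) * j Q φ ↑u⁻¹ ∈ LinearMap.range (ι (hyp Q φ)) by
      have hp : p = (p.1, 0) + p.2 • (0, 1) := by
        rw [Prod.smul_mk, smul_zero, smul_eq_mul, mul_one, Prod.mk_add_mk, add_zero, zero_add]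
      rw [hp, map_add, map_smul, mul_add, add_mul, mul_smul_comm, smul_mul_assoc]
      refine Submodule.add_mem _ ?_ (Submodule.smul_mem _ _ h01)
      obtain ⟨y, hy⟩ := hM p.1
      rw [hy, mul_assoc, hinv, mul_one]
      exact ⟨_, rfl⟩
    set y := j Q φ u * ι (hyp Q φ) (0, 1) * j Q φ ↑u⁻¹ with hy
    have hyodd : y ∈ evenOdd (hyp Q φ) 1 :=
      mul10 (mul01 (j_mem_evenOdd h0) (ι_mem_evenOdd_one _ _)) (j_mem_evenOdd h0')
    -- contractions of `y` by vectors of `M`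
    choose g hg using hM'
    have hcx : ∀ x : M, contractLeft (QuadraticMap.polarBilin (hyp Q φ) (x, 0)) y =
        algebraMap R _ (QuadraticMap.polar (hyp Q φ) (g x, 0) (0, 1)) := by
      intro x
      have e1 : ι (hyp Q φ) (x, 0) * j Q φ u = j Q φ u * ι (hyp Q φ) (g x, 0) := (hg x).symm
      have e2 : j Q φ ↑u⁻¹ * ι (hyp Q φ) (x, 0) = ι (hyp Q φ) (g x, 0) * j Q φ ↑u⁻¹ := by
        calc j Q φ ↑u⁻¹ * ι (hyp Q φ) (x, 0) = j Q φ ↑u⁻¹ * (ι (hyp Q φ) (x, 0) * j Q φ u) * j Q φ ↑u⁻¹ := by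
              rw [mul_assoc, mul_assoc, hinv, mul_one]
          _ = _ := by rw [e1, ← mul_assoc, hinv', one_mul]
      rw [← D_id, D_apply, LinearMap.id_apply, involute_eq_of_mem_odd hyodd, neg_mul, sub_neg_eq_add,
        ← ι_mul_ι_add_swap, hy]
      have e3 : ι (hyp Q φ) (x, 0) * (j Q φ u * ι (hyp Q φ) (0, 1) * j Q φ ↑u⁻¹) +
          j Q φ u * ι (hyp Q φ) (0, 1) * j Q φ ↑u⁻¹ * ι (hyp Q φ) (x, 0) =
          j Q φ u * (ι (hyp Q φ) (g x, 0) * ι (hyp Q φ) (0, 1) + ι (hyp Q φ) (0, 1) * ι (hyp Q φ) (g x, 0)) *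
            j Q φ ↑u⁻¹ := by
        rw [mul_add, add_mul, ← mul_assoc, ← mul_assoc, e1]
        simp only [mul_assoc, e2]
      rw [e3, ι_mul_ι_add_swap, ← Algebra.commutes, mul_assoc, hinv, mul_one]
    -- the vector with the same contractions
    have hgl : ∀ x, QuadraticMap.polar (hyp Q φ) (g x, 0) (0, 1) = φ (g x) := fun x => by
      rw [polar_hyp]
      simp
    -- `x ↦ φ (g x)` is linear
    have hginj : ∀ x x', (algebraMap R (CliffordAlgebra (hyp Q φ)) (φ (g (x + x')))) =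
        algebraMap R _ (φ (g x)) + algebraMap R _ (φ (g x')) := fun x x' => by
      rw [← hgl, ← hgl, ← hgl, ← hcx, ← hcx, ← hcx, ← LinearMap.add_apply, ← map_add, ← map_add]
      congr 3
      rw [Prod.mk_add_mk, add_zero]
    have hgsm : ∀ (c : R) x, (algebraMap R (CliffordAlgebra (hyp Q φ)) (φ (g (c • x)))) =
        algebraMap R _ (c * φ (g x)) := fun c x => by
      rw [map_mul, ← hgl, ← hgl, ← hcx, ← hcx, ← Algebra.smul_def, ← LinearMap.smul_apply, ← map_smul, ← map_smul]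
      congr 3
      rw [Prod.smul_mk, smul_zero]
    have hfree : Module.Free R (M × R) := Module.Free.of_basis (bW b)
    let ψ : Module.Dual R (M × R) :=
      { toFun := fun p => φ (g p.1)
        map_add' := fun p p' => algebraMap_inj (Q := hyp Q φ) (by rw [Prod.fst_add, hginj, map_add])
        map_smul' := fun c p => algebraMap_inj (Q := hyp Q φ) (by rw [Prod.smul_fst, hgsm]; rfl) }
    obtain ⟨z, hz⟩ := hq.2 ψ
    obtain ⟨r, s, hrs⟩ := exists_of_contract_inl b hq (z := y - ι (hyp Q φ) z) (fun x => by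
      rw [map_sub, hcx, hgl, contractLeft_ι]
      have : QuadraticMap.polarBilin (hyp Q φ) (x, 0) z = φ (g x) := by
        change QuadraticMap.polar (hyp Q φ) (x, 0) z = _
        rw [QuadraticMap.polar_comm]
        exact DFunLike.congr_fun hz (x, 0)
      rw [this, sub_self])
    have hodd : y - ι (hyp Q φ) z - s • ι (hyp Q φ) (v₀ b hq) ∈ evenOdd (hyp Q φ) 1 :=
      Submodule.sub_mem _ (Submodule.sub_mem _ hyodd (ι_mem_evenOdd_one _ _))
        (Submodule.smul_mem _ _ (ι_mem_evenOdd_one _ _))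
    have hzero : y - ι (hyp Q φ) z - s • ι (hyp Q φ) (v₀ b hq) = 0 :=
      scalar_odd ⟨r, by rw [hrs, add_sub_cancel_right]⟩ hodd
    refine ⟨z + s • v₀ b hq, ?_⟩
    rw [map_add, map_smul]
    rw [sub_sub, sub_eq_zero] at hzero
    exact hzero.symm
  have key2 : ∀ (u : (CliffordAlgebra Q)ˣ), u ∈ GPin' Q → (u : CliffordAlgebra Q) ∈ evenOdd Q 0 →
      (↑u⁻¹ : CliffordAlgebra Q) ∈ evenOdd Q 0 → ∀ p : M × R, ∃ p' : M × R,
      j Q φ u * ι (hyp Q φ) p = ι (hyp Q φ) p' * j Q φ u := by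
    intro u hu h0 h0' p
    obtain ⟨p', hp'⟩ := key u hu h0 h0' p
    refine ⟨p', ?_⟩
    rw [hp', mul_assoc, ← map_mul, Units.inv_mul, map_one, mul_one]
  rw [mem_GPin'_iff]
  refine ⟨fun p => key2 u hu h0 h0' p, fun p => ?_⟩
  obtain ⟨p', hp'⟩ := key2 u⁻¹ hU0 h0' (by rw [inv_inv]; exact h0) p
  refine ⟨p', ?_⟩
  change j Q φ u * ι (hyp Q φ) p' = ι (hyp Q φ) p * j Q φ u
  calc j Q φ u * ι (hyp Q φ) p' = j Q φ u * (ι (hyp Q φ) p' * j Q φ ↑u⁻¹) * j Q φ u := by
        rw [mul_assoc, mul_assoc, ← map_mul, Units.inv_mul, map_one, mul_one]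
    _ = _ := by rw [← hp', ← mul_assoc, ← map_mul, Units.mul_inv, map_one, one_mul]

include hq in
/-- **An even element of the Clifford group of `hyp Q φ` commuting with `v₀` comes from the even Clifford group of `Q`.** -/
theorem exists_of_comm (w : (CliffordAlgebra (hyp Q φ))ˣ) (hw : w ∈ GPin' (hyp Q φ))
    (h0 : (w : CliffordAlgebra (hyp Q φ)) ∈ evenOdd (hyp Q φ) 0)
    (hc : ι (hyp Q φ) (v₀ b hq) * w = w * ι (hyp Q φ) (v₀ b hq)) :
    ∃ u : (CliffordAlgebra Q)ˣ, u ∈ GPin' Q ∧ (u : CliffordAlgebra Q) ∈ evenOdd Q 0 ∧ j Q φ u = w := by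
  have hfree : Module.Free R M := Module.Free.of_basis b
  have hfree' : Module.Free R (M × R) := Module.Free.of_basis (bW b)
  have h0' : (↑w⁻¹ : CliffordAlgebra (hyp Q φ)) ∈ evenOdd (hyp Q φ) 0 := (evenUnits (hyp Q φ)).inv_mem h0
  have hc' : ι (hyp Q φ) (v₀ b hq) * ↑w⁻¹ = ↑w⁻¹ * ι (hyp Q φ) (v₀ b hq) := by
    rw [Units.eq_inv_mul_iff_mul_eq, ← mul_assoc, ← hc, mul_assoc, Units.mul_inv, mul_one]
  obtain ⟨x, hx⟩ := exists_j_of_comm b hq h0 hc
  obtain ⟨y, hy⟩ := exists_j_of_comm b hq h0' hc'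
  have hj := j_injective Q φ
  let u : (CliffordAlgebra Q)ˣ := ⟨x, y, hj (by rw [map_mul, hx, hy, Units.mul_inv, map_one]),
    hj (by rw [map_mul, hx, hy, Units.inv_mul, map_one])⟩
  have hu : j Q φ u = w := hx
  -- the snd component of `w (x, 0) w⁻¹` vanishes
  have hsnd : ∀ (p : M × R) (m : M), (w : CliffordAlgebra (hyp Q φ)) * ι (hyp Q φ) (m, 0) = ι (hyp Q φ) p * w →
      p.2 = 0 := by
    intro p m h
    apply algebraMap_inj (Q := hyp Q φ)
    have h1 : ι (hyp Q φ) p = w * ι (hyp Q φ) (m, 0) * ↑w⁻¹ := by rw [h, mul_assoc, Units.mul_inv, mul_one]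
    have h2 : QuadraticMap.polar (hyp Q φ) (v₀ b hq) (m, 0) = 0 := polar_v₀ b hq _
    rw [← polar_v₀ b hq p, ← ι_mul_ι_add_swap, h1, map_zero]
    calc ι (hyp Q φ) (v₀ b hq) * (w * ι (hyp Q φ) (m, 0) * ↑w⁻¹) + w * ι (hyp Q φ) (m, 0) * ↑w⁻¹ *
          ι (hyp Q φ) (v₀ b hq) = w * (ι (hyp Q φ) (v₀ b hq) * ι (hyp Q φ) (m, 0) + ι (hyp Q φ) (m, 0) *
            ι (hyp Q φ) (v₀ b hq)) * ↑w⁻¹ := by
          rw [mul_assoc (w * ι (hyp Q φ) (m, 0) : CliffordAlgebra (hyp Q φ)), ← hc', mul_add, add_mul, ← mul_assoc,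
            ← mul_assoc, hc]
          simp only [mul_assoc]
      _ = 0 := by rw [ι_mul_ι_add_swap, h2, map_zero, mul_zero, zero_mul]
  have hsnd' : ∀ (p : M × R) (m : M), (w : CliffordAlgebra (hyp Q φ)) * ι (hyp Q φ) p = ι (hyp Q φ) (m, 0) * w →
      p.2 = 0 := by
    intro p m h
    apply algebraMap_inj (Q := hyp Q φ)
    have h1 : ι (hyp Q φ) p = ↑w⁻¹ * ι (hyp Q φ) (m, 0) * w := by
      rw [mul_assoc, ← h, ← mul_assoc, Units.inv_mul, one_mul]
    have h2 : QuadraticMap.polar (hyp Q φ) (v₀ b hq) (m, 0) = 0 := polar_v₀ b hq _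
    rw [← polar_v₀ b hq p, ← ι_mul_ι_add_swap, h1, map_zero]
    calc ι (hyp Q φ) (v₀ b hq) * (↑w⁻¹ * ι (hyp Q φ) (m, 0) * w) + ↑w⁻¹ * ι (hyp Q φ) (m, 0) * w *
          ι (hyp Q φ) (v₀ b hq) = ↑w⁻¹ * (ι (hyp Q φ) (v₀ b hq) * ι (hyp Q φ) (m, 0) + ι (hyp Q φ) (m, 0) *
            ι (hyp Q φ) (v₀ b hq)) * w := by
          rw [mul_assoc (↑w⁻¹ * ι (hyp Q φ) (m, 0) : CliffordAlgebra (hyp Q φ)), ← hc, mul_add, add_mul, ← mul_assoc,
            ← mul_assoc, hc']
          simp only [mul_assoc]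
      _ = 0 := by rw [ι_mul_ι_add_swap, h2, map_zero, mul_zero, zero_mul]
  refine ⟨u, ?_, mem_evenOdd_of_j (φ := φ) (by rw [hu]; exact h0), hu⟩
  rw [mem_GPin'_iff]
  obtain ⟨hw1, hw2⟩ := (mem_GPin'_iff w).1 hw
  constructor
  · intro m
    obtain ⟨p, hp⟩ := hw1 (m, 0)
    have h1 := hsnd p m hp
    refine ⟨p.1, hj ?_⟩
    rw [map_mul, map_mul, hu, j_ι, j_ι, hp]
    congr 2
    exact Prod.ext rfl h1
  · intro m
    obtain ⟨p, hp⟩ := hw2 (m, 0)
    have h1 := hsnd' p m hp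
    refine ⟨p.1, hj ?_⟩
    rw [map_mul, map_mul, hu, j_ι, j_ι, ← hp]
    congr 2
    exact Prod.ext rfl h1.symm

end K918.Emb
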