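import Groth.Agent.QuadGrp.K918.Dickson
import Groth.Agent.QuadGrp.K916.BC
import Groth.Agent.QuadGrp.K917.Base

/-!
# Square-zero thickenings: lifting of isometries and of elements of the Clifford group (even rank)

Setting: `A → A'` surjective with square-zero kernel, `f : V → V'` a map sending a basis to a basis, compatible with the
quadratic forms.
-/

set_option autoImplicit false
universe u v w u'

namespace K918.Thick

open CliffordAlgebra QuadGrp K916.BC K918.Cliff

section General

variable {R : Type u} [CommRing R] {M : Type v} [AddCommGroup M] [Module R M] {Q : QuadraticForm R M}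

/-- the isometry induced by an element of the naive Clifford group -/
theorem exists_isometry_of_mem_GPin' [Module.Free R M] (u : (CliffordAlgebra Q)ˣ) (hu : u ∈ GPin' Q) :
    ∃ g : M ≃ₗ[R] M, g ∈ O Q ∧ ∀ v, (u : CliffordAlgebra Q) * ι Q v = ι Q (g v) * u := by
  obtain ⟨h1, h2⟩ := (mem_GPin'_iff u).1 hu
  obtain ⟨-, p, -, -, -, hp⟩ := K916.Basic.exists_retractions Q
  have e1 : ∀ v, ι Q (p (u * ι Q v * ↑u⁻¹)) = u * ι Q v * ↑u⁻¹ := fun v => by
    obtain ⟨w, hw⟩ := h1 v
    have : (u : CliffordAlgebra Q) * ι Q v * ↑u⁻¹ = ι Q w := by rw [hw, mul_assoc, Units.mul_inv, mul_one]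
    rw [this, hp]
  have e2 : ∀ v, ι Q (p (↑u⁻¹ * ι Q v * u)) = ↑u⁻¹ * ι Q v * (u : CliffordAlgebra Q) := fun v => by
    obtain ⟨w, hw⟩ := h2 v
    have : ↑u⁻¹ * ι Q v * (u : CliffordAlgebra Q) = ι Q w := by
      rw [mul_assoc, ← hw, ← mul_assoc, Units.inv_mul, one_mul]
    rw [this, hp]
  let g : M →ₗ[R] M := p ∘ₗ LinearMap.mulRight R ↑u⁻¹ ∘ₗ LinearMap.mulLeft R (u : CliffordAlgebra Q) ∘ₗ ι Q
  let g' : M →ₗ[R] M := p ∘ₗ LinearMap.mulRight R (u : CliffordAlgebra Q) ∘ₗ
    LinearMap.mulLeft R (↑u⁻¹ : CliffordAlgebra Q) ∘ₗ ι Q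
  have hg : ∀ v, ι Q (g v) = u * ι Q v * ↑u⁻¹ := e1
  have hg' : ∀ v, ι Q (g' v) = ↑u⁻¹ * ι Q v * (u : CliffordAlgebra Q) := e2
  have k1 : g ∘ₗ g' = LinearMap.id := by
    ext v
    apply K916.Basic.ι_injective Q
    rw [LinearMap.comp_apply, hg, hg', LinearMap.id_apply]
    calc (u : CliffordAlgebra Q) * (↑u⁻¹ * ι Q v * u) * ↑u⁻¹ = (u * ↑u⁻¹) * ι Q v * (u * ↑u⁻¹) := by
          simp only [mul_assoc]
      _ = ι Q v := by rw [Units.mul_inv, one_mul, mul_one]
  have k2 : g' ∘ₗ g = LinearMap.id := by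
    ext v
    apply K916.Basic.ι_injective Q
    rw [LinearMap.comp_apply, hg', hg, LinearMap.id_apply]
    calc ↑u⁻¹ * ((u : CliffordAlgebra Q) * ι Q v * ↑u⁻¹) * u = (↑u⁻¹ * u) * ι Q v * (↑u⁻¹ * u) := by
          simp only [mul_assoc]
      _ = ι Q v := by rw [Units.inv_mul, one_mul, mul_one]
  refine ⟨LinearEquiv.ofLinearMap g g' k1 k2, fun v => ?_, fun v => ?_⟩
  · change Q (g v) = Q v
    apply algebraMap_inj (Q := Q)
    rw [← ι_sq_scalar, hg, ← ι_sq_scalar]
    calc (u : CliffordAlgebra Q) * ι Q v * ↑u⁻¹ * (u * ι Q v * ↑u⁻¹) =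
          u * (ι Q v * ((↑u⁻¹ * u) * ι Q v)) * ↑u⁻¹ := by simp only [mul_assoc]
      _ = ι Q v * ι Q v := by
        rw [Units.inv_mul, one_mul, ι_sq_scalar, ← Algebra.commutes, mul_assoc, Units.mul_inv, mul_one]
  · change _ = ι Q (g v) * u
    rw [hg, mul_assoc, Units.inv_mul, mul_one]

/-- a linear map preserving a regular form is bijective -/
theorem bijective_of_regular {n : ℕ} (b : Module.Basis (Fin n) R M) (hQ : IsRegular Q) (g : M →ₗ[R] M)
    (hg : ∀ v, Q (g v) = Q v) : Function.Bijective g := by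
  have hp : ∀ v w, QuadraticMap.polar Q (g v) (g w) = QuadraticMap.polar Q v w := fun v w => by
    rw [QuadraticMap.polar, QuadraticMap.polar, ← map_add, hg, hg, hg]
  let ad : M →ₗ[R] M := ∑ i, ((QuadraticMap.polarBilin Q).flip (g (b i))).smulRight (db b hQ i)
  have hdb : ∀ i j, QuadraticMap.polar Q (db b hQ i) (b j) = if j = i then 1 else 0 := fun i j => by
    have := DFunLike.congr_fun (polarBilin_db b hQ i) (b j)
    rw [Module.Basis.coord_apply, b.repr_self, Finsupp.single_apply] at this
    exact this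
  have had : ad ∘ₗ g = LinearMap.id := by
    ext x
    apply hQ.1
    apply b.ext
    intro j
    change QuadraticMap.polar Q (ad (g x)) (b j) = QuadraticMap.polar Q x (b j)
    have h1 : ad (g x) = ∑ i, QuadraticMap.polar Q x (b i) • db b hQ i := by
      simp only [ad, LinearMap.sum_apply, LinearMap.smulRight_apply, LinearMap.flip_apply]
      exact Finset.sum_congr rfl fun i _ => by
        rw [show QuadraticMap.polarBilin Q (g x) (g (b i)) = QuadraticMap.polar Q x (b i) from hp x (b i)]
    rw [h1]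
    change QuadraticMap.polarBilin Q (∑ i, QuadraticMap.polar Q x (b i) • db b hQ i) (b j) = _
    rw [map_sum, LinearMap.sum_apply]
    rw [Finset.sum_eq_single j]
    · rw [map_smul, LinearMap.smul_apply]
      change QuadraticMap.polar Q x (b j) • QuadraticMap.polar Q (db b hQ j) (b j) = _
      rw [hdb, if_pos rfl, smul_eq_mul, mul_one]
    · intro i _ hij
      rw [map_smul, LinearMap.smul_apply]
      change QuadraticMap.polar Q x (b i) • QuadraticMap.polar Q (db b hQ i) (b j) = _
      rw [hdb, if_neg (Ne.symm hij), smul_zero]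
    · intro h; exact absurd (Finset.mem_univ _) h
  have : Module.Finite R M := Module.Finite.of_basis b
  have hsurj : Function.Surjective ad := fun x => ⟨g x, DFunLike.congr_fun had x⟩
  have hinj : Function.Injective ad := OrzechProperty.injective_of_surjective_endomorphism ad hsurj
  refine ⟨fun x y h => ?_, fun x => ⟨ad x, ?_⟩⟩
  · have h1 := DFunLike.congr_fun had x
    have h2 := DFunLike.congr_fun had y
    rw [LinearMap.comp_apply, LinearMap.id_apply] at h1 h2
    rw [← h1, ← h2, h]
  · exact hinj (DFunLike.congr_fun had (ad x))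

end General

section Thick

variable {A : Type u} [CommRing A] {A' : Type u'} [CommRing A'] [Algebra A A'] {V : Type v} [AddCommGroup V]
  [Module A V] {V' : Type w} [AddCommGroup V'] [Module A V'] [Module A' V'] [IsScalarTower A A' V'] {n : ℕ}
  (b : Module.Basis (Fin n) A V) (b' : Module.Basis (Fin n) A' V') {Q : QuadraticForm A V}
  {Q' : QuadraticForm A' V'} {f : V →ₗ[A] V'} (hf : ∀ i, f (b i) = b' i) (hfQ : Compat A' Q Q' f)

include hf in
theorem repr_f (v : V) (i : Fin n) : b'.repr (f v) i = algebraMap A A' (b.repr v i) := by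
  conv_lhs => rw [← b.sum_repr v]
  rw [map_sum, map_sum, Finset.sum_apply', Finset.sum_eq_single i]
  · rw [map_smul, hf, ← algebraMap_smul A' (b.repr v i), map_smul, b'.repr_self, Finsupp.smul_single,
      Finsupp.single_eq_same, smul_eq_mul, mul_one]
  · intro j _ hj
    rw [map_smul, hf, ← algebraMap_smul A' (b.repr v j), map_smul, b'.repr_self, Finsupp.smul_single,
      Finsupp.single_eq_of_ne (Ne.symm hj)]
  · intro h; exact absurd (Finset.mem_univ _) h

include hf in
theorem isBaseChange_f : IsBaseChange A' f :=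
  IsBaseChange.of_equiv ((b.baseChange A').equiv b' (Equiv.refl _)) fun x => by
    apply b'.repr.injective
    ext i
    rw [repr_f b b' hf]
    conv_lhs => rw [← b.sum_repr x]
    rw [TensorProduct.tmul_sum, map_sum, map_sum, Finset.sum_apply', Finset.sum_eq_single i]
    · rw [TensorProduct.tmul_smul, ← algebraMap_smul A' (b.repr x i), map_smul, map_smul, ← b.baseChange_apply A' i,
        Module.Basis.equiv_apply, b'.repr_self, Finsupp.smul_apply]
      simp
    · intro j _ hj
      rw [TensorProduct.tmul_smul, ← algebraMap_smul A' (b.repr x j), map_smul, map_smul, ← b.baseChange_apply A' j,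
        Module.Basis.equiv_apply, b'.repr_self, Finsupp.smul_apply]
      simp [hj]
    · intro h; exact absurd (Finset.mem_univ _) h

include hf hfQ in
theorem isBC : IsBC A' Q Q' f := ⟨isBaseChange_f b b' hf, hfQ⟩

include b b' hf in
theorem surj_f (hs : Function.Surjective (algebraMap A A')) : Function.Surjective f := by
  intro v'
  choose s hs using hs
  refine ⟨∑ i, s (b'.repr v' i) • b i, ?_⟩
  apply b'.repr.injective
  ext i
  rw [repr_f b b' hf, map_sum, Finset.sum_apply', Finset.sum_eq_single i]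
  · rw [map_smul, b.repr_self, Finsupp.smul_single, Finsupp.single_eq_same, smul_eq_mul, mul_one, hs]
  · intro j _ hj
    rw [map_smul, b.repr_self, Finsupp.smul_single, Finsupp.single_eq_of_ne (Ne.symm hj)]
  · intro h; exact absurd (Finset.mem_univ _) h

include hf hfQ in
theorem regular' (hQ : IsRegular Q) : IsRegular Q' := by
  rw [K917.Base.isRegular_iff b', K917.Base.disc_eq_det]
  rw [K917.Base.isRegular_iff b, K917.Base.disc_eq_det] at hQ
  have h1 : (Matrix.of fun i j => QuadraticMap.polar Q' (b' i) (b' j)) =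
      (algebraMap A A').mapMatrix (Matrix.of fun i j => QuadraticMap.polar Q (b i) (b j)) := by
    ext i j
    rw [RingHom.mapMatrix_apply, Matrix.map_apply, Matrix.of_apply, Matrix.of_apply, ← hf, ← hf, hfQ.polar]
  rw [h1, ← RingHom.map_det]
  exact hQ.map _

variable (hs : Function.Surjective (algebraMap A A'))
  (hI : ∀ x y : A, algebraMap A A' x = 0 → algebraMap A A' y = 0 → x * y = 0)

include b b' hf hfQ hI in
theorem polar_of_ker {v w : V} (hv : f v = 0) (hw : f w = 0) : QuadraticMap.polar Q v w = 0 := by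
  have h1 : ∀ i, algebraMap A A' (b.repr v i) = 0 := fun i => by
    rw [← repr_f b b' hf, hv, map_zero]; rfl
  change QuadraticMap.polarBilin Q v w = 0
  conv_lhs => rw [← b.sum_repr v]
  rw [map_sum, LinearMap.sum_apply]
  refine Finset.sum_eq_zero fun i _ => ?_
  rw [map_smul, LinearMap.smul_apply, smul_eq_mul]
  refine hI _ _ (h1 i) ?_
  have h2 := hfQ.polar (b i) w
  rw [hw, QuadraticMap.polar_zero_right] at h2
  exact h2.symm

include b b' hf hfQ hI in
theorem apply_of_ker {v : V} (hv : f v = 0) : Q v = 0 := by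
  have h1 : ∀ i, algebraMap A A' (b.repr v i) = 0 := fun i => by
    rw [← repr_f b b' hf, hv, map_zero]; rfl
  have h2 : ∀ s : Finset (Fin n), f (∑ i ∈ s, b.repr v i • b i) = 0 ∧ Q (∑ i ∈ s, b.repr v i • b i) = 0 := by
    classical
    intro s
    induction s using Finset.induction_on with
    | empty => simp
    | insert i s hi ih =>
      have h3 : f (b.repr v i • b i) = 0 := by
        rw [map_smul, ← algebraMap_smul A' (b.repr v i), h1, zero_smul]
      rw [Finset.sum_insert hi]
      refine ⟨by rw [map_add, h3, ih.1, add_zero], ?_⟩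
      rw [QuadraticMap.map_add Q, ih.2, polar_of_ker b b' hf hfQ hI h3 ih.1, QuadraticMap.map_smul,
        hI _ _ (h1 i) (h1 i), zero_smul, add_zero, add_zero]
  have h3 := (h2 Finset.univ).2
  rwa [b.sum_repr] at h3

include b b' hf hfQ hs hI in
/-- **isometries lift** -/
theorem exists_lift_isometry (hQ : IsRegular Q) (g' : V' ≃ₗ[A'] V') (hg' : g' ∈ O Q') :
    ∃ g : V ≃ₗ[A] V, g ∈ O Q ∧ ∀ v, f (g v) = g' (f v) := by
  choose t ht using surj_f b b' hf hs
  let h : V →ₗ[A] V := b.constr A fun j => t (g' (b' j))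
  have hh : ∀ v, f (h v) = g' (f v) := by
    have : f ∘ₗ h = (g'.toLinearMap.restrictScalars A) ∘ₗ f := by
      apply b.ext
      intro j
      rw [LinearMap.comp_apply, Module.Basis.constr_basis, ht, LinearMap.comp_apply, hf]
      rfl
    exact fun v => DFunLike.congr_fun this v
  have hhQ : ∀ v, algebraMap A A' (Q v - Q (h v)) = 0 := fun v => by
    rw [map_sub, ← hfQ v, ← hfQ (h v), hh, hg', sub_self]
  have hhp : ∀ v w, algebraMap A A' (QuadraticMap.polar Q v w - QuadraticMap.polar Q (h v) (h w)) = 0 := fun v w => by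
    rw [QuadraticMap.polar, QuadraticMap.polar, ← map_add h]
    have e : Q (v + w) - Q v - Q w - (Q (h (v + w)) - Q (h v) - Q (h w)) =
      (Q (v + w) - Q (h (v + w))) - (Q v - Q (h v)) - (Q w - Q (h w)) := by abel
    rw [e, map_sub, map_sub, hhQ, hhQ, hhQ, sub_zero, sub_zero]
  let β : Fin n → Fin n → A := fun i j => if i = j then Q (b i) - Q (h (b i)) else
    if i < j then QuadraticMap.polar Q (b i) (b j) - QuadraticMap.polar Q (h (b i)) (h (b j)) else 0
  have hβ : ∀ i j, algebraMap A A' (β i j) = 0 := fun i j => by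
    simp only [β]
    split_ifs
    · exact hhQ _
    · exact hhp _ _
    · exact map_zero _
  have hβd : ∀ i, β i i = Q (b i) - Q (h (b i)) := fun i => if_pos rfl
  have hβs : ∀ i j, i ≠ j → β i j + β j i =
      QuadraticMap.polar Q (b i) (b j) - QuadraticMap.polar Q (h (b i)) (h (b j)) := fun i j hij => by
    simp only [β]
    rcases lt_or_gt_of_ne hij with h' | h'
    · rw [if_neg hij, if_pos h', if_neg (Ne.symm hij), if_neg (not_lt_of_gt h'), add_zero]
    · rw [if_neg hij, if_neg (not_lt_of_gt h'), if_neg (Ne.symm hij), if_pos h', zero_add, QuadraticMap.polar_comm,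
        QuadraticMap.polar_comm Q (h (b j))]
  let X : Fin n → V := fun j => ∑ k, β k j • h (db b hQ k)
  have hX0 : ∀ j, f (X j) = 0 := fun j => by
    simp only [X]
    rw [map_sum]
    exact Finset.sum_eq_zero fun k _ => by rw [map_smul, ← algebraMap_smul A' (β k j), hβ, zero_smul]
  have hdb : ∀ i j, QuadraticMap.polar Q (b j) (db b hQ i) = if j = i then 1 else 0 := fun i j => by
    have := DFunLike.congr_fun (polarBilin_db b hQ i) (b j)
    rw [Module.Basis.coord_apply, b.repr_self, Finsupp.single_apply] at this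
    rw [QuadraticMap.polar_comm]
    exact this
  have hX1 : ∀ i j, QuadraticMap.polar Q (h (b i)) (X j) = β i j := fun i j => by
    change QuadraticMap.polarBilin Q (h (b i)) (∑ k, β k j • h (db b hQ k)) = _
    rw [map_sum]
    have e : ∀ k, QuadraticMap.polarBilin Q (h (b i)) (β k j • h (db b hQ k)) = if i = k then β k j else 0 := fun k => by
      rw [map_smul, smul_eq_mul]
      change β k j * QuadraticMap.polar Q (h (b i)) (h (db b hQ k)) = _
      have e1 := hI _ _ (hβ k j) (hhp (b i) (db b hQ k))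
      rw [mul_sub, sub_eq_zero, hdb] at e1
      rw [← e1, mul_ite, mul_one, mul_zero]
    rw [Finset.sum_congr rfl fun k _ => e k, Finset.sum_ite_eq, if_pos (Finset.mem_univ _)]
  let g0 : V →ₗ[A] V := b.constr A fun j => h (b j) + X j
  have hg0 : ∀ j, g0 (b j) = h (b j) + X j := fun j => Module.Basis.constr_basis _ _ _ _
  have hg0f : ∀ v, f (g0 v) = g' (f v) := by
    have : f ∘ₗ g0 = (g'.toLinearMap.restrictScalars A) ∘ₗ f := by
      apply b.ext
      intro j
      rw [LinearMap.comp_apply, hg0, map_add, hX0, add_zero, hh]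
      rfl
    exact fun v => DFunLike.congr_fun this v
  have hg0Q : ∀ v, Q (g0 v) = Q v := by
    have : Q.comp g0 = Q := by
      apply K917.Base.ext_of_basis b
      · intro i
        rw [QuadraticMap.comp_apply, hg0, QuadraticMap.map_add Q, hX1, hβd, apply_of_ker b b' hf hfQ hI (hX0 i)]
        ring
      · intro i j hij
        have hpc : QuadraticMap.polar (Q.comp g0) (b i) (b j) = QuadraticMap.polar Q (g0 (b i)) (g0 (b j)) := by
          rw [QuadraticMap.polar, QuadraticMap.polar, QuadraticMap.comp_apply, QuadraticMap.comp_apply,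
            QuadraticMap.comp_apply, map_add]
        rw [hpc, hg0, hg0, QuadraticMap.polar_add_left, QuadraticMap.polar_add_right, QuadraticMap.polar_add_right,
          polar_of_ker b b' hf hfQ hI (hX0 i) (hX0 j), hX1, QuadraticMap.polar_comm Q (X i), hX1]
        linear_combination hβs i j hij
    intro v
    exact DFunLike.congr_fun this v
  refine ⟨LinearEquiv.ofBijective g0 (bijective_of_regular b hQ g0 hg0Q), fun v => ?_, fun v => ?_⟩
  · exact hg0Q v
  · exact hg0f v

include hs hI in
theorem exists_lift_unit (r' : A') (hr' : IsUnit r') : ∃ r : A, IsUnit r ∧ algebraMap A A' r = r' := by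
  obtain ⟨s', hs'⟩ := hr'.exists_right_inv
  obtain ⟨r, rfl⟩ := hs r'
  obtain ⟨s, rfl⟩ := hs s'
  refine ⟨r, ?_, rfl⟩
  have h1 : (r * s - 1) * (r * s - 1) = 0 := by
    apply hI <;> rw [map_sub, map_mul, hs', map_one, sub_self]
  exact IsUnit.of_mul_eq_one (s * (2 - r * s)) (by linear_combination (-1 : A) * h1)

include b b' hf hs hI in
/-- **The naive Clifford group lifts**, regular form of even rank over a local ring. -/
theorem exists_lift_GPin' [IsLocalRing A] (hn : Even n) (hQ : IsRegular Q) (u : (CliffordAlgebra Q')ˣ)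
    (hu : u ∈ GPin' Q') : ∃ w : (CliffordAlgebra Q)ˣ, w ∈ GPin' Q ∧ cmap hfQ (w : CliffordAlgebra Q) = u := by
  have hV : Module.Free A V := Module.Free.of_basis b
  have hV' : Module.Free A' V' := Module.Free.of_basis b'
  have hQ' := regular' b b' hf hfQ hQ
  obtain ⟨g', hg'O, hg'⟩ := exists_isometry_of_mem_GPin' u hu
  obtain ⟨g, hgO, hg⟩ := exists_lift_isometry b b' hf hfQ hs hI hQ g' hg'O
  obtain ⟨u₁, hu₁, hc⟩ := exists_GPin'_conj b hQ hn g hgO
  let y : (CliffordAlgebra Q')ˣ := Units.map (cmap hfQ : CliffordAlgebra Q →* CliffordAlgebra Q') u₁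
  have hy : ∀ v', (y : CliffordAlgebra Q') * ι Q' v' = ι Q' (g' v') * y := by
    intro v'
    obtain ⟨v, rfl⟩ := surj_f b b' hf hs v'
    have h1 : (u₁ : CliffordAlgebra Q) * ι Q v = ι Q (g v) * u₁ := by
      rw [← hc v, mul_assoc, Units.inv_mul, mul_one]
    have h2 := congrArg (cmap hfQ) h1
    rw [map_mul, map_mul, cmap_ι, cmap_ι, hg] at h2
    exact h2
  have hz : ∀ v', ι Q' v' * ((u * y⁻¹ : (CliffordAlgebra Q')ˣ) : CliffordAlgebra Q') =
      ((u * y⁻¹ : (CliffordAlgebra Q')ˣ) : CliffordAlgebra Q') * ι Q' v' := by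
    intro v'
    obtain ⟨v, rfl⟩ := g'.surjective v'
    have h1 : ι Q' v * (↑y⁻¹ : CliffordAlgebra Q') = ↑y⁻¹ * ι Q' (g' v) := by
      rw [Units.eq_inv_mul_iff_mul_eq, ← mul_assoc, hy v, mul_assoc, Units.mul_inv, mul_one]
    rw [Units.val_mul, ← mul_assoc, ← hg' v, mul_assoc, h1, mul_assoc]
  obtain ⟨r', hr'⟩ := exists_of_central_even_rank (b := b') (hQ := hQ') hn hz
  have hr'u : IsUnit r' := isUnit_of_isUnit_algebraMap (Q := Q') (by rw [← hr']; exact Units.isUnit _)
  obtain ⟨r, hr, rfl⟩ := exists_lift_unit hs hI r' hr'u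
  obtain ⟨r, rfl⟩ := hr
  refine ⟨Units.map (algebraMap A (CliffordAlgebra Q) : A →* CliffordAlgebra Q) r * u₁, ?_, ?_⟩
  · refine (GPin' Q).mul_mem ?_ hu₁
    rw [mem_GPin'_iff]
    exact ⟨fun v => ⟨v, Algebra.commutes _ _⟩, fun v => ⟨v, Algebra.commutes _ _⟩⟩
  · rw [Units.val_mul, map_mul]
    change cmap hfQ (algebraMap A _ (r : A)) * (y : CliffordAlgebra Q') = u
    rw [cmap_algebraMap, ← hr', Units.val_mul, mul_assoc, Units.inv_mul, mul_one]

end Thick

end K918.Thick
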