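import Groth.Agent.QuadGrp.K918.SmoothLift
import Groth.Agent.QuadGrp.K918.Thick

/-!
# The thickening `B → B / I` for base changed forms; the Clifford group of a regular form of even rank is smooth
-/

set_option autoImplicit false
universe u
open CategoryTheory CategoryTheory.Limits AlgebraicGeometry

namespace K918.Pts

open CliffordAlgebra QuadGrp TensorProduct K916.BC K918.Cliff

variable {R : Type u} [CommRing R] {M : Type u} [AddCommGroup M] [Module R M]

section Glue

variable (M) (B : Type u) [CommRing B] [Algebra R B] (I : Ideal B)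

/-- the reduction map -/
noncomputable def ff : B ⊗[R] M →ₗ[B] (B ⧸ I) ⊗[R] M :=
  TensorProduct.AlgebraTensorModule.map (Algebra.linearMap B (B ⧸ I)) LinearMap.id

theorem ff_tmul (a : B) (m : M) : ff M B I (a ⊗ₜ[R] m) = Ideal.Quotient.mk I a ⊗ₜ[R] m := rfl

theorem ff_eq (v : B ⊗[R] M) : ff M B I v = LinearMap.rTensor M (Ideal.Quotient.mkₐ R I).toLinearMap v := by
  induction v with
  | zero => rw [map_zero, map_zero]
  | tmul a m => rfl
  | add x y hx hy => rw [map_add, map_add, hx, hy]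

variable {M} [Module.Free R M] (Q : QuadraticForm R M)

omit [Module.Free R M] in
theorem ff_basis {n : ℕ} (bM : Module.Basis (Fin n) R M) (i : Fin n) :
    ff M B I (bM.baseChange B i) = bM.baseChange (B ⧸ I) i := by
  rw [Module.Basis.baseChange_apply, Module.Basis.baseChange_apply, ff_tmul, map_one]

theorem ff_compat : Compat (B ⧸ I) (baseChangeForm B Q) (baseChangeForm (B ⧸ I) Q) (ff M B I) := by
  intro v
  have h := congrArg (F Q (Ideal.Quotient.mkₐ R I)) (ι_sq_scalar (baseChangeForm B Q) v)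
  rw [map_mul, F_ι, F_algebraMap, ι_sq_scalar, ← ff_eq] at h
  exact algebraMap_inj h

theorem F_eq_cmap (x : CliffordAlgebra (baseChangeForm B Q)) :
    F Q (Ideal.Quotient.mkₐ R I) x = cmap (ff_compat B I Q) x := by
  refine K916.BC.ringHom_ext (Q := baseChangeForm B Q)
    (F := (F Q (Ideal.Quotient.mkₐ R I)).toRingHom) (G := (cmap (ff_compat B I Q)).toRingHom) ?_ ?_ x
  · intro m
    change F Q (Ideal.Quotient.mkₐ R I) (ι _ m) = cmap (ff_compat B I Q) (ι _ m)
    rw [F_ι, cmap_ι, ff_eq]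
  · intro r
    change F Q (Ideal.Quotient.mkₐ R I) (algebraMap _ _ r) = cmap (ff_compat B I Q) (algebraMap _ _ r)
    rw [F_algebraMap, cmap_algebraMap]
    rfl

theorem sq_zero {I : Ideal B} (hI : I * I = ⊥) (x y : B) (hx : algebraMap B (B ⧸ I) x = 0)
    (hy : algebraMap B (B ⧸ I) y = 0) : x * y = 0 := by
  have h1 : x ∈ I := Ideal.Quotient.eq_zero_iff_mem.1 hx
  have h2 : y ∈ I := Ideal.Quotient.eq_zero_iff_mem.1 hy
  have h3 : x * y ∈ I * I := Ideal.mul_mem_mul h1 h2
  rwa [hI] at h3

theorem surj_mk : Function.Surjective (algebraMap B (B ⧸ I)) := Ideal.Quotient.mk_surjective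

end Glue

/-- the naive Clifford group is the Clifford group in even rank -/
theorem mem_GPin_of_mem_GPin' {A : Type u} [CommRing A] {V : Type u} [AddCommGroup V] [Module A V] {n : ℕ}
    (b : Module.Basis (Fin n) A V) {Q : QuadraticForm A V} (hQ : IsRegular Q) (hn : Even n)
    {u : (CliffordAlgebra Q)ˣ} (hu : u ∈ GPin' Q) : u ∈ GPin Q :=
  ⟨hu, isLocHomog_of_normalises b hQ hn u.isUnit ((mem_GPin'_iff u).1 hu).1 ((mem_GPin'_iff u).1 hu).2⟩

/-- **The Clifford group of a regular form of even rank is smooth.** -/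
theorem smooth_gpin_even {n : ℕ} (hn : Even n) (bM : Module.Basis (Fin n) R M) [Module.Free R M] [Module.Finite R M]
    (Q : QuadraticForm R M) (hQ : IsRegular Q) (G : Over (Spec (CommRingCat.of R))) [GrpObj G] (D : GPinRep Q G) :
    AlgebraicGeometry.Smooth G.hom ∧ IsAffineHom G.hom := by
  have h := affine_lfp_of_cliffRep (Q := Q) false (fun A _ _ => gpin Q A)
    (fun A _ _ u => ⟨fun h => ⟨h, fun h' => absurd h' (by decide)⟩, fun h => h.1⟩) G D
  refine ⟨smooth_of_lift D h.2 R ?_, h.1⟩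
  intro B _ _ i1 i2 i3 I hI u hu
  clear i3 i2
  have hQB := K917.Base.isRegular_baseChangeForm B Q hQ
  obtain ⟨w, hw, hwu⟩ := Thick.exists_lift_GPin' (bM.baseChange B) (bM.baseChange (B ⧸ I)) (ff_basis B I bM)
    (ff_compat B I Q) (surj_mk B I) (sq_zero B hI) hn hQB u hu.1
  exact ⟨w, mem_GPin_of_mem_GPin' (bM.baseChange B) hQB hn hw, by rw [F_eq_cmap, hwu]⟩

end K918.Pts
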