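import Groth.Agent.QuadGrp.K918.Dickson

/-!
# Infinitesimal rotations

For `e ∈ R` with `e * e = 0`: `rot e v w : x ↦ x + e (B(v,x) w - B(w,x) v)`, an isometry with
`rot e v w x = u x u⁻¹`, `u = 1 - e v w`; it satisfies the Dickson condition.
-/

set_option autoImplicit false
universe u v

namespace K918.Cliff

open CliffordAlgebra QuadGrp

variable {R : Type u} [CommRing R] {M : Type v} [AddCommGroup M] [Module R M] {Q : QuadraticForm R M}

variable (Q) in
/-- `x ↦ B(v,x) w - B(w,x) v` -/
noncomputable def X (v w : M) : M →ₗ[R] M :=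
  (QuadraticMap.polarBilin Q v).smulRight w - (QuadraticMap.polarBilin Q w).smulRight v

lemma X_apply (v w x : M) : X Q v w x = QuadraticMap.polar Q v x • w - QuadraticMap.polar Q w x • v := rfl

lemma polar_X_self (v w x : M) : QuadraticMap.polar Q x (X Q v w x) = 0 := by
  rw [X_apply, QuadraticMap.polar_sub_right, QuadraticMap.polar_smul_right,
    QuadraticMap.polar_smul_right, QuadraticMap.polar_comm Q x w, QuadraticMap.polar_comm Q x v,
    smul_eq_mul, smul_eq_mul]
  ring

variable (Q) in
/-- `1 + e X` for `e² = 0` -/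
noncomputable def rot (e : R) (he : e * e = 0) (v w : M) : M ≃ₗ[R] M :=
  LinearEquiv.ofLinearMap (LinearMap.id + e • X Q v w) (LinearMap.id - e • X Q v w)
    (by
      ext x
      change (x - e • X Q v w x) + e • X Q v w (x - e • X Q v w x) = x
      rw [map_sub, map_smul, smul_sub, smul_smul, he, zero_smul]
      abel)
    (by
      ext x
      change (x + e • X Q v w x) - e • X Q v w (x + e • X Q v w x) = x
      rw [map_add, map_smul, smul_add, smul_smul, he, zero_smul]
      abel)

lemma rot_apply (e : R) (he : e * e = 0) (v w x : M) : rot Q e he v w x = x + e • X Q v w x := rfl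

lemma rot_mem_O (e : R) (he : e * e = 0) (v w : M) : rot Q e he v w ∈ O Q := by
  intro x
  rw [rot_apply, QuadraticMap.map_add Q, QuadraticMap.map_smul, he, zero_smul, add_zero,
    QuadraticMap.polar_smul_right, polar_X_self, smul_zero, add_zero]

/-- the unit `1 - e v w` -/
noncomputable def rotUnit (e : R) (he : e * e = 0) (v w : M) : (CliffordAlgebra Q)ˣ where
  val := 1 - e • (ι Q v * ι Q w)
  inv := 1 + e • (ι Q v * ι Q w)
  val_inv := by
    rw [sub_mul, mul_add, one_mul, mul_add, mul_one, smul_mul_smul_comm, he, zero_smul, one_mul]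
    abel
  inv_val := by
    rw [add_mul, mul_sub, one_mul, mul_sub, mul_one, smul_mul_smul_comm, he, zero_smul, one_mul]
    abel

lemma rotUnit_val (e : R) (he : e * e = 0) (v w : M) :
    ((rotUnit e he v w : (CliffordAlgebra Q)ˣ) : CliffordAlgebra Q) = 1 - e • (ι Q v * ι Q w) := rfl

lemma rotUnit_even (e : R) (he : e * e = 0) (v w : M) :
    ((rotUnit e he v w : (CliffordAlgebra Q)ˣ) : CliffordAlgebra Q) ∈ evenOdd Q 0 :=
  Submodule.sub_mem _ (SetLike.one_mem_graded _)
    (Submodule.smul_mem _ _ (ι_mul_ι_mem_evenOdd_zero Q v w))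

lemma commutator_ι (v w x : M) :
    ι Q x * (ι Q v * ι Q w) - ι Q v * ι Q w * ι Q x = ι Q (X Q v w x) := by
  have h1 : QuadraticMap.polar Q v x • ι Q w = (ι Q v * ι Q x + ι Q x * ι Q v) * ι Q w := by
    rw [ι_mul_ι_add_swap, Algebra.smul_def]
  have h2 : QuadraticMap.polar Q w x • ι Q v = ι Q v * (ι Q w * ι Q x + ι Q x * ι Q w) := by
    rw [ι_mul_ι_add_swap, ← Algebra.commutes, Algebra.smul_def]
  rw [X_apply, map_sub, map_smul, map_smul, h1, h2]
  noncomm_ring

lemma rotUnit_mem_K (e : R) (he : e * e = 0) (v w : M) :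
    ((rotUnit e he v w : (CliffordAlgebra Q)ˣ) : CliffordAlgebra Q) ∈ K Q (rot Q e he v w).toLinearMap := by
  rw [mem_K]
  intro x
  rw [involute_eq_of_mem_even (rotUnit_even e he v w), rotUnit_val, LinearEquiv.coe_coe, rot_apply,
    map_add, map_smul, ← commutator_ι]
  rw [add_mul, mul_sub, mul_sub, mul_one, mul_one, sub_mul, one_mul, smul_mul_smul_comm, he, zero_smul,
    sub_zero, smul_sub, mul_smul_comm, smul_mul_assoc]
  abel

theorem rot_mem_SOeven (e : R) (he : e * e = 0) (v w : M) : rot Q e he v w ∈ SOeven Q :=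
  mem_SOeven_of_even _ (rot_mem_O e he v w) (rotUnit e he v w) (rotUnit_mem_K e he v w)
    (rotUnit_even e he v w)

section Scalar

/-- If `B(v,x) g w - B(w,x) g v = B(v,g x) w - B(w,g x) v` and the rank is at least three, `g` is a scalar. -/
theorem exists_scalar_of_commutes {n : ℕ} (hn : 3 ≤ n) (b : Module.Basis (Fin n) R M)
    (hQ : Function.Bijective (QuadraticMap.polarBilin Q)) (g : M →ₗ[R] M)
    (h : ∀ v w x : M, QuadraticMap.polar Q v x • g w - QuadraticMap.polar Q w x • g v =
      QuadraticMap.polar Q v (g x) • w - QuadraticMap.polar Q w (g x) • v) :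
    ∃ c : R, ∀ v, g v = c • v := by
  let f := db b hQ
  have hf : ∀ i j, QuadraticMap.polar Q (b i) (f j) = if i = j then 1 else 0 := fun i j => by
    have h1 := LinearMap.congr_fun (polarBilin_db b hQ j) (b i)
    rw [QuadraticMap.polarBilin_apply_apply, QuadraticMap.polar_comm, Module.Basis.coord_apply,
      b.repr_self, Finsupp.single_apply] at h1
    exact h1
  -- `g e_j = d_i e_j - * e_i` for `i ≠ j`
  let d : Fin n → R := fun i => QuadraticMap.polar Q (b i) (g (f i))
  have h1 : ∀ i j, i ≠ j → g (b j) = d i • b j - QuadraticMap.polar Q (b j) (g (f i)) • b i := by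
    intro i j hij
    have h2 := h (b i) (b j) (f i)
    rwa [hf, hf, if_pos rfl, if_neg (Ne.symm hij), one_smul, zero_smul, sub_zero] at h2
  -- pick a third index
  have third : ∀ i j : Fin n, ∃ k, k ≠ i ∧ k ≠ j := by
    intro i j
    have : ∃ k ∈ (Finset.univ : Finset (Fin n)), k ∉ ({i, j} : Finset (Fin n)) := by
      apply Finset.exists_mem_notMem_of_card_lt_card
      rw [Finset.card_univ, Fintype.card_fin]
      exact lt_of_le_of_lt Finset.card_le_two (by omega)
    obtain ⟨k, _, hk⟩ := this
    rw [Finset.mem_insert, Finset.mem_singleton, not_or] at hk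
    exact ⟨k, hk⟩
  have h2 : ∀ i j, i ≠ j → g (b j) = d i • b j := by
    intro i j hij
    obtain ⟨k, hki, hkj⟩ := third i j
    have h3 := h1 i j hij
    have h4 := h1 k j hkj
    -- coefficient at `i`
    have h5 : QuadraticMap.polar Q (b j) (g (f i)) = 0 := by
      have h6 := congrArg (fun z => b.repr z i) (h3.symm.trans h4)
      simpa [Finsupp.single_apply, Ne.symm hij, hki] using h6
    rw [h3, h5, zero_smul, sub_zero]
  have h3 : ∀ i j, d i = d j := by
    intro i j
    obtain ⟨k, hki, hkj⟩ := third i j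
    have h4 := (h2 i k (Ne.symm hki)).symm.trans (h2 j k (Ne.symm hkj))
    have h6 := congrArg (fun z => b.repr z k) h4
    simpa using h6
  let i0 : Fin n := ⟨0, by omega⟩
  refine ⟨d i0, fun v => ?_⟩
  have h4 : g = d i0 • LinearMap.id := by
    apply b.ext
    intro j
    obtain ⟨k, hk, _⟩ := third j j
    rw [h2 k j hk, h3 k i0]
    rfl
  rw [h4]
  rfl

end Scalar

end K918.Cliff
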