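import Groth.Agent.QuadGrp.K918.Center

/-!
# Rank three: every even unit of the Clifford algebra normalises the module (any commutative ring, any form)
-/

set_option autoImplicit false
universe u v

namespace K918.Cliff

open CliffordAlgebra QuadGrp

variable {R : Type u} [CommRing R] {M : Type v} [AddCommGroup M] [Module R M] {Q : QuadraticForm R M}

section Rank3

variable (b : Module.Basis (Fin 3) R M)

include b

lemma exists_coeffs (x : CliffordAlgebra Q) :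
    ∃ a0 a1 a2 a3 c0 c1 c2 c3 : R,
      x = (algebraMap R _ a0 + a1 • (ι Q (b 1) * ι Q (b 2)) + a2 • (ι Q (b 0) * ι Q (b 2)) +
        a3 • (ι Q (b 0) * ι Q (b 1))) +
      (ι Q (c0 • b 0 + c1 • b 1 + c2 • b 2) + c3 • (ι Q (b 0) * ι Q (b 1) * ι Q (b 2))) := by
  have hx : x ∈ Cgt Q b 0 := by rw [Cgt_zero]; trivial
  obtain ⟨p, hp, q, hq, h⟩ := exists_decomp (0 : Fin 3) x hx
  obtain ⟨p1, hp1, p2, hp2, hp'⟩ := exists_decomp (1 : Fin 3) p hp
  obtain ⟨q1, hq1, q2, hq2, hq'⟩ := exists_decomp (1 : Fin 3) q hq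
  have h3 : ∀ y ∈ Cgt Q b 2, ∃ r s : R, y = algebraMap R _ r + s • ι Q (b 2) := by
    intro y hy
    obtain ⟨r, hr, s, hs, h⟩ := exists_decomp (2 : Fin 3) y hy
    have hr' : r ∈ Cgt Q b 3 := hr
    have hs' : s ∈ Cgt Q b 3 := hs
    rw [Cgt_n, Algebra.mem_bot] at hr' hs'
    obtain ⟨r, rfl⟩ := hr'
    obtain ⟨s, rfl⟩ := hs'
    exact ⟨r, s, by rw [h, ← Algebra.commutes, ← Algebra.smul_def]⟩
  obtain ⟨r1, s1, h1⟩ := h3 p1 hp1
  obtain ⟨r2, s2, h2⟩ := h3 p2 hp2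
  obtain ⟨r3, s3, h3'⟩ := h3 q1 hq1
  obtain ⟨r4, s4, h4⟩ := h3 q2 hq2
  refine ⟨r1, s2, s3, r4, r3, r2, s1, s4, ?_⟩
  rw [h, hp', hq', h1, h2, h3', h4]
  simp only [map_add, map_smul, mul_add, mul_smul_comm, ← mul_assoc]
  simp only [Algebra.algebraMap_eq_smul_one, mul_smul_comm, mul_one]
  abel

lemma exists_coeffs_even {x : CliffordAlgebra Q} (hx : x ∈ evenOdd Q 0) :
    ∃ a0 a1 a2 a3 : R,
      x = algebraMap R _ a0 + a1 • (ι Q (b 1) * ι Q (b 2)) + a2 • (ι Q (b 0) * ι Q (b 2)) +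
        a3 • (ι Q (b 0) * ι Q (b 1)) := by
  obtain ⟨a0, a1, a2, a3, c0, c1, c2, c3, h⟩ := exists_coeffs b x
  refine ⟨a0, a1, a2, a3, ?_⟩
  have h2 := parts_eq hx (Submodule.zero_mem _) (y0 := algebraMap R _ a0 +
    a1 • (ι Q (b 1) * ι Q (b 2)) + a2 • (ι Q (b 0) * ι Q (b 2)) + a3 • (ι Q (b 0) * ι Q (b 1)))
    (y1 := ι Q (c0 • b 0 + c1 • b 1 + c2 • b 2) + c3 • (ι Q (b 0) * ι Q (b 1) * ι Q (b 2))) ?_ ?_
    (by rw [add_zero]; exact h)
  · exact h2.1
  · exact Submodule.add_mem _ (Submodule.add_mem _ (Submodule.add_mem _ (algebraMap_mem_evenOdd_zero _)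
      (Submodule.smul_mem _ _ (ι_mul_ι_mem_evenOdd_zero Q _ _)))
      (Submodule.smul_mem _ _ (ι_mul_ι_mem_evenOdd_zero Q _ _)))
      (Submodule.smul_mem _ _ (ι_mul_ι_mem_evenOdd_zero Q _ _))
  · exact Submodule.add_mem _ (ι_mem_evenOdd_one Q _) (Submodule.smul_mem _ _
      (mul01 (ι_mul_ι_mem_evenOdd_zero Q _ _) (ι_mem_evenOdd_one Q _)))

lemma exists_coeffs_odd {x : CliffordAlgebra Q} (hx : x ∈ evenOdd Q 1) :
    ∃ (v : M) (c : R), x = ι Q v + c • (ι Q (b 0) * ι Q (b 1) * ι Q (b 2)) := by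
  obtain ⟨a0, a1, a2, a3, c0, c1, c2, c3, h⟩ := exists_coeffs b x
  refine ⟨c0 • b 0 + c1 • b 1 + c2 • b 2, c3, ?_⟩
  have h2 := parts_eq (Submodule.zero_mem _) hx (y0 := algebraMap R _ a0 +
    a1 • (ι Q (b 1) * ι Q (b 2)) + a2 • (ι Q (b 0) * ι Q (b 2)) + a3 • (ι Q (b 0) * ι Q (b 1)))
    (y1 := ι Q (c0 • b 0 + c1 • b 1 + c2 • b 2) + c3 • (ι Q (b 0) * ι Q (b 1) * ι Q (b 2))) ?_ ?_
    (by rw [zero_add]; exact h)
  · exact h2.2
  · exact Submodule.add_mem _ (Submodule.add_mem _ (Submodule.add_mem _ (algebraMap_mem_evenOdd_zero _)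
      (Submodule.smul_mem _ _ (ι_mul_ι_mem_evenOdd_zero Q _ _)))
      (Submodule.smul_mem _ _ (ι_mul_ι_mem_evenOdd_zero Q _ _)))
      (Submodule.smul_mem _ _ (ι_mul_ι_mem_evenOdd_zero Q _ _))
  · exact Submodule.add_mem _ (ι_mem_evenOdd_one Q _) (Submodule.smul_mem _ _
      (mul01 (ι_mul_ι_mem_evenOdd_zero Q _ _) (ι_mem_evenOdd_one Q _)))

omit b in
lemma triple_add_reverse (x y z : M) :
    ι Q x * ι Q y * ι Q z + ι Q z * ι Q y * ι Q x =
      ι Q (QuadraticMap.polar Q y z • x - QuadraticMap.polar Q x z • y + QuadraticMap.polar Q x y • z) := by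
  have h1 : QuadraticMap.polar Q y z • ι Q x = ι Q x * (ι Q y * ι Q z + ι Q z * ι Q y) := by
    rw [ι_mul_ι_add_swap, ← Algebra.commutes, Algebra.smul_def]
  have h2 : QuadraticMap.polar Q x z • ι Q y = (ι Q x * ι Q z + ι Q z * ι Q x) * ι Q y := by
    rw [ι_mul_ι_add_swap, Algebra.smul_def]
  have h3 : QuadraticMap.polar Q x y • ι Q z = ι Q z * (ι Q x * ι Q y + ι Q y * ι Q x) := by
    rw [ι_mul_ι_add_swap, ← Algebra.commutes, Algebra.smul_def]
  rw [map_add, map_sub, map_smul, map_smul, map_smul, h1, h2, h3]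
  noncomm_ring

lemma odd_add_reverse {x : CliffordAlgebra Q} (hx : x ∈ evenOdd Q 1) :
    ∃ v : M, x + reverse x = ι Q v := by
  obtain ⟨v, c, rfl⟩ := exists_coeffs_odd b hx
  refine ⟨v + v + c • (QuadraticMap.polar Q (b 1) (b 2) • b 0 - QuadraticMap.polar Q (b 0) (b 2) • b 1 +
    QuadraticMap.polar Q (b 0) (b 1) • b 2), ?_⟩
  rw [map_add, map_add, map_smul, map_smul, ← triple_add_reverse, map_add, reverse.map_mul, reverse.map_mul,
    reverse_ι, reverse_ι, reverse_ι, reverse_ι, smul_add, mul_assoc (ι Q (b 2))]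
  abel

lemma even_add_reverse {x : CliffordAlgebra Q} (hx : x ∈ evenOdd Q 0) :
    ∃ r : R, x + reverse x = algebraMap R _ r := by
  obtain ⟨a0, a1, a2, a3, rfl⟩ := exists_coeffs_even b hx
  refine ⟨a0 + a0 + a1 * QuadraticMap.polar Q (b 1) (b 2) + a2 * QuadraticMap.polar Q (b 0) (b 2) +
    a3 * QuadraticMap.polar Q (b 0) (b 1), ?_⟩
  have h : ∀ (a : R) (x y : M), algebraMap R (CliffordAlgebra Q) (a * QuadraticMap.polar Q x y) =
      a • (ι Q x * ι Q y) + a • (ι Q y * ι Q x) := fun a x y => by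
    rw [map_mul, ← ι_mul_ι_add_swap, ← Algebra.smul_def, smul_add]
  simp only [map_add, map_smul, reverse.map_mul, reverse_ι, reverse.commutes, h]
  abel

lemma exists_conj_reverse {u : CliffordAlgebra Q} (hu : u ∈ evenOdd Q 0) (v : M) :
    ∃ w : M, u * ι Q v * reverse u = ι Q w := by
  induction u, hu using CliffordAlgebra.even_induction generalizing v with
  | algebraMap r =>
    refine ⟨(r * r) • v, ?_⟩
    rw [reverse.commutes, ← Algebra.smul_def, ← Algebra.commutes, ← Algebra.smul_def, smul_smul, map_smul]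
  | add x y hx hy h h' =>
    obtain ⟨w, hw⟩ := h v
    obtain ⟨w', hw'⟩ := h' v
    have hrx : reverse x ∈ evenOdd Q 0 := (reverse_mem_evenOdd_iff Q).2 hx
    have hry : reverse y ∈ evenOdd Q 0 := (reverse_mem_evenOdd_iff Q).2 hy
    obtain ⟨w'', hw''⟩ := odd_add_reverse b (mul10 (mul01 hx (ι_mem_evenOdd_one Q v)) hry)
    refine ⟨w + w' + w'', ?_⟩
    rw [map_add, map_add, map_add, ← hw, ← hw', ← hw'', reverse.map_mul, reverse.map_mul, reverse_ι,
      reverse_reverse]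
    noncomm_ring
  | ι_mul_ι_mul m₁ m₂ x hx h =>
    obtain ⟨w, hw⟩ := h v
    have h2 : ∀ (m w : M), ∃ w', ι Q m * ι Q w * ι Q m = ι Q w' := fun m w =>
      ⟨_, ι_mul_ι_mul_ι m w⟩
    obtain ⟨w1, hw1⟩ := h2 m₂ w
    obtain ⟨w2, hw2⟩ := h2 m₁ w1
    refine ⟨w2, ?_⟩
    rw [reverse.map_mul, reverse.map_mul, reverse_ι, reverse_ι, ← hw2, ← hw1, ← hw]
    simp only [mul_assoc]

lemma exists_reverse_mul {u : CliffordAlgebra Q} (hu : u ∈ evenOdd Q 0) :
    ∃ r : R, reverse u * u = algebraMap R _ r := by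
  induction u, hu using CliffordAlgebra.even_induction with
  | algebraMap r => exact ⟨r * r, by rw [reverse.commutes, map_mul]⟩
  | add x y hx hy h h' =>
    obtain ⟨r, hr⟩ := h
    obtain ⟨r', hr'⟩ := h'
    have hrx : reverse x ∈ evenOdd Q 0 := (reverse_mem_evenOdd_iff Q).2 hx
    obtain ⟨r'', hr''⟩ := even_add_reverse b (mul00 hrx hy)
    refine ⟨r + r' + r'', ?_⟩
    rw [map_add, map_add, map_add, ← hr, ← hr', ← hr'', reverse.map_mul, reverse_reverse]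
    noncomm_ring
  | ι_mul_ι_mul m₁ m₂ x hx h =>
    obtain ⟨r, hr⟩ := h
    refine ⟨Q m₁ * Q m₂ * r, ?_⟩
    rw [reverse.map_mul, reverse.map_mul, reverse_ι, reverse_ι]
    have e1 : reverse x * (ι Q m₂ * ι Q m₁) * (ι Q m₁ * ι Q m₂ * x) =
        reverse x * (ι Q m₂ * (ι Q m₁ * ι Q m₁) * ι Q m₂) * x := by noncomm_ring
    rw [e1, ι_sq_scalar, ← Algebra.commutes (Q m₁) (ι Q m₂), mul_assoc (algebraMap R _ (Q m₁)), ι_sq_scalar,
      ← map_mul, ← Algebra.commutes, mul_assoc, hr, ← map_mul]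

theorem evenUnits_le : evenUnits Q ≤ GPin' Q := by
  have : Module.Free R M := Module.Free.of_basis b
  have key : ∀ u : (CliffordAlgebra Q)ˣ, u ∈ evenUnits Q → ∀ v, ∃ w,
      (u : CliffordAlgebra Q) * ι Q v = ι Q w * u := by
    intro u hu v
    obtain ⟨r, hr⟩ := exists_reverse_mul b hu
    obtain ⟨w, hw⟩ := exists_conj_reverse b hu v
    have h1 : IsUnit (reverse (u : CliffordAlgebra Q)) := by
      refine ⟨⟨reverse (u : CliffordAlgebra Q), reverse (↑u⁻¹ : CliffordAlgebra Q), ?_, ?_⟩, rfl⟩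
      · rw [← reverse.map_mul, Units.inv_mul, reverse.map_one]
      · rw [← reverse.map_mul, Units.mul_inv, reverse.map_one]
    have h2 : IsUnit r := isUnit_of_isUnit_algebraMap (Q := Q) (by
      rw [← hr]; exact h1.mul u.isUnit)
    obtain ⟨c, hc⟩ := h2.exists_left_inv
    refine ⟨c • w, ?_⟩
    have h3 := congrArg (fun z => algebraMap R _ c * (z * (u : CliffordAlgebra Q))) hw
    simp only [mul_assoc] at h3
    rw [hr, ← Algebra.commutes, Algebra.left_comm, ← mul_assoc, ← map_mul, hc, map_one, one_mul] at h3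
    rw [h3, map_smul, smul_mul_assoc, Algebra.smul_def]
  intro u hu
  rw [mem_GPin'_iff]
  refine ⟨key u hu, fun w => ?_⟩
  obtain ⟨v, hv⟩ := key u⁻¹ ((evenUnits Q).inv_mem hu) w
  refine ⟨v, ?_⟩
  have h3 := congrArg (fun z => (u : CliffordAlgebra Q) * z * (u : CliffordAlgebra Q)) hv
  simp only [← mul_assoc] at h3
  rw [Units.mul_inv, one_mul, mul_assoc _ (↑u⁻¹ : CliffordAlgebra Q), Units.inv_mul, mul_one] at h3
  exact h3.symm

end Rank3

end K918.Cliff
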