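import Groth.Agent.QuadGrp.K918.Contract
import Groth.Prelude.Def_QuadGrp
import Mathlib.Tactic.NoncommRing

/-!
# Twisted commutators on the Clifford algebra of a form with perfect polar pairing

`D g v x = ι (g v) * x - involute x * ι v`; for an isometry `g` these are anticommuting operators of square zero;
`K g = {x | ∀ v, D g v x = 0}`.  `ap δ L`: compose the operators `δ v`, `v ∈ L` (head first).
-/

set_option autoImplicit false
universe u v

namespace K918.Cliff

open CliffordAlgebra

variable {R : Type u} [CommRing R] {M : Type v} [AddCommGroup M] [Module R M] {Q : QuadraticForm R M}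

section Ops

variable (Q) in
/-- the twisted graded commutator -/
noncomputable def D (g : M →ₗ[R] M) (v : M) : CliffordAlgebra Q →ₗ[R] CliffordAlgebra Q :=
  LinearMap.mulLeft R (ι Q (g v)) - (LinearMap.mulRight R (ι Q v)) ∘ₗ (involute (Q := Q)).toLinearMap

lemma D_apply (g : M →ₗ[R] M) (v : M) (x : CliffordAlgebra Q) :
    D Q g v x = ι Q (g v) * x - involute x * ι Q v := rfl

lemma D_id (v : M) (x : CliffordAlgebra Q) :
    D Q LinearMap.id v x = contractLeft (QuadraticMap.polarBilin Q v) x := by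
  rw [D_apply, polar_contract, LinearMap.id_apply]

lemma D_add (g : M →ₗ[R] M) (v w : M) : D Q g (v + w) = D Q g v + D Q g w := by
  ext x
  simp only [D_apply, map_add, LinearMap.add_apply, mul_add, add_mul]
  abel

lemma D_smul (g : M →ₗ[R] M) (r : R) (v : M) : D Q g (r • v) = r • D Q g v := by
  ext x
  simp only [D_apply, map_smul, LinearMap.smul_apply, smul_mul_assoc, mul_smul_comm, smul_sub]

lemma involute_D (g : M →ₗ[R] M) (v : M) (x : CliffordAlgebra Q) :
    involute (D Q g v x) = - D Q g v (involute x) := by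
  rw [D_apply, D_apply, map_sub, map_mul, map_mul, involute_ι, involute_ι]
  simp only [neg_mul, mul_neg, sub_neg_eq_add, neg_sub]
  abel

lemma D_D (g : M →ₗ[R] M) (hg : ∀ v, Q (g v) = Q v) (v : M) (x : CliffordAlgebra Q) :
    D Q g v (D Q g v x) = 0 := by
  rw [D_apply, involute_D, D_apply, D_apply, involute_involute]
  have h1 : ι Q (g v) * (ι Q (g v) * x) = Q v • x := by
    rw [← mul_assoc, ι_sq_scalar, hg, ← Algebra.smul_def]
  have h2 : x * ι Q v * ι Q v = Q v • x := by
    rw [mul_assoc, ι_sq_scalar, ← Algebra.commutes, ← Algebra.smul_def]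
  rw [mul_sub, h1, neg_mul, sub_mul, h2]
  simp only [mul_assoc]
  abel

lemma D_anti (g : M →ₗ[R] M) (hg : ∀ v, Q (g v) = Q v) (v w : M) (x : CliffordAlgebra Q) :
    D Q g v (D Q g w x) = - D Q g w (D Q g v x) := by
  have h := D_D g hg (v + w) x
  rw [D_add, LinearMap.add_apply, LinearMap.add_apply, map_add, map_add, D_D g hg, D_D g hg] at h
  rw [zero_add, add_zero] at h
  exact eq_neg_of_add_eq_zero_left h

/-- composition of operators along a list, head first -/
noncomputable def ap (δ : M → CliffordAlgebra Q →ₗ[R] CliffordAlgebra Q) :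
    List M → CliffordAlgebra Q →ₗ[R] CliffordAlgebra Q
  | [] => LinearMap.id
  | v :: L => ap δ L ∘ₗ δ v

lemma ap_nil (δ : M → CliffordAlgebra Q →ₗ[R] CliffordAlgebra Q) (x : CliffordAlgebra Q) : ap δ [] x = x := rfl

lemma ap_cons (δ : M → CliffordAlgebra Q →ₗ[R] CliffordAlgebra Q) (v : M) (L : List M) (x : CliffordAlgebra Q) :
    ap δ (v :: L) x = ap δ L (δ v x) := rfl

lemma ap_D_neg (g : M →ₗ[R] M) (L : List M) (x : CliffordAlgebra Q) :
    ap (D Q g) L (-x) = - ap (D Q g) L x := map_neg _ _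

lemma D_ap (g : M →ₗ[R] M) (hg : ∀ v, Q (g v) = Q v) (w : M) (L : List M) (x : CliffordAlgebra Q) :
    D Q g w (ap (D Q g) L x) = (-1 : R) ^ L.length • ap (D Q g) L (D Q g w x) := by
  induction L generalizing x with
  | nil => simp [ap_nil]
  | cons v L ih =>
    rw [ap_cons, ih, ap_cons, D_anti g hg, map_neg, List.length_cons, pow_succ, mul_neg_one, neg_smul,
      smul_neg]

lemma ap_D_mem (g : M →ₗ[R] M) (hg : ∀ v, Q (g v) = Q v) (w : M) (L : List M) (hw : w ∈ L)
    (x : CliffordAlgebra Q) : ap (D Q g) L (D Q g w x) = 0 := by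
  induction L generalizing x with
  | nil => simp at hw
  | cons v L ih =>
    rw [ap_cons]
    rcases List.mem_cons.1 hw with h | h
    · subst h
      rw [D_D g hg, map_zero]
    · rw [D_anti g hg, map_neg, ih h, neg_zero]

lemma D_ap_mem (g : M →ₗ[R] M) (hg : ∀ v, Q (g v) = Q v) (w : M) (L : List M) (hw : w ∈ L)
    (x : CliffordAlgebra Q) : D Q g w (ap (D Q g) L x) = 0 := by
  rw [D_ap g hg, ap_D_mem g hg w L hw, smul_zero]

variable (Q) in
/-- the common kernel of the twisted commutators -/
def K (g : M →ₗ[R] M) : Submodule R (CliffordAlgebra Q) where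
  carrier := {x | ∀ v, D Q g v x = 0}
  zero_mem' := fun v => map_zero _
  add_mem' := fun {x y} hx hy v => by rw [map_add, hx v, hy v, add_zero]
  smul_mem' := fun r x hx v => by rw [map_smul, hx v, smul_zero]

lemma mem_K {g : M →ₗ[R] M} {x : CliffordAlgebra Q} :
    x ∈ K Q g ↔ ∀ v, ι Q (g v) * x = involute x * ι Q v :=
  forall_congr' fun v => by rw [D_apply, sub_eq_zero]

lemma mem_K_iff_of_span (g : M →ₗ[R] M) (L : List M) (hL : Submodule.span R {v | v ∈ L} = ⊤)
    (x : CliffordAlgebra Q) : x ∈ K Q g ↔ ∀ v ∈ L, D Q g v x = 0 := by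
  refine ⟨fun h v _ => h v, fun h v => ?_⟩
  have hv : v ∈ Submodule.span R {v | v ∈ L} := by rw [hL]; trivial
  induction hv using Submodule.span_induction with
  | mem v hv => exact h v hv
  | zero => rw [D_apply, map_zero, map_zero, zero_mul, mul_zero, sub_zero]
  | add v w _ _ hv hw => rw [D_add, LinearMap.add_apply, hv, hw, add_zero]
  | smul r v _ hv => rw [D_smul, LinearMap.smul_apply, hv, smul_zero]

lemma ap_mem_K (g : M →ₗ[R] M) (hg : ∀ v, Q (g v) = Q v) (L : List M)
    (hL : Submodule.span R {v | v ∈ L} = ⊤) (x : CliffordAlgebra Q) : ap (D Q g) L x ∈ K Q g :=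
  (mem_K_iff_of_span g L hL _).2 fun v hv => D_ap_mem g hg v L hv x

/-- `u ∈ K g`: `D (g h) v (u y) = ε(u) D h v y`. -/
lemma D_mul_left {g : M →ₗ[R] M} {u : CliffordAlgebra Q} (hu : u ∈ K Q g) (h : M →ₗ[R] M) (v : M)
    (y : CliffordAlgebra Q) : D Q (g ∘ₗ h) v (u * y) = involute u * D Q h v y := by
  rw [D_apply, D_apply, LinearMap.comp_apply, ← mul_assoc, mem_K.1 hu, map_mul]
  simp only [mul_sub, mul_assoc]

/-- `y ∈ K h`: `D (g h) w (a y) = D g (h w) a * y`. -/
lemma D_mul_right {h : M →ₗ[R] M} {y : CliffordAlgebra Q} (hy : y ∈ K Q h) (g : M →ₗ[R] M) (w : M)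
    (a : CliffordAlgebra Q) : D Q (g ∘ₗ h) w (a * y) = D Q g (h w) a * y := by
  rw [D_apply, D_apply, LinearMap.comp_apply, map_mul, sub_mul, mul_assoc (involute a),
    mul_assoc (involute a), mem_K.1 hy, mul_assoc]

lemma K_mul {g h : M →ₗ[R] M} {x y : CliffordAlgebra Q} (hx : x ∈ K Q g) (hy : y ∈ K Q h) :
    x * y ∈ K Q (g ∘ₗ h) := fun v => by rw [D_mul_left hx, hy v, mul_zero]

lemma involute_mem_K {g : M →ₗ[R] M} {x : CliffordAlgebra Q} (hx : x ∈ K Q g) : involute x ∈ K Q g :=
  fun v => by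
    have := involute_D g v x
    rw [hx v, map_zero] at this
    exact neg_eq_zero.1 this.symm

lemma star_involute (x : CliffordAlgebra Q) : star (involute x) = involute (star x) := by
  rw [star_def, star_def, involute_involute, ← reverse_involute, involute_involute]

lemma star_mem_K {g : M ≃ₗ[R] M} {x : CliffordAlgebra Q} (hx : x ∈ K Q g.toLinearMap) :
    star x ∈ K Q g.symm.toLinearMap := by
  rw [mem_K] at hx ⊢
  intro w
  obtain ⟨v, rfl⟩ := g.surjective w
  have h := congrArg (fun z => involute (star z)) (hx v)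
  simp only [star_mul, star_ι, map_mul, map_neg, involute_ι, star_involute, involute_involute,
    mul_neg, neg_mul, neg_neg] at h
  rw [LinearEquiv.coe_coe, LinearEquiv.symm_apply_apply]
  exact h.symm

lemma ap_mul_left {g : M →ₗ[R] M} {u : CliffordAlgebra Q} (hu : u ∈ K Q g) (L : List M)
    (y : CliffordAlgebra Q) :
    ap (D Q g) L (u * y) = (involute^[L.length]) u * ap (D Q LinearMap.id) L y := by
  induction L generalizing u y with
  | nil => rfl
  | cons v L ih =>
    rw [ap_cons, ap_cons, List.length_cons, Function.iterate_succ_apply]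
    have h := D_mul_left hu LinearMap.id v y
    rw [LinearMap.comp_id] at h
    rw [h, ih (involute_mem_K hu)]

lemma ap_mul_right {g h : M →ₗ[R] M} (hgh : g ∘ₗ h = LinearMap.id) {y : CliffordAlgebra Q}
    (hy : y ∈ K Q h) (L : List M) (a : CliffordAlgebra Q) :
    ap (D Q LinearMap.id) L (a * y) = ap (D Q g) (L.map h) a * y := by
  induction L generalizing a with
  | nil => rfl
  | cons v L ih =>
    rw [ap_cons, List.map_cons, ap_cons]
    have h1 := D_mul_right hy g v a
    rw [hgh] at h1
    rw [h1, ih]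

end Ops

section Parity

lemma D_mem_evenOdd (g : M →ₗ[R] M) (v : M) (i : ZMod 2) (x : CliffordAlgebra Q) (hx : x ∈ evenOdd Q i) :
    D Q g v x ∈ evenOdd Q (i + 1) := by
  rw [D_apply]
  refine Submodule.sub_mem _ ?_ ?_
  · have h := SetLike.mul_mem_graded (ι_mem_evenOdd_one Q (g v)) hx
    rwa [add_comm] at h
  · exact SetLike.mul_mem_graded ((involute_mem_evenOdd_iff Q).2 hx) (ι_mem_evenOdd_one Q v)

lemma ap_mem_evenOdd (g : M →ₗ[R] M) (L : List M) (i : ZMod 2) (x : CliffordAlgebra Q)
    (hx : x ∈ evenOdd Q i) : ap (D Q g) L x ∈ evenOdd Q (i + L.length) := by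
  induction L generalizing x i with
  | nil => simpa [ap_nil] using hx
  | cons v L ih =>
    have h := ih (i + 1) (D Q g v x) (D_mem_evenOdd g v i x hx)
    rw [ap_cons]
    have e : i + ((v :: L).length : ZMod 2) = i + 1 + (L.length : ZMod 2) := by
      rw [List.length_cons]
      push_cast
      ring
    rw [e]
    exact h

lemma eq_zero_of_mem_evenOdd {x : CliffordAlgebra Q} (h0 : x ∈ evenOdd Q 0) (h1 : x ∈ evenOdd Q 1) :
    x = 0 := by
  have := (evenOdd_isCompl Q).inf_eq_bot
  have h : x ∈ evenOdd Q 0 ⊓ evenOdd Q 1 := ⟨h0, h1⟩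
  rwa [this, Submodule.mem_bot] at h

lemma exists_parts (x : CliffordAlgebra Q) : ∃ x0 ∈ evenOdd Q 0, ∃ x1 ∈ evenOdd Q 1, x = x0 + x1 := by
  have h : x ∈ evenOdd Q 0 ⊔ evenOdd Q 1 := by
    rw [(evenOdd_isCompl Q).sup_eq_top]; trivial
  obtain ⟨x0, h0, x1, h1, h⟩ := Submodule.mem_sup.1 h
  exact ⟨x0, h0, x1, h1, h.symm⟩

lemma algebraMap_mem_evenOdd_zero (r : R) : algebraMap R (CliffordAlgebra Q) r ∈ evenOdd Q 0 :=
  SetLike.algebraMap_mem_graded _ r

lemma parts_eq {x0 x1 y0 y1 : CliffordAlgebra Q} (hx0 : x0 ∈ evenOdd Q 0) (hx1 : x1 ∈ evenOdd Q 1)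
    (hy0 : y0 ∈ evenOdd Q 0) (hy1 : y1 ∈ evenOdd Q 1) (h : x0 + x1 = y0 + y1) : x0 = y0 ∧ x1 = y1 := by
  have h1 : x0 - y0 = y1 - x1 := by
    rw [sub_eq_sub_iff_add_eq_add, h, add_comm]
  have h2 : x0 - y0 = 0 := eq_zero_of_mem_evenOdd (Submodule.sub_mem _ hx0 hy0)
    (by rw [h1]; exact Submodule.sub_mem _ hy1 hx1)
  have h3 : y1 - x1 = 0 := by rw [← h1, h2]
  exact ⟨sub_eq_zero.1 h2, (sub_eq_zero.1 h3).symm⟩

lemma parts_mem_K {g : M →ₗ[R] M} {x0 x1 : CliffordAlgebra Q} (hx0 : x0 ∈ evenOdd Q 0)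
    (hx1 : x1 ∈ evenOdd Q 1) (h : x0 + x1 ∈ K Q g) : x0 ∈ K Q g ∧ x1 ∈ K Q g := by
  have h1 : ∀ v, D Q g v x0 = 0 ∧ D Q g v x1 = 0 := fun v => by
    have h2 := h v
    rw [map_add] at h2
    have h3 := D_mem_evenOdd g v 0 x0 hx0
    have h4 := D_mem_evenOdd g v 1 x1 hx1
    rw [zero_add] at h3
    rw [show (1 : ZMod 2) + 1 = 0 from rfl] at h4
    have h5 := parts_eq (x0 := D Q g v x1) (x1 := D Q g v x0) (y0 := 0) (y1 := 0) h4 h3
      (Submodule.zero_mem _) (Submodule.zero_mem _) (by rw [add_zero, add_comm]; exact h2)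
    exact ⟨h5.2, h5.1⟩
  exact ⟨fun v => (h1 v).1, fun v => (h1 v).2⟩

end Parity


section Regular

variable {n : ℕ} (b : Module.Basis (Fin n) R M) (hQ : Function.Bijective (QuadraticMap.polarBilin Q))

/-- the basis dual to `b` for a perfect polar pairing -/
noncomputable def db : Module.Basis (Fin n) R M :=
  b.dualBasis.map (LinearEquiv.ofBijective _ hQ).symm

lemma polarBilin_db (i : Fin n) : QuadraticMap.polarBilin Q (db b hQ i) = b.coord i := by
  have h := (LinearEquiv.ofBijective (QuadraticMap.polarBilin Q) hQ).apply_symm_apply (b.dualBasis i)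
  rw [b.coe_dualBasis] at h
  rw [db, Module.Basis.map_apply, b.coe_dualBasis]
  exact h

lemma D_db (i : Fin n) (x : CliffordAlgebra Q) :
    D Q LinearMap.id (db b hQ i) x = contractLeft (b.coord i) x := by
  rw [D_id, polarBilin_db]

/-- list of dual vectors -/
noncomputable def dl : List M := (List.finRange n).map (db b hQ)

lemma length_dl : (dl b hQ).length = n := by simp [dl]

lemma span_map_basis (b' : Module.Basis (Fin n) R M) :
    Submodule.span R {v | v ∈ (List.finRange n).map b'} = ⊤ := by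
  rw [← b'.span_eq]
  congr 1
  ext v
  simp

lemma span_dl : Submodule.span R {v | v ∈ dl b hQ} = ⊤ := span_map_basis _

lemma contract_coord_prod (i : Fin n) (L : List (Fin n)) (h : i ∉ L) :
    contractLeft (b.coord i) ((L.map fun j => ι Q (b j)).prod) = 0 := by
  induction L with
  | nil => rw [List.map_nil, List.prod_nil, contractLeft_one]
  | cons j L ih =>
    rw [List.mem_cons, not_or] at h
    rw [List.map_cons, List.prod_cons, contractLeft_ι_mul, ih h.2, mul_zero, sub_zero,
      Module.Basis.coord_apply, b.repr_self, Finsupp.single_apply, if_neg (Ne.symm h.1), zero_smul]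

lemma ap_prod (L : List (Fin n)) (h : L.Nodup) :
    ap (D Q LinearMap.id) (L.map (db b hQ)) ((L.map fun j => ι Q (b j)).prod) = 1 := by
  induction L with
  | nil => rfl
  | cons j L ih =>
    rw [List.nodup_cons] at h
    rw [List.map_cons, List.map_cons, List.prod_cons, ap_cons, D_db, contract_coord_ι_mul_self,
      contract_coord_prod b j L h.1, mul_zero, sub_zero, ih h.2]

/-- the "top coefficient" -/
noncomputable def T : CliffordAlgebra Q →ₗ[R] CliffordAlgebra Q := ap (D Q LinearMap.id) (dl b hQ)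

/-- the top product -/
noncomputable def top : CliffordAlgebra Q := ((List.finRange n).map fun j => ι Q (b j)).prod

lemma T_top : T b hQ (top b) = 1 := ap_prod b hQ _ (List.nodup_finRange n)

variable {b hQ}

include b hQ in
/-- `K 1` is the scalars. -/
theorem exists_of_mem_K_id {x : CliffordAlgebra Q} (hx : x ∈ K Q LinearMap.id) :
    ∃ r : R, x = algebraMap R _ r :=
  exists_algebraMap_of_contract_eq_zero (b := b) x fun i => by
    rw [← D_db b hQ i]; exact hx _

lemma T_mem_K (x : CliffordAlgebra Q) : T b hQ x ∈ K Q LinearMap.id :=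
  ap_mem_K _ (fun _ => rfl) _ (span_dl b hQ) x

lemma exists_T (x : CliffordAlgebra Q) : ∃ r : R, T b hQ x = algebraMap R _ r :=
  exists_of_mem_K_id (b := b) (hQ := hQ) (T_mem_K x)

lemma span_D_eq_zero {x : CliffordAlgebra Q} (h : ∀ v ∈ dl b hQ, T b hQ (D Q LinearMap.id v x) = 0)
    (v : M) : T b hQ (D Q LinearMap.id v x) = 0 := by
  have hv : v ∈ Submodule.span R {v | v ∈ dl b hQ} := by rw [span_dl]; trivial
  induction hv using Submodule.span_induction with
  | mem v hv => exact h v hv
  | zero => rw [D_apply]; simp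
  | add v w _ _ hv hw => rw [D_add, LinearMap.add_apply, map_add, hv, hw, add_zero]
  | smul r v _ hv => rw [D_smul, LinearMap.smul_apply, map_smul, hv, smul_zero]

/-- `T (v y) = T (ε(y) v)`. -/
lemma T_ι_mul (v : M) (y : CliffordAlgebra Q) : T b hQ (ι Q v * y) = T b hQ (involute y * ι Q v) := by
  have h := span_D_eq_zero (b := b) (hQ := hQ) (x := y)
    (fun v hv => ap_D_mem _ (fun _ => rfl) v _ hv y) v
  rw [D_apply, LinearMap.id_apply, map_sub] at h
  exact sub_eq_zero.1 h

/-- `T (x y) = T (y x)` for `y` even. -/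
lemma T_mul_even (y : CliffordAlgebra Q) (hy : y ∈ evenOdd Q 0) (x : CliffordAlgebra Q) :
    T b hQ (x * y) = T b hQ (y * x) := by
  induction y, hy using CliffordAlgebra.even_induction generalizing x with
  | algebraMap r => rw [Algebra.commutes]
  | add y y' hy hy' h h' => rw [mul_add, add_mul, map_add, map_add, h, h']
  | ι_mul_ι_mul m₁ m₂ y hy h =>
    have e1 : x * (ι Q m₁ * ι Q m₂ * y) = (x * ι Q m₁ * ι Q m₂) * y := by simp only [mul_assoc]
    rw [e1, h]
    have e2 : y * (x * ι Q m₁ * ι Q m₂) = involute (involute (y * x * ι Q m₁)) * ι Q m₂ := by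
      rw [involute_involute]; simp only [mul_assoc]
    rw [e2, ← T_ι_mul]
    have e3 : ι Q m₂ * involute (y * x * ι Q m₁) = involute (ι Q m₂ * (y * x)) * ι Q m₁ := by
      simp only [map_mul, involute_ι, neg_mul, mul_neg, mul_assoc]
    rw [e3, ← T_ι_mul]
    simp only [mul_assoc]

/-- `T (x y) = T (y ε(x))` for `y` odd. -/
lemma T_mul_odd (y : CliffordAlgebra Q) (hy : y ∈ evenOdd Q 1) (x : CliffordAlgebra Q) :
    T b hQ (x * y) = T b hQ (y * involute x) := by
  induction y, hy using CliffordAlgebra.odd_induction generalizing x with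
  | ι v => rw [T_ι_mul, involute_involute]
  | add y y' hy hy' h h' => rw [mul_add, add_mul, map_add, map_add, h, h']
  | ι_mul_ι_mul m₁ m₂ y hy h =>
    have e1 : x * (ι Q m₁ * ι Q m₂ * y) = (x * (ι Q m₁ * ι Q m₂)) * y := by simp only [mul_assoc]
    have e2 : y * involute (x * (ι Q m₁ * ι Q m₂)) = (y * involute x) * (ι Q m₁ * ι Q m₂) := by
      simp only [map_mul, involute_ι, neg_mul_neg, mul_assoc]
    rw [e1, h, e2, T_mul_even _ (ι_mul_ι_mem_evenOdd_zero Q m₁ m₂)]
    simp only [mul_assoc]

/-- Nondegeneracy of the form `(a, x) ↦ T (a x)`, modulo a stable submodule `J`. -/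
theorem mem_of_T_mul_mem (J : Submodule R (CliffordAlgebra Q))
    (hJl : ∀ a, ∀ y ∈ J, a * y ∈ J) (hJr : ∀ a, ∀ y ∈ J, y * a ∈ J) (hJe : ∀ y ∈ J, involute y ∈ J)
    (x : CliffordAlgebra Q) (hx : ∀ a, T b hQ (a * x) ∈ J) : x ∈ J := by
  have hJD : ∀ v, ∀ y ∈ J, D Q LinearMap.id v y ∈ J := fun v y hy => by
    rw [D_apply]
    exact J.sub_mem (hJl _ _ hy) (hJr _ _ (hJe y hy))
  have hJap : ∀ L : List M, ∀ y ∈ J, ap (D Q LinearMap.id) L y ∈ J := by
    intro L
    induction L with
    | nil => exact fun y hy => hy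
    | cons v L ih => exact fun y hy => ih _ (hJD v y hy)
  -- the set of all `x` with `T (a x) ∈ J` for all `a`
  let N : Submodule R (CliffordAlgebra Q) :=
    { carrier := {x | ∀ a, T b hQ (a * x) ∈ J}
      zero_mem' := fun a => by rw [mul_zero, map_zero]; exact J.zero_mem
      add_mem' := fun {x y} hx hy a => by rw [mul_add, map_add]; exact J.add_mem (hx a) (hy a)
      smul_mem' := fun r x hx a => by rw [mul_smul_comm, map_smul]; exact J.smul_mem r (hx a) }
  have hN : ∀ {x}, x ∈ N ↔ ∀ a, T b hQ (a * x) ∈ J := Iff.rfl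
  -- T and involute
  have hTe : ∀ y, T b hQ (involute y) ∈ J ↔ T b hQ y ∈ J := by
    have h1 : ∀ y, involute (T b hQ y) = T b hQ y := fun y => by
      obtain ⟨r, hr⟩ := exists_T (b := b) (hQ := hQ) y
      rw [hr, AlgHom.commutes]
    have h2 : ∀ (L : List M) (y : CliffordAlgebra Q), ap (D Q LinearMap.id) L (involute y) =
        (-1 : R) ^ L.length • involute (ap (D Q LinearMap.id) L y) := by
      intro L
      induction L with
      | nil => intro y; simp [ap_nil]
      | cons v L ih =>
        intro y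
        rw [ap_cons, ap_cons]
        have h3 : D Q LinearMap.id v (involute y) = - involute (D Q LinearMap.id v y) := by
          rw [involute_D, neg_neg]
        rw [h3, map_neg, ih, List.length_cons, pow_succ, mul_neg_one, neg_smul]
    intro y
    rw [T, h2, ← T, h1]
    rcases neg_one_pow_eq_or R (dl b hQ).length with h | h
    · rw [h, one_smul]
    · rw [h, neg_smul, one_smul, Submodule.neg_mem_iff]
  have hNe : ∀ {x}, x ∈ N → involute x ∈ N := fun {x} hx => by
    intro a
    have h := hx (involute a)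
    rw [← hTe, map_mul, involute_involute] at h
    exact h
  have hND : ∀ v, ∀ {x}, x ∈ N → D Q LinearMap.id v x ∈ N := fun v {x} hx => by
    intro a
    rw [D_apply, mul_sub, map_sub, LinearMap.id_apply]
    refine J.sub_mem ?_ ?_
    · rw [← mul_assoc]; exact hx _
    · have h1 : a * (involute x * ι Q v) = involute (involute a * x) * ι Q v := by
        rw [map_mul, involute_involute, mul_assoc]
      rw [h1, ← T_ι_mul, ← mul_assoc]
      exact hx _
  -- reduce: by descending induction, contractions of `x` lie in `J`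
  have key : ∀ (L : List M), (∀ v ∈ L, v ∈ dl b hQ) → ∀ x ∈ N,
      (∀ v ∈ dl b hQ, v ∉ L → D Q LinearMap.id v x ∈ J) → x ∈ J := by
    intro L
    induction L with
    | nil =>
      intro _ x hx h
      have h1 : ∀ i : Fin n, contractLeft (b.coord i) x ∈ J := fun i => by
        rw [← D_db b hQ i]
        exact h _ (List.mem_map.2 ⟨i, List.mem_finRange i, rfl⟩) (by simp)
      obtain ⟨r, hr⟩ := exists_scalar_of_contract_mem (b := b) J
        (fun i y hy => by rw [← D_db b hQ i]; exact hJD _ _ hy) (fun i y hy => hJl _ _ hy) x h1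
      have h2 := hx (top b)
      have h3 : T b hQ (top b * x) = T b hQ (top b * (x - algebraMap R _ r)) + algebraMap R _ r := by
        rw [mul_sub, map_sub, ← Algebra.commutes r (top b), ← Algebra.smul_def, map_smul, T_top,
          Algebra.smul_def, mul_one, sub_add_cancel]
      have h4 : algebraMap R (CliffordAlgebra Q) r ∈ J := by
        have h5 := J.sub_mem h2 (hJap (dl b hQ) _ (hJl (top b) _ hr))
        rw [h3, ← T, add_sub_cancel_left] at h5
        exact h5
      have h6 := J.add_mem hr h4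
      rwa [sub_add_cancel] at h6
    | cons w L ih =>
      intro hL x hx h
      have hw := hL w (List.mem_cons_self)
      have hL' : ∀ v ∈ L, v ∈ dl b hQ := fun v hv => hL v (List.mem_cons_of_mem _ hv)
      -- first show `D w x ∈ J`
      have h1 : D Q LinearMap.id w x ∈ J := by
        apply ih hL' _ (hND w hx)
        intro v hv hvL
        by_cases hvw : v = w
        · subst hvw
          rw [D_D _ (fun _ => rfl)]
          exact J.zero_mem
        · rw [D_anti _ (fun _ => rfl)]
          exact J.neg_mem (hJD _ _ (h v hv (by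
            rw [List.mem_cons, not_or]; exact ⟨hvw, hvL⟩)))
      apply ih hL' x hx
      intro v hv hvL
      by_cases hvw : v = w
      · subst hvw; exact h1
      · exact h v hv (by rw [List.mem_cons, not_or]; exact ⟨hvw, hvL⟩)
  exact key (dl b hQ) (fun v hv => hv) x hx (fun v hv hv' => absurd hv hv')

/-- Nondegeneracy of the form `(a, x) ↦ T (a x)`. -/
theorem eq_zero_of_T_mul (x : CliffordAlgebra Q) (hx : ∀ a, T b hQ (a * x) = 0) : x = 0 :=
  (Submodule.mem_bot R).1 (mem_of_T_mul_mem (b := b) (hQ := hQ) ⊥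
    (fun a y hy => by rw [Submodule.mem_bot] at hy ⊢; rw [hy, mul_zero])
    (fun a y hy => by rw [Submodule.mem_bot] at hy ⊢; rw [hy, zero_mul])
    (fun y hy => by rw [Submodule.mem_bot] at hy ⊢; rw [hy, map_zero]) x
    (fun a => by rw [hx a]; exact Submodule.zero_mem _))

end Regular

end K918.Cliff
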