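import Groth.Agent.Grass.K652.AffYoneda
import Groth.Agent.QuadGrp.K917.PolySys
import Groth.Prelude.Def_QuadGrp2

/-!
# Representability by an affine scheme of finite presentation from a natural family of equations

* `Fam`: a natural family of maps `(σ → A) → (κ → A)` on `R`-algebras; by the lemma of Yoneda it is given by polynomials
  (`pol`, `aeval_pol`);
* `affine_lfp_of_fam`: a scheme over `Spec R` whose points are naturally the solutions of such a family is affine and of
  finite presentation.
-/

set_option autoImplicit false
universe u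
open CategoryTheory CategoryTheory.Limits AlgebraicGeometry MvPolynomial

namespace K918.Rep

open K917 QuadGrp

variable (R : Type u) [CommRing R] (σ κ : Type)

/-- a natural family of maps `(σ → A) → (κ → A)` -/
structure Fam where
  /-- the maps -/
  E : ∀ (A : Type u) [CommRing A] [Algebra R A], (σ → A) → (κ → A)
  nat : ∀ (A B : Type u) [CommRing A] [Algebra R A] [CommRing B] [Algebra R B] (φ : A →ₐ[R] B) (x : σ → A),
    E B (fun s => φ (x s)) = fun k => φ (E A x k)

variable {R σ κ}

/-- the polynomials of a natural family -/
noncomputable def Fam.pol (F : Fam R σ κ) (k : κ) : MvPolynomial σ R := F.E (MvPolynomial σ R) X k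

theorem Fam.aeval_pol (F : Fam R σ κ) (A : Type u) [CommRing A] [Algebra R A] (x : σ → A) (k : κ) :
    aeval x (F.pol k) = F.E A x k := by
  have h := congrFun (F.nat (MvPolynomial σ R) A (aeval x) X) k
  simp only [aeval_X] at h
  exact h.symm

/-- morphisms of spectra over `Spec R` are algebra maps -/
noncomputable def homEquiv (A B : Type u) [CommRing A] [Algebra R A] [CommRing B] [Algebra R B] :
    (B →ₐ[R] A) ≃ (specOver R A ⟶ specOver R B) where
  toFun φ := specOverMap R φ
  invFun f :=
    { (Spec.preimage f.left).hom with
      commutes' := fun r => by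
        have h : CommRingCat.ofHom (algebraMap R B) ≫ Spec.preimage f.left = CommRingCat.ofHom (algebraMap R A) := by
          apply Spec.map_injective
          rw [Spec.map_comp, Spec.map_preimage]
          exact Over.w f
        exact congr($(h).hom r) }
  left_inv φ := by
    ext b
    change (Spec.preimage (Spec.map (CommRingCat.ofHom φ.toRingHom))).hom b = φ b
    rw [Spec.preimage_map]
    rfl
  right_inv f := by
    ext1
    exact Spec.map_preimage f.left

theorem homEquiv_left {A B : Type u} [CommRing A] [Algebra R A] [CommRing B] [Algebra R B] (φ : B →ₐ[R] A) :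
    (homEquiv A B φ).left = Spec.map (CommRingCat.ofHom φ.toRingHom) := rfl

theorem specOver_affine (B : Type u) [CommRing B] [Algebra R B] : IsAffineHom (specOver R B).hom := by
  change IsAffineHom (Spec.map (CommRingCat.ofHom (algebraMap R B)))
  infer_instance

theorem specOver_lfp (B : Type u) [CommRing B] [Algebra R B] [h : Algebra.FinitePresentation R B] :
    LocallyOfFinitePresentation (specOver R B).hom := by
  change LocallyOfFinitePresentation (Spec.map (CommRingCat.ofHom (algebraMap R B)))
  rw [HasRingHomProperty.Spec_iff (P := @LocallyOfFinitePresentation)]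
  exact (RingHom.finitePresentation_algebraMap).2 h

section Main

variable [Finite σ] [Finite κ] (F : Fam R σ κ) (G : Over (Spec (CommRingCat.of R)))
  (e : ∀ (A : Type u) [CommRing A] [Algebra R A], (specOver R A ⟶ G) ≃ {x : σ → A // F.E A x = 0})
  (he : ∀ (A B : Type u) [CommRing A] [Algebra R A] [CommRing B] [Algebra R B] (φ : A →ₐ[R] B)
    (y : specOver R A ⟶ G) (s : σ), (e B (specOverMap R φ ≫ y)).1 s = φ ((e A y).1 s))

omit [Finite σ] [Finite κ] in
theorem sol_iff (A : Type u) [CommRing A] [Algebra R A] (x : σ → A) :
    F.E A x = 0 ↔ ∀ k, aeval x (F.pol k) = 0 := by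
  constructor
  · intro h k
    rw [F.aeval_pol, h]; rfl
  · intro h
    funext k
    have := h k
    rwa [F.aeval_pol] at this

/-- solutions of the family as points of the universal algebra -/
noncomputable def solEquiv (A : Type u) [CommRing A] [Algebra R A] :
    {x : σ → A // F.E A x = 0} ≃ (PolySys.Alg F.pol →ₐ[R] A) :=
  (Equiv.subtypeEquivRight (sol_iff F A)).trans (PolySys.pointsEquiv F.pol A).symm

theorem solEquiv_pt (A : Type u) [CommRing A] [Algebra R A] (x : {x : σ → A // F.E A x = 0}) (s : σ) :
    solEquiv F A x (PolySys.pt F.pol s) = x.1 s := by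
  exact PolySys.lift_pt F.pol x.1 ((sol_iff F A x.1).1 x.2) s

include e he in
/-- A scheme whose points are the solutions of a natural family of equations is affine of finite presentation. -/
theorem exists_iso_of_fam : Nonempty (G ≅ specOver R (PolySys.Alg F.pol)) := by
  let τ : ∀ A : CommAlgCat.{u} R, (specOver R A ⟶ G) ≃ (specOver R A ⟶ specOver R (PolySys.Alg F.pol)) :=
    fun A => (e A).trans ((solEquiv F A).trans (homEquiv A (PolySys.Alg F.pol)))
  have hτ : K652.AffYoneda.IsNat (X := G) (Y := specOver R (PolySys.Alg F.pol)) fun A => τ A := by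
    intro A B φ g g' h
    have h1 : g' = specOverMap R φ.hom ≫ g := by
      ext1
      exact h
    change Spec.map (CommRingCat.ofHom (solEquiv F B (e B g')).toRingHom) =
      Spec.map (CommRingCat.ofHom φ.hom.toRingHom) ≫ Spec.map (CommRingCat.ofHom (solEquiv F A (e A g)).toRingHom)
    rw [← Spec.map_comp, ← CommRingCat.ofHom_comp]
    congr 2
    have h2 : solEquiv F B (e B g') = φ.hom.comp (solEquiv F A (e A g)) := by
      apply PolySys.hom_ext
      intro s
      rw [AlgHom.comp_apply, solEquiv_pt, solEquiv_pt, h1, he]
    rw [h2]
    rfl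
  obtain ⟨i, -⟩ := K652.AffYoneda.exists_iso hτ
  exact ⟨i⟩

include e he in
theorem affine_lfp_of_fam : IsAffineHom G.hom ∧ LocallyOfFinitePresentation G.hom := by
  obtain ⟨i⟩ := exists_iso_of_fam F G e he
  have hw : i.hom.left ≫ (specOver R (PolySys.Alg F.pol)).hom = G.hom := Over.w i.hom
  have : IsIso i.hom.left := inferInstance
  have h1 := specOver_affine (R := R) (PolySys.Alg F.pol)
  have hfp : Algebra.FinitePresentation R (PolySys.Alg F.pol) := PolySys.finitePresentation F.pol
  have h2 := specOver_lfp (R := R) (PolySys.Alg F.pol)
  rw [← hw]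
  exact ⟨inferInstance, inferInstance⟩

end Main

end K918.Rep
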