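import Groth.Agent.QuadGrp.K918.CliffRepAff
import Groth.Agent.Sga3B.LocalLift

/-!
# Smoothness of a group scheme of Clifford units from lifting over local rings
-/

set_option autoImplicit false
universe u
open CategoryTheory CategoryTheory.Limits AlgebraicGeometry

namespace K918.Pts

open CliffordAlgebra QuadGrp TensorProduct K916.BC K918.Cliff

variable {R : Type u} [CommRing R] {M : Type u} [AddCommGroup M] [Module R M] [Module.Free R M]
  {Q : QuadraticForm R M}

theorem exists_point_lift {T : ∀ (A : Type u) [CommRing A] [Algebra R A], Subgroup (CliffordAlgebra (baseChangeForm A Q))ˣ}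
    {G : Over (Spec (CommRingCat.of R))} [GrpObj G] (D : CliffRep Q (fun A _ _ => T A) G)
    (B : Type u) [CommRing B] [Algebra R B] (I : Ideal B)
    (H : ∀ u ∈ T (B ⧸ I), ∃ w ∈ T B, F Q (Ideal.Quotient.mkₐ R I) (w : CliffordAlgebra (baseChangeForm B Q)) = u)
    (α : Spec (CommRingCat.of (B ⧸ I)) ⟶ G.left)
    (h : Spec.map (CommRingCat.ofHom (Ideal.Quotient.mk I)) ≫ Spec.map (CommRingCat.ofHom (algebraMap R B)) =
      α ≫ G.hom) :
    ∃ γ : Spec (CommRingCat.of B) ⟶ G.left,
      Spec.map (CommRingCat.ofHom (Ideal.Quotient.mk I)) ≫ γ = α ∧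
        γ ≫ G.hom = Spec.map (CommRingCat.ofHom (algebraMap R B)) := by
  let α' : specOver R (B ⧸ I) ⟶ G := Over.homMk α (by
    change α ≫ G.hom = Spec.map (CommRingCat.ofHom (algebraMap R (B ⧸ I)))
    rw [← h, ← Spec.map_comp]
    rfl)
  obtain ⟨w, hw, hwu⟩ := H (D.pts (B ⧸ I) α').1 (D.pts (B ⧸ I) α').2
  obtain ⟨γ', hγ'⟩ := (ptsEquiv D B).surjective ⟨w, hw⟩
  have h1 : specOverMap R (Ideal.Quotient.mkₐ R I) ≫ γ' = α' := by
    apply (ptsEquiv D (B ⧸ I)).injective
    apply Subtype.ext
    apply Units.ext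
    have h2 := D.natural B (B ⧸ I) (Ideal.Quotient.mkₐ R I)
      (F Q (Ideal.Quotient.mkₐ R I) : CliffordAlgebra (baseChangeForm B Q) →+*
        CliffordAlgebra (baseChangeForm (B ⧸ I) Q)) (F_ι Q _) (F_algebraMap Q _) γ'
    refine h2.trans ?_
    have h3 : (((ptsEquiv D B γ' : ↥(T B)) : (CliffordAlgebra (baseChangeForm B Q))ˣ) :
        CliffordAlgebra (baseChangeForm B Q)) = w := by rw [hγ']
    exact (congrArg (F Q (Ideal.Quotient.mkₐ R I)) h3).trans hwu
  refine ⟨γ'.left, congrArg CommaMorphism.left h1, Over.w γ'⟩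

set_option backward.isDefEq.respectTransparency.types false in
/-- Smoothness from lifting over local algebras over a faithfully flat algebra `R'`. -/
theorem smooth_of_lift {T : ∀ (A : Type u) [CommRing A] [Algebra R A], Subgroup (CliffordAlgebra (baseChangeForm A Q))ˣ}
    {G : Over (Spec (CommRingCat.of R))} [GrpObj G] (D : CliffRep Q (fun A _ _ => T A) G)
    (hG : LocallyOfFinitePresentation G.hom) (R' : Type u) [CommRing R'] [Algebra R R'] [Module.FaithfullyFlat R R']
    (H : ∀ (B : Type u) [CommRing B] [IsLocalRing B] [Algebra R B] [Algebra R' B] [IsScalarTower R R' B]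
      (I : Ideal B), I * I = ⊥ → ∀ u ∈ T (B ⧸ I), ∃ w ∈ T B,
        F Q (Ideal.Quotient.mkₐ R I) (w : CliffordAlgebra (baseChangeForm B Q)) = u) :
    AlgebraicGeometry.Smooth G.hom := by
  let f : Spec (CommRingCat.of R') ⟶ Spec (CommRingCat.of R) := Spec.map (CommRingCat.ofHom (algebraMap R R'))
  have hflat : Flat f := by
    rw [HasRingHomProperty.Spec_iff (P := @Flat)]
    exact (RingHom.flat_algebraMap_iff).2 inferInstance
  have hsurj : Surjective f := ⟨PrimeSpectrum.comap_surjective_of_faithfullyFlat⟩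
  refine Groth.Agent.Sga3B.LocalLift.smooth_of_local_lift_fpqc G f ?_ ?_
  · intro V hV
    refine ⟨f ⁻¹ᵁ V, ?_, ?_⟩
    · exact (hV.preimage f).isCompact
    · exact Set.image_preimage_eq _ hsurj.surj
  · intro s'
    refine ⟨⊤, trivial, ?_⟩
    intro B _ _ I hI α β h
    let ψ : CommRingCat.of R' ⟶ CommRingCat.of B := Spec.preimage (β ≫ (⊤ : (Spec (CommRingCat.of R')).Opens).ι)
    have hψ : Spec.map ψ = β ≫ (⊤ : (Spec (CommRingCat.of R')).Opens).ι := Spec.map_preimage _
    let _ : Algebra R' B := ψ.hom.toAlgebra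
    let _ : Algebra R B := ((algebraMap R' B).comp (algebraMap R R')).toAlgebra
    have : IsScalarTower R R' B := IsScalarTower.of_algebraMap_eq fun _ => rfl
    have e : Spec.map (CommRingCat.ofHom (algebraMap R B)) = β ≫ (⊤ : (Spec (CommRingCat.of R')).Opens).ι ≫ f := by
      rw [← Category.assoc, ← hψ]
      change _ = Spec.map ψ ≫ Spec.map (CommRingCat.ofHom (algebraMap R R'))
      rw [← Spec.map_comp]
      rfl
    obtain ⟨γ, h1, h2⟩ := exists_point_lift D B I (H B I hI) α (by rw [e]; exact h)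
    exact ⟨γ, h1, h2.trans e⟩

end K918.Pts
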