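import Groth.Agent.QuadGrp.K918.ThickOdd

/-!
# Lifting in the Clifford group and in the Pin group, odd rank, over local rings
-/

set_option autoImplicit false
universe u v w u'

namespace K918.Thick

open CliffordAlgebra QuadGrp K916.BC K918.Cliff K918.Emb

section Vec

variable {R : Type u} [CommRing R] {M : Type v} [AddCommGroup M] [Module R M] {Q : QuadraticForm R M}

/-- a vector with `Q v` a unit, as a unit of the Clifford algebra -/
noncomputable def vecUnit (v : M) (c : R) (hc : c * Q v = 1) : (CliffordAlgebra Q)ˣ where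
  val := ι Q v
  inv := c • ι Q v
  val_inv := by rw [mul_smul_comm, ι_sq_scalar, Algebra.smul_def, ← map_mul, hc, map_one]
  inv_val := by rw [smul_mul_assoc, ι_sq_scalar, Algebra.smul_def, ← map_mul, hc, map_one]

theorem vecUnit_val (v : M) (c : R) (hc : c * Q v = 1) : (vecUnit v c hc : CliffordAlgebra Q) = ι Q v := rfl

theorem vecUnit_conj (v : M) (c : R) (hc : c * Q v = 1) (x : M) :
    ι Q v * ι Q x = ι Q ((QuadraticMap.polar Q v x * c) • v - x) * ι Q v := by
  rw [map_sub, map_smul, sub_mul, smul_mul_assoc, ι_sq_scalar, Algebra.smul_def,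
    ← map_mul (algebraMap R (CliffordAlgebra Q)), mul_assoc, hc, mul_one, ← ι_mul_ι_add_swap, add_sub_cancel_right]

theorem vecUnit_mem (v : M) (c : R) (hc : c * Q v = 1) : vecUnit v c hc ∈ GPin' Q := by
  rw [mem_GPin'_iff]
  refine ⟨fun x => ⟨_, vecUnit_conj v c hc x⟩, fun y => ⟨(QuadraticMap.polar Q v y * c) • v - y, ?_⟩⟩
  rw [vecUnit_val, vecUnit_conj v c hc]
  congr 2
  rw [QuadraticMap.polar_sub_right, QuadraticMap.polar_smul_right, QuadraticMap.polar_self]
  have h : (QuadraticMap.polar Q v y * c) • ((2 : ℕ) • Q v) = 2 * QuadraticMap.polar Q v y := by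
    rw [two_smul, smul_eq_mul]
    linear_combination (2 * QuadraticMap.polar Q v y) * hc
  rw [h]
  module

/-- `star w * w` commutes with vectors, for `w` in the naive Clifford group -/
theorem star_mul_comm (w : (CliffordAlgebra Q)ˣ) (hw : w ∈ GPin' Q) (x : M) :
    ι Q x * (star (w : CliffordAlgebra Q) * w) = star (w : CliffordAlgebra Q) * w * ι Q x := by
  obtain ⟨y, hy⟩ := ((mem_GPin'_iff w).1 hw).1 x
  have h1 := congrArg star hy
  rw [star_mul, star_mul, star_ι, star_ι, neg_mul, mul_neg, neg_inj] at h1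
  rw [← mul_assoc, h1, mul_assoc, ← hy, mul_assoc]

end Vec

section Scalar

variable {R : Type u} [CommRing R] {M : Type v} [AddCommGroup M] [Module R M] {Q : QuadraticForm R M}
  {φ : M →ₗ[R] R} {n : ℕ} (b : Module.Basis (Fin n) R M) (hq : IsRegular (hyp Q φ))

include b hq in
/-- an even element commuting with the vectors is a scalar -/
theorem exists_scalar_of_even_comm {z : CliffordAlgebra Q} (h0 : z ∈ evenOdd Q 0)
    (hz : ∀ x, ι Q x * z = z * ι Q x) : ∃ r : R, z = algebraMap R _ r := by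
  have hfree : Module.Free R M := Module.Free.of_basis b
  obtain ⟨r, s, h⟩ := exists_of_contract_inl b hq (z := j Q φ z) (fun x => by
    rw [← D_id, D_apply, LinearMap.id_apply, involute_eq_of_mem_even (j_mem_evenOdd h0), ← j_ι, ← map_mul, ← map_mul,
      hz, sub_self])
  have h1 : s • ι (hyp Q φ) (v₀ b hq) = 0 := by
    apply eq_zero_of_mem_evenOdd _ (Submodule.smul_mem _ _ (ι_mem_evenOdd_one _ _))
    have h2 : s • ι (hyp Q φ) (v₀ b hq) = j Q φ z - algebraMap R _ r := by rw [h, add_sub_cancel_left]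
    rw [h2]
    exact Submodule.sub_mem _ (j_mem_evenOdd h0) (algebraMap_mem_evenOdd_zero r)
  refine ⟨r, j_injective Q φ ?_⟩
  rw [h, h1, add_zero, AlgHom.commutes]

include b hq in
/-- the Clifford norm of a homogeneous element of the naive Clifford group is a scalar -/
theorem exists_norm (w : (CliffordAlgebra Q)ˣ) (hw : w ∈ GPin' Q)
    (h : (w : CliffordAlgebra Q) ∈ evenOdd Q 0 ∨ (w : CliffordAlgebra Q) ∈ evenOdd Q 1) :
    ∃ r : R, star (w : CliffordAlgebra Q) * w = algebraMap R _ r := by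
  apply exists_scalar_of_even_comm b hq
  · rcases h with h | h
    · exact mul00 (star_mem_evenOdd h) h
    · exact mul11 (star_mem_evenOdd h) h
  · exact star_mul_comm w hw

end Scalar

section Lift

variable {A : Type u} [CommRing A] {A' : Type u'} [CommRing A'] [Algebra A A'] {V : Type v} [AddCommGroup V]
  [Module A V] {V' : Type w} [AddCommGroup V'] [Module A V'] [Module A' V'] [IsScalarTower A A' V'] {n : ℕ}
  (b : Module.Basis (Fin n) A V) (b' : Module.Basis (Fin n) A' V') {Q : QuadraticForm A V}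
  {Q' : QuadraticForm A' V'} {f : V →ₗ[A] V'} (hf : ∀ i, f (b i) = b' i) (hfQ : Compat A' Q Q' f)
  (hs : Function.Surjective (algebraMap A A'))
  (hI : ∀ x y : A, algebraMap A A' x = 0 → algebraMap A A' y = 0 → x * y = 0)
  (φ : V →ₗ[A] A)

theorem mem_LH_of_homog {R : Type u} [CommRing R] {M : Type v} [AddCommGroup M] [Module R M] {Q : QuadraticForm R M}
    {x : CliffordAlgebra Q} (h : x ∈ evenOdd Q 0 ∨ x ∈ evenOdd Q 1) : IsLocHomog Q x := by
  rcases h with h | h
  · exact ⟨1, IsIdempotentElem.one, by rwa [one_smul], by rw [sub_self, zero_smul]; exact Submodule.zero_mem _⟩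
  · exact ⟨0, IsIdempotentElem.zero, by rw [zero_smul]; exact Submodule.zero_mem _, by rwa [sub_zero, one_smul]⟩

include hf hs hI in
/-- **The Clifford group lifts**, for a form with an anisotropic vector which is a hyperplane in a regular form of even
rank, over a local ring. -/
theorem exists_lift_GPin [IsLocalRing A] (hn : Even (n + 1)) (hq : IsRegular (hyp Q φ)) (x₁ : V) (hx₁ : IsUnit (Q x₁))
    (u : (CliffordAlgebra Q')ˣ) (hu : u ∈ GPin Q') :
    ∃ w : (CliffordAlgebra Q)ˣ, w ∈ GPin Q ∧ cmap hfQ (w : CliffordAlgebra Q) = u := by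
  have hA' : Nontrivial A' := nontrivial_of_ker hI
  have hloc : IsLocalRing A' := IsLocalRing.of_surjective' (algebraMap A A') hs
  obtain ⟨hu1, hu2⟩ := hu
  rcases homog_of_local hu2 with h | h
  · obtain ⟨w, hw, hw0, hwu⟩ := exists_lift_even b b' hf hfQ hs hI φ hn hq u hu1 h
    exact ⟨w, ⟨hw, mem_LH_of_homog (Or.inl hw0)⟩, hwu⟩
  · obtain ⟨c, hc⟩ := hx₁.exists_left_inv
    have hc' : algebraMap A A' c * Q' (f x₁) = 1 := by rw [hfQ x₁, ← map_mul, hc, map_one]
    obtain ⟨w, hw, hw0, hwu⟩ := exists_lift_even b b' hf hfQ hs hI φ hn hq (u * vecUnit (f x₁) _ hc')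
      ((GPin' Q').mul_mem hu1 (vecUnit_mem _ _ hc')) (by
        rw [Units.val_mul]
        exact mul11 h (ι_mem_evenOdd_one _ _))
    have hv1 : cmap hfQ (vecUnit x₁ c hc : CliffordAlgebra Q) = (vecUnit (f x₁) _ hc' : CliffordAlgebra Q') := by
      rw [vecUnit_val, cmap_ι, vecUnit_val]
    have hv2 : cmap hfQ (↑(vecUnit x₁ c hc)⁻¹ : CliffordAlgebra Q) = (↑(vecUnit (f x₁) _ hc')⁻¹ : CliffordAlgebra Q') := by
      change cmap hfQ (c • ι Q x₁) = algebraMap A A' c • ι Q' (f x₁)
      rw [map_smul, cmap_ι, algebraMap_smul]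
    refine ⟨w * (vecUnit x₁ c hc)⁻¹, ⟨(GPin' Q).mul_mem hw ((GPin' Q).inv_mem (vecUnit_mem _ _ hc)), ?_⟩, ?_⟩
    · refine (LH Q).mul_mem (mem_LH_of_homog (Or.inl hw0)) ((LH Q).inv_mem ?_)
      exact mem_LH_of_homog (Or.inr (ι_mem_evenOdd_one _ _))
    · rw [Units.val_mul, map_mul, hwu, hv2, ← Units.val_mul, mul_assoc, mul_inv_cancel, mul_one]

include hf hs hI in
/-- **The Pin group lifts**, for a form with an anisotropic vector and two vectors with unit polar value which is a
hyperplane in a regular form of even rank, over a local ring. -/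
theorem exists_lift_Pin [IsLocalRing A] (hn : Even (n + 1)) (hq : IsRegular (hyp Q φ)) (x₁ : V) (hx₁ : IsUnit (Q x₁))
    (x₂ x₃ : V) (hx : IsUnit (QuadraticMap.polar Q x₂ x₃)) (u : (CliffordAlgebra Q')ˣ) (hu : u ∈ Pin Q') :
    ∃ w : (CliffordAlgebra Q)ˣ, w ∈ Pin Q ∧ cmap hfQ (w : CliffordAlgebra Q) = u := by
  have hV : Module.Free A V := Module.Free.of_basis b
  have hV' : Module.Free A' V' := Module.Free.of_basis b'
  obtain ⟨hu1, hu2⟩ := hu
  replace hu2 : star (u : CliffordAlgebra Q') * u = 1 := hu2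
  obtain ⟨w, hw, hwu⟩ := exists_lift_GPin b b' hf hfQ hs hI φ hn hq x₁ hx₁ u hu1
  obtain ⟨r, hr⟩ := exists_norm b hq w hw.1 (homog_of_local hw.2)
  have hr1 : algebraMap A A' (r - 1) = 0 := by
    rw [map_sub, map_one, sub_eq_zero]
    apply algebraMap_inj (Q := Q')
    have h1 := congrArg (cmap hfQ) hr
    rw [map_mul, cmap_star, hwu, hu2, cmap_algebraMap] at h1
    rw [← h1, map_one]
  obtain ⟨c, hc⟩ := hx.exists_left_inv
  let δ : V := (-(r - 1) * c) • x₃
  have hδ : f δ = 0 := by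
    change f ((-(r - 1) * c) • x₃) = 0
    rw [map_smul, ← algebraMap_smul A' (-(r - 1) * c), map_mul, map_neg, hr1, neg_zero, zero_mul, zero_smul]
  let s := thickUnit b b' hf hfQ hI x₂ δ hδ
  have hsnorm : star (s : CliffordAlgebra Q) * s = algebraMap A _ (1 - (r - 1)) := by
    change star (1 + ι Q x₂ * ι Q δ) * (1 + ι Q x₂ * ι Q δ) = _
    rw [star_add, star_one, star_mul, star_ι, star_ι, neg_mul_neg, add_mul, one_mul, mul_add, mul_one]
    have h1 : ι Q δ * ι Q x₂ * (ι Q x₂ * ι Q δ) = 0 := by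
      refine mul_of_ker b b' hf hfQ hI ?_ ?_
      · rw [map_mul, cmap_ι, hδ, map_zero, zero_mul]
      · rw [map_mul, cmap_ι, cmap_ι, hδ, map_zero, mul_zero]
    rw [h1, add_zero, add_assoc, ι_mul_ι_add_swap, map_sub, map_one]
    change 1 + algebraMap A _ (QuadraticMap.polar Q x₂ ((-(r - 1) * c) • x₃)) = _
    rw [QuadraticMap.polar_smul_right, smul_eq_mul, mul_assoc, hc, mul_one, map_neg]
    abel
  refine ⟨s * w, ⟨(GPin Q).mul_mem ⟨thickUnit_mem b b' hf hfQ hI x₂ δ hδ,
    mem_LH_of_homog (Or.inl (thickUnit_even b b' hf hfQ hI x₂ δ hδ))⟩ hw, ?_⟩, ?_⟩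
  · change star ((s * w : (CliffordAlgebra Q)ˣ) : CliffordAlgebra Q) *
      ((s * w : (CliffordAlgebra Q)ˣ) : CliffordAlgebra Q) = 1
    rw [Units.val_mul, star_mul, mul_assoc, ← mul_assoc (star (s : CliffordAlgebra Q)), hsnorm,
      Algebra.commutes, ← mul_assoc, hr, ← map_mul]
    have : r * (1 - (r - 1)) = 1 := by
      have h2 := hI _ _ hr1 hr1
      linear_combination (-1 : A) * h2
    rw [this, map_one]
  · rw [Units.val_mul, map_mul, cmap_thickUnit b b' hf hfQ hI x₂ δ hδ, one_mul, hwu]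

end Lift

end K918.Thick
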