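import Groth.Agent.QuadGrp.K918.Glue
import Groth.Agent.QuadGrp.K918.ThickPin
import Groth.Agent.QuadGrp.K917.Semireg
import Groth.Agent.QuadGrp.K916.Bridge

/-!
# The Clifford group and the Pin group of a semiregular form of odd rank are smooth
-/

set_option autoImplicit false
universe u v
open CategoryTheory CategoryTheory.Limits AlgebraicGeometry

namespace K918.Odd

open CliffordAlgebra QuadGrp TensorProduct K916.BC K918.Cliff K918.Emb K917.Split

section Split

variable {R : Type u} [CommRing R]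

theorem isRegular_of_equiv {M : Type v} [AddCommGroup M] [Module R M] {N : Type v} [AddCommGroup N] [Module R N]
    {Q₁ : QuadraticForm R M} {Q₂ : QuadraticForm R N} (e : M ≃ₗ[R] N) (h : ∀ x, Q₂ (e x) = Q₁ x)
    (h2 : IsRegular Q₂) : IsRegular Q₁ := by
  have hp : ∀ x y, QuadraticMap.polar Q₁ x y = QuadraticMap.polar Q₂ (e x) (e y) := fun x y => by
    rw [QuadraticMap.polar, QuadraticMap.polar, ← map_add, h, h, h]
  constructor
  · intro x y hxy
    apply e.injective
    apply h2.1
    apply LinearMap.ext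
    intro z
    obtain ⟨z, rfl⟩ := e.surjective z
    change QuadraticMap.polar Q₂ (e x) (e z) = QuadraticMap.polar Q₂ (e y) (e z)
    rw [← hp, ← hp]
    exact DFunLike.congr_fun hxy z
  · intro ψ
    obtain ⟨y, hy⟩ := h2.2 (ψ ∘ₗ e.symm.toLinearMap)
    refine ⟨e.symm y, ?_⟩
    apply LinearMap.ext
    intro z
    change QuadraticMap.polar Q₁ (e.symm y) z = ψ z
    rw [hp, e.apply_symm_apply]
    have := DFunLike.congr_fun hy (e z)
    change QuadraticMap.polar Q₂ y (e z) = ψ (e.symm (e z)) at this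
    rw [this, e.symm_apply_apply]

theorem ext0_cons_zero {n : ℕ} (a : R) (x : Fin n → R) : ext0 R (Fin.cons a x : Fin (n + 1) → R) 0 = a := by
  rw [ext0_of_lt _ _ (Nat.succ_pos n)]
  rfl

theorem ext0_cons_succ {n : ℕ} (a : R) (x : Fin n → R) (k : ℕ) :
    ext0 R (Fin.cons a x : Fin (n + 1) → R) (k + 1) = ext0 R x k := by
  by_cases h : k < n
  · rw [ext0_of_lt _ _ (Nat.succ_lt_succ h), ext0_of_lt _ _ h]
    rfl
  · rw [ext0, ext0, dif_neg h, dif_neg (by omega)]

/-- the split form of odd rank as a hyperplane in the split form of even rank -/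
theorem splitForm_cons (m : ℕ) (a : R) (x : Fin (2 * m + 1) → R) :
    splitForm R (2 * (m + 1)) (Fin.cons a x : Fin (2 * m + 1 + 1) → R) =
      splitForm R (2 * m + 1) x + (a - x 0) * x 0 := by
  rw [splitForm_apply_range, splitForm_apply_range]
  have e1 : 2 * (m + 1) / 2 = m + 1 := by omega
  have e2 : 2 * (m + 1) % 2 = 0 := by omega
  have e3 : (2 * m + 1) / 2 = m := by omega
  have e4 : (2 * m + 1) % 2 = 1 := by omega
  rw [e1, e2, e3, e4, if_neg (by norm_num), if_pos rfl, Finset.sum_range_succ']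
  have h1 : ∀ k, ext0 R (Fin.cons a x : Fin (2 * (m + 1)) → R) (k + 1) = ext0 R x k := ext0_cons_succ a x
  have h0 : ext0 R (Fin.cons a x : Fin (2 * (m + 1)) → R) 0 = a := ext0_cons_zero a x
  have e5 : ∀ i, ext0 R (Fin.cons a x : Fin (2 * (m + 1)) → R) (2 * (i + 1) + 0) *
      ext0 R (Fin.cons a x : Fin (2 * (m + 1)) → R) (2 * (i + 1) + 1 + 0) =
      ext0 R x (2 * i + 1) * ext0 R x (2 * i + 1 + 1) := fun i => by
    rw [show 2 * (i + 1) + 0 = 2 * i + 1 + 1 by ring, show 2 * (i + 1) + 1 + 0 = 2 * i + 1 + 1 + 1 by ring, h1, h1]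
  rw [Finset.sum_congr rfl fun i _ => e5 i]
  have e6 : ext0 R (Fin.cons a x : Fin (2 * (m + 1)) → R) (2 * 0 + 0) = a := h0
  have e7 : ext0 R (Fin.cons a x : Fin (2 * (m + 1)) → R) (2 * 0 + 1 + 0) = x 0 := by
    rw [show 2 * 0 + 1 + 0 = 0 + 1 by norm_num, h1, ext0_of_lt x 0 (by omega)]
    rfl
  rw [e6, e7, ext0_of_lt x 0 (by omega), show (⟨0, by omega⟩ : Fin (2 * m + 1)) = 0 from rfl]
  ring

variable {V : Type u} [AddCommGroup V] [Module R V] {m : ℕ} (c : Module.Basis (Fin (2 * m + 1)) R V)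
  {Q : QuadraticForm R V} (hc : IsSplitBasis c Q)

theorem split_apply {n : ℕ} {c : Module.Basis (Fin n) R V} (hc : IsSplitBasis c Q) (x : V) :
    Q x = splitForm R n (c.equivFun x) := by
  rw [← hc]
  congr 1
  exact (c.sum_equivFun x).symm

include hc in
/-- the hyperbolic extension is regular -/
theorem isRegular_hyp : IsRegular (hyp Q (c.coord 0)) := by
  let e : (V × R) ≃ₗ[R] (Fin (2 * (m + 1)) → R) :=
    { toFun := fun p => (Fin.cons (c.equivFun p.1 0 + p.2) (c.equivFun p.1) : Fin (2 * m + 1 + 1) → R)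
      map_add' := fun p p' => by
        change (Fin.cons _ _ : Fin (2 * m + 1 + 1) → R) = (Fin.cons _ _ : Fin (2 * m + 1 + 1) → R) +
          (Fin.cons _ _ : Fin (2 * m + 1 + 1) → R)
        funext i
        refine Fin.cases ?_ (fun k => ?_) i
        · simp only [Prod.fst_add, Prod.snd_add, map_add, Pi.add_apply, Fin.cons_zero]
          ring
        · simp
      map_smul' := fun r p => by
        change (Fin.cons _ _ : Fin (2 * m + 1 + 1) → R) = r • (Fin.cons _ _ : Fin (2 * m + 1 + 1) → R)
        funext i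
        refine Fin.cases ?_ (fun k => ?_) i
        · simp only [Prod.smul_fst, Prod.smul_snd, map_smul, Pi.smul_apply, Fin.cons_zero, smul_eq_mul]
          ring
        · simp
      invFun := fun y => (c.equivFun.symm (Fin.tail (n := 2 * m + 1) (α := fun _ => R) y),
        (y : Fin (2 * m + 1 + 1) → R) 0 - (y : Fin (2 * m + 1 + 1) → R) 1)
      left_inv := fun p => by
        simp only [Fin.tail_cons, LinearEquiv.symm_apply_apply, Fin.cons_zero]
        refine Prod.ext rfl ?_
        change c.equivFun p.1 0 + p.2 - (Fin.cons _ (c.equivFun p.1) : Fin (2 * m + 1 + 1) → R) (Fin.succ 0) = p.2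
        rw [Fin.cons_succ]
        ring
      right_inv := fun y => by
        simp only [LinearEquiv.apply_symm_apply]
        refine Eq.trans ?_ (Fin.cons_self_tail (n := 2 * m + 1) (α := fun _ => R) y)
        congr 1
        change (y : Fin (2 * m + 1 + 1) → R) (Fin.succ 0) + (y 0 - y 1) = y 0
        have : (y : Fin (2 * m + 1 + 1) → R) (Fin.succ 0) = y 1 := rfl
        rw [this]
        ring }
  refine isRegular_of_equiv e (fun p => ?_) (K916.Bridge.isRegular_splitForm_even (m + 1))
  obtain ⟨x, t⟩ := p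
  change splitForm R (2 * (m + 1)) (Fin.cons (c.equivFun x 0 + t) (c.equivFun x) : Fin (2 * m + 1 + 1) → R) =
    hyp Q (c.coord 0) (x, t)
  rw [splitForm_cons, hyp_apply, split_apply hc, Module.Basis.coord_apply, c.equivFun_apply]
  ring

include hc in
theorem exists_unit_value : IsUnit (Q (c 0)) := by
  have h : Q (c 0) = 1 := by
    have hc0 : c.equivFun (c 0) = Pi.single (0 : Fin (2 * m + 1)) (1 : R) := by
      funext i
      rw [c.equivFun_self, Pi.single_apply, eq_comm]
      by_cases hi : i = 0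
      · rw [if_pos hi, if_pos hi.symm]
      · rw [if_neg hi, if_neg (Ne.symm hi)]
    rw [split_apply hc, hc0, splitForm_apply_range]
    have e4 : (2 * m + 1) % 2 = 1 := by omega
    have h0 : ∀ k, 0 < k → ext0 R (Pi.single (0 : Fin (2 * m + 1)) (1 : R)) k = 0 := fun k hk => by
      rw [ext0]
      split_ifs with h
      · rw [Pi.single_eq_of_ne]
        intro h'
        have := congrArg Fin.val h'
        simp at this
        omega
      · rfl
    rw [if_pos e4, Finset.sum_eq_zero fun i _ => by rw [h0 _ (by omega), zero_mul], zero_add,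
      ext0_of_lt _ 0 (by omega)]
    change (Pi.single (0 : Fin (2 * m + 1)) (1 : R) : Fin (2 * m + 1) → R) 0 *
      (Pi.single (0 : Fin (2 * m + 1)) (1 : R) : Fin (2 * m + 1) → R) 0 = 1
    rw [Pi.single_eq_same, mul_one]
  rw [h]
  exact isUnit_one

include hc in
theorem exists_unit_polar (hm : 1 ≤ m) : ∃ x y : V, IsUnit (QuadraticMap.polar Q x y) := by
  obtain ⟨T, hT⟩ := exists_dual R (2 * m + 1)
  let e : Fin (2 * m + 1) → R := Pi.single ⟨1, by omega⟩ 1
  refine ⟨c.equivFun.symm e, c.equivFun.symm (T e), ?_⟩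
  have h : QuadraticMap.polar Q (c.equivFun.symm e) (c.equivFun.symm (T e)) =
      QuadraticMap.polar (splitForm R (2 * m + 1)) e (T e) := by
    rw [QuadraticMap.polar, QuadraticMap.polar, ← map_add, split_apply hc, split_apply hc, split_apply hc,
      LinearEquiv.apply_symm_apply, LinearEquiv.apply_symm_apply, LinearEquiv.apply_symm_apply]
  have h1 : ext0 R e 0 = 0 := by
    rw [ext0_of_lt e 0 (by omega)]
    exact Pi.single_eq_of_ne (by intro h'; exact absurd (congrArg Fin.val h') (by simp)) _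
  have h2 : (∑ i, e i * e i) = 1 := by
    rw [Finset.sum_eq_single ⟨1, by omega⟩]
    · simp [e]
    · intro i _ hi
      simp [e, Pi.single_eq_of_ne hi]
    · intro h'; exact absurd (Finset.mem_univ _) h'
  rw [h, hT, h1, h2]
  simp

end Split

section Main

variable {R : Type u} [CommRing R] {M : Type u} [AddCommGroup M] [Module R M] [Module.Free R M]

/-- a faithfully flat algebra over which, and over all algebras over which, the form is split -/
theorem exists_split_all {n : ℕ} (b : Module.Basis (Fin n) R M) (Q : QuadraticForm R M)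
    (h : IsNondeg b (LinearEquiv.refl R R) Q) :
    ∃ (R' : Type u) (_ : CommRing R') (_ : Algebra R R'), Module.FaithfullyFlat R R' ∧
      ∀ (B : Type u) [CommRing B] [Algebra R B] [Algebra R' B] [IsScalarTower R R' B],
        ∃ c : Module.Basis (Fin n) B (B ⊗[R] M), IsSplitBasis c (baseChangeForm B Q) := by
  obtain ⟨R', _, _, hff, hfp, X, hX, hXc⟩ := K917.Cover.exists_cover (K917.Cover.cfb b Q)
    (K917.Cover.geomRad_of_isNondeg b Q h)
  refine ⟨R', inferInstance, inferInstance, hff, ?_⟩
  intro B _ _ _ _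
  obtain ⟨c, hc, -⟩ := K917.Cover.exists_isSplitBasis_of_matrix (b.baseChange B) (baseChangeForm B Q)
    (X.map (algebraMap R' B)) (by
      have := RingHom.map_det (algebraMap R' B) X
      rw [RingHom.mapMatrix_apply] at this
      rw [← this]
      exact hX.map _) (by
      rw [K917.Cover.cfb, K917.Base.coeffs_baseChangeForm]
      have h1 : (algebraMap R' B) ∘ _ = (algebraMap R' B) ∘ _ := congrArg (fun z => (algebraMap R' B) ∘ z) hXc
      rw [K917.Coef.map_pull, K917.Coef.map_sc, ← Function.comp_assoc] at h1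
      have h2 : (algebraMap R' B) ∘ (algebraMap R R') = algebraMap R B := by
        rw [IsScalarTower.algebraMap_eq R R' B]; rfl
      rw [h2] at h1
      exact h1)
  exact ⟨c, hc⟩

/-- **The Clifford group of a semiregular form of odd rank is smooth.** -/
theorem smooth_gpin_odd (m : ℕ) [Module.Finite R M] (bM : Module.Basis (Fin (2 * m + 1)) R M) (Q : QuadraticForm R M)
    (hQ : IsSemiregular bM (LinearEquiv.refl R R) Q) (G : Over (Spec (CommRingCat.of R))) [GrpObj G]
    (D : GPinRep Q G) : AlgebraicGeometry.Smooth G.hom := by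
  have h := Pts.affine_lfp_of_cliffRep (Q := Q) false (fun A _ _ => gpin Q A)
    (fun A _ _ u => ⟨fun h => ⟨h, fun h' => absurd h' (by decide)⟩, fun h => h.1⟩) G D
  have hnd : IsNondeg bM (LinearEquiv.refl R R) Q :=
    ⟨fun h => absurd h (Nat.not_even_iff_odd.2 (odd_two_mul_add_one m)), fun _ => hQ⟩
  obtain ⟨R', _, _, hff, hsp⟩ := exists_split_all bM Q hnd
  refine Pts.smooth_of_lift D h.2 R' ?_
  intro B _ _ _ _ _ I hI u hu
  obtain ⟨c, hc⟩ := hsp B
  obtain ⟨w, hw, hwu⟩ := Thick.exists_lift_GPin (bM.baseChange B) (bM.baseChange (B ⧸ I)) (Pts.ff_basis B I bM)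
    (Pts.ff_compat B I Q) (Pts.surj_mk B I) (Pts.sq_zero B hI) (c.coord 0)
    (by rw [show 2 * m + 1 + 1 = 2 * (m + 1) by ring]; exact even_two_mul _) (isRegular_hyp c hc) (c 0)
    (exists_unit_value c hc) u hu
  exact ⟨w, hw, by rw [Pts.F_eq_cmap, hwu]⟩

/-- **The Pin group of a semiregular form of odd rank at least three is smooth.** -/
theorem smooth_pin_odd (m : ℕ) (hm : 1 ≤ m) [Module.Finite R M] (bM : Module.Basis (Fin (2 * m + 1)) R M)
    (Q : QuadraticForm R M) (hQ : IsSemiregular bM (LinearEquiv.refl R R) Q)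
    (G : Over (Spec (CommRingCat.of R))) [GrpObj G] (D : PinRep Q G) : AlgebraicGeometry.Smooth G.hom := by
  have h := Pts.affine_lfp_of_cliffRep (Q := Q) true (fun A _ _ => QuadGrp.pin Q A)
    (fun A _ _ u => ⟨fun h => ⟨h.1, fun _ => h.2⟩, fun h => ⟨h.1, h.2 rfl⟩⟩) G D
  have hnd : IsNondeg bM (LinearEquiv.refl R R) Q :=
    ⟨fun h => absurd h (Nat.not_even_iff_odd.2 (odd_two_mul_add_one m)), fun _ => hQ⟩
  obtain ⟨R', _, _, hff, hsp⟩ := exists_split_all bM Q hnd
  refine Pts.smooth_of_lift D h.2 R' ?_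
  intro B _ _ _ _ _ I hI u hu
  obtain ⟨c, hc⟩ := hsp B
  obtain ⟨x, y, hxy⟩ := exists_unit_polar c hc hm
  obtain ⟨w, hw, hwu⟩ := Thick.exists_lift_Pin (bM.baseChange B) (bM.baseChange (B ⧸ I)) (Pts.ff_basis B I bM)
    (Pts.ff_compat B I Q) (Pts.surj_mk B I) (Pts.sq_zero B hI) (c.coord 0)
    (by rw [show 2 * m + 1 + 1 = 2 * (m + 1) by ring]; exact even_two_mul _) (isRegular_hyp c hc) (c 0)
    (exists_unit_value c hc) x y hxy u hu
  exact ⟨w, hw, by rw [Pts.F_eq_cmap, hwu]⟩

end Main

end K918.Odd
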