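import Groth.Prelude.Def_QuadGrp
import Mathlib.Tactic.NoncommRing

/-!
# The split form in even rank: explicit values and the element `w = ∏ (1 - 2 e_{2i} e_{2i+1})`
-/

set_option autoImplicit false
universe u v

namespace K918.SplitEven

open QuadGrp CliffordAlgebra

section Forms

variable (R : Type u) [CommRing R]

theorem splitForm_apply (n : ℕ) (x : Fin n → R) :
    splitForm R n x = (∑ i : Fin (n / 2), x ⟨2 * i + n % 2, by omega⟩ * x ⟨2 * i + 1 + n % 2, by omega⟩) +
      (if h : n % 2 = 1 then x ⟨0, by omega⟩ * x ⟨0, by omega⟩ else 0) := by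
  unfold splitForm
  rw [add_apply, sum_apply]
  congr 1
  split_ifs with h
  · rfl
  · rfl

/-- the split form in even rank, with the coordinates indexed by pairs -/
theorem splitForm_even_apply (m : ℕ) (x : Fin (m * 2) → R) :
    splitForm R (m * 2) x = ∑ i : Fin m, x (finProdFinEquiv (i, 0)) * x (finProdFinEquiv (i, 1)) := by
  rw [splitForm_apply, dif_neg (by omega), add_zero]
  have h : m * 2 / 2 = m := by omega
  rw [← (finCongr h).sum_comp]
  refine Finset.sum_congr rfl fun i _ => ?_
  congr 2
  · apply Fin.ext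
    simp [finProdFinEquiv]
  · apply Fin.ext
    simp only [finProdFinEquiv, Equiv.coe_fn_mk, finCongr_apply, Fin.val_cast, Fin.val_one]
    omega

theorem polar_splitForm_even (m : ℕ) (x y : Fin (m * 2) → R) :
    QuadraticMap.polar (splitForm R (m * 2)) x y = ∑ i : Fin m,
      (x (finProdFinEquiv (i, 0)) * y (finProdFinEquiv (i, 1)) +
        y (finProdFinEquiv (i, 0)) * x (finProdFinEquiv (i, 1))) := by
  rw [QuadraticMap.polar, splitForm_even_apply, splitForm_even_apply, splitForm_even_apply,
    ← Finset.sum_sub_distrib, ← Finset.sum_sub_distrib]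
  refine Finset.sum_congr rfl fun i _ => ?_
  simp only [Pi.add_apply]
  ring

lemma single_pair (m : ℕ) (a c : Fin m) (α γ : Fin 2) :
    (Pi.single (finProdFinEquiv (a, α)) (1 : R) : Fin (m * 2) → R) (finProdFinEquiv (c, γ)) =
      if a = c ∧ α = γ then 1 else 0 := by
  rw [Pi.single_apply]
  simp only [EmbeddingLike.apply_eq_iff_eq, Prod.mk.injEq]
  congr 1
  exact propext ⟨fun h => ⟨h.1.symm, h.2.symm⟩, fun h => ⟨h.1.symm, h.2.symm⟩⟩

lemma splitForm_single (m : ℕ) (a : Fin m) (α : Fin 2) :
    splitForm R (m * 2) (Pi.single (finProdFinEquiv (a, α)) 1) = 0 := by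
  rw [splitForm_even_apply]
  apply Finset.sum_eq_zero
  intro i _
  rw [single_pair, single_pair]
  fin_cases α <;> simp

lemma polar_single (m : ℕ) (a c : Fin m) (α γ : Fin 2) :
    QuadraticMap.polar (splitForm R (m * 2)) (Pi.single (finProdFinEquiv (a, α)) 1)
      (Pi.single (finProdFinEquiv (c, γ)) 1) = if a = c ∧ α ≠ γ then 1 else 0 := by
  rw [polar_splitForm_even]
  simp only [single_pair]
  by_cases hac : a = c
  · subst hac
    rw [Finset.sum_eq_single a]
    · fin_cases α <;> fin_cases γ <;> simp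
    · intro i _ hi
      simp [Ne.symm hi]
    · intro h
      exact absurd (Finset.mem_univ _) h
  · simp only [hac, false_and, if_false]
    apply Finset.sum_eq_zero
    intro i _
    by_cases h1 : a = i
    · subst h1
      simp [Ne.symm hac]
    · simp [h1]

end Forms

section Clifford

variable (R : Type u) [CommRing R] (m : ℕ)

/-- standard generators -/
noncomputable def e (p : Fin m × Fin 2) : CliffordAlgebra (splitForm R (m * 2)) :=
  ι (splitForm R (m * 2)) (Pi.single (finProdFinEquiv p) 1)

lemma e_sq (p : Fin m × Fin 2) : e R m p * e R m p = 0 := by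
  obtain ⟨a, α⟩ := p
  rw [e, ι_sq_scalar, splitForm_single, map_zero]

lemma e_anti (a c : Fin m) (α γ : Fin 2) (h : a ≠ c) :
    e R m (a, α) * e R m (c, γ) = - (e R m (c, γ) * e R m (a, α)) := by
  have := ι_mul_ι_add_swap (Q := splitForm R (m * 2)) (Pi.single (finProdFinEquiv (a, α)) 1)
    (Pi.single (finProdFinEquiv (c, γ)) 1)
  rw [polar_single, if_neg (fun h' => h h'.1), map_zero] at this
  exact eq_neg_of_add_eq_zero_left this

lemma e_pair (a : Fin m) : e R m (a, 0) * e R m (a, 1) + e R m (a, 1) * e R m (a, 0) = 1 := by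
  have := ι_mul_ι_add_swap (Q := splitForm R (m * 2)) (Pi.single (finProdFinEquiv (a, 0)) 1)
    (Pi.single (finProdFinEquiv (a, 1)) 1)
  rw [polar_single, if_pos (by simp), map_one] at this
  exact this

/-- the factor `1 - 2 e_{2a} e_{2a+1}` -/
noncomputable def wf (a : Fin m) : CliffordAlgebra (splitForm R (m * 2)) :=
  1 - 2 * (e R m (a, 0) * e R m (a, 1))

lemma wf_sq (a : Fin m) : wf R m a * wf R m a = 1 := by
  have h1 := e_pair R m a
  have h2 := e_sq R m (a, 0)
  set x := e R m (a, 0)
  set y := e R m (a, 1)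
  have h3 : x * y * (x * y) = x * y := by
    have : y * x = 1 - x * y := eq_sub_of_add_eq' h1
    calc x * y * (x * y) = x * (y * x) * y := by noncomm_ring
      _ = x * y - (x * x) * (y * y) := by rw [this]; noncomm_ring
      _ = x * y := by rw [h2, zero_mul, sub_zero]
  unfold wf
  change (1 - 2 * (x * y)) * (1 - 2 * (x * y)) = 1
  calc (1 - 2 * (x * y)) * (1 - 2 * (x * y)) = 1 - 4 * (x * y) + 4 * (x * y * (x * y)) := by
        noncomm_ring
    _ = 1 := by rw [h3]; noncomm_ring

lemma wf_comm_e (a c : Fin m) (γ : Fin 2) (h : a ≠ c) :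
    Commute (e R m (c, γ)) (wf R m a) := by
  have h0 := e_anti R m c a γ 0 (Ne.symm h)
  have h1 := e_anti R m c a γ 1 (Ne.symm h)
  have h2 : Commute (e R m (c, γ)) (e R m (a, 0) * e R m (a, 1)) := by
    change _ * _ = _ * _
    rw [← mul_assoc, h0, neg_mul, mul_assoc, h1, mul_neg, neg_neg, mul_assoc]
  unfold wf
  exact (Commute.one_right _).sub_right ((Commute.ofNat_right _ 2).mul_right h2)

lemma wf_anti_e (a : Fin m) (γ : Fin 2) : e R m (a, γ) * wf R m a = - (wf R m a * e R m (a, γ)) := by
  have h1 := e_pair R m a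
  have h2 := e_sq R m (a, 0)
  have h3 := e_sq R m (a, 1)
  unfold wf
  set x := e R m (a, 0)
  set y := e R m (a, 1)
  have h4 : y * x = 1 - x * y := eq_sub_of_add_eq' h1
  fin_cases γ
  · change x * (1 - 2 * (x * y)) = -((1 - 2 * (x * y)) * x)
    calc x * (1 - 2 * (x * y)) = x - 2 * ((x * x) * y) := by noncomm_ring
      _ = x := by rw [h2]; noncomm_ring
      _ = -x + 2 * x * 1 := by noncomm_ring
      _ = -x + 2 * x * (y * x) := by rw [h4]; rw [mul_sub, mul_assoc 2 x (x * y), ← mul_assoc x x, h2]; noncomm_ring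
      _ = -((1 - 2 * (x * y)) * x) := by noncomm_ring
  · change y * (1 - 2 * (x * y)) = -((1 - 2 * (x * y)) * y)
    calc y * (1 - 2 * (x * y)) = y - 2 * (y * x) * y := by noncomm_ring
      _ = -y + 2 * x * (y * y) := by rw [h4]; noncomm_ring
      _ = -((1 - 2 * (x * y)) * y) := by rw [h3]; noncomm_ring; rw [h3]; simp

lemma wf_comm (a c : Fin m) : Commute (wf R m a) (wf R m c) := by
  by_cases h : a = c
  · subst h; exact Commute.refl _
  · have h0 := wf_comm_e R m c a 0 (Ne.symm h)
    have h1 := wf_comm_e R m c a 1 (Ne.symm h)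
    rw [wf]
    exact (Commute.one_left _).sub_left ((Commute.ofNat_left 2 _).mul_left (h0.mul_left h1))

lemma prod_sq (l : List (Fin m)) : (l.map (wf R m)).prod * (l.map (wf R m)).prod = 1 := by
  induction l with
  | nil => simp
  | cons a l ih =>
    have h : Commute (wf R m a) (l.map (wf R m)).prod := by
      apply Commute.list_prod_right
      intro x hx
      obtain ⟨c, _, rfl⟩ := List.mem_map.1 hx
      exact wf_comm R m a c
    rw [List.map_cons, List.prod_cons]
    calc wf R m a * (l.map (wf R m)).prod * (wf R m a * (l.map (wf R m)).prod)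
        = wf R m a * ((l.map (wf R m)).prod * wf R m a) * (l.map (wf R m)).prod := by noncomm_ring
      _ = (wf R m a * wf R m a) * ((l.map (wf R m)).prod * (l.map (wf R m)).prod) := by
        rw [← h.eq]; noncomm_ring
      _ = 1 := by rw [wf_sq, ih, one_mul]

lemma comm_prod (l : List (Fin m)) (c : Fin m) (γ : Fin 2) (h : c ∉ l) :
    Commute (e R m (c, γ)) (l.map (wf R m)).prod := by
  apply Commute.list_prod_right
  intro x hx
  obtain ⟨a, ha, rfl⟩ := List.mem_map.1 hx
  exact wf_comm_e R m a c γ (fun h' => h (h' ▸ ha))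

lemma anti_prod (l : List (Fin m)) (hl : l.Nodup) (c : Fin m) (γ : Fin 2) (h : c ∈ l) :
    e R m (c, γ) * (l.map (wf R m)).prod = - ((l.map (wf R m)).prod * e R m (c, γ)) := by
  induction l with
  | nil => simp at h
  | cons a l ih =>
    rw [List.nodup_cons] at hl
    rw [List.map_cons, List.prod_cons]
    by_cases hc : c = a
    · subst hc
      rw [← mul_assoc, wf_anti_e, neg_mul, mul_assoc, (comm_prod R m l c γ hl.1).eq, mul_assoc]
    · have h' : c ∈ l := (List.mem_cons.1 h).resolve_left hc
      rw [← mul_assoc, (wf_comm_e R m a c γ (Ne.symm hc)).eq, mul_assoc, ih hl.2 h', mul_neg, mul_assoc]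

end Clifford

end K918.SplitEven
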