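import Groth.Agent.QuadGrp.K918.Emb2

/-!
# Lifting of elements of the Clifford group and of the Pin group along square-zero thickenings, odd rank

The quadratic module is embedded as `v₀^⊥` in a regular one of even rank.
-/

set_option autoImplicit false
universe u v w u'

namespace K918.Thick

open CliffordAlgebra QuadGrp K916.BC K918.Cliff K918.Emb

section Ker

variable {A : Type u} [CommRing A] {A' : Type u'} [CommRing A'] [Algebra A A'] {V : Type v} [AddCommGroup V]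
  [Module A V] {V' : Type w} [AddCommGroup V'] [Module A V'] [Module A' V'] [IsScalarTower A A' V'] {n : ℕ}
  (b : Module.Basis (Fin n) A V) (b' : Module.Basis (Fin n) A' V') {Q : QuadraticForm A V}
  {Q' : QuadraticForm A' V'} {f : V →ₗ[A] V'} (hf : ∀ i, f (b i) = b' i) (hfQ : Compat A' Q Q' f)
  (hs : Function.Surjective (algebraMap A A'))
  (hI : ∀ x y : A, algebraMap A A' x = 0 → algebraMap A A' y = 0 → x * y = 0)

include b b' hf hI in
theorem smul_of_ker {c : A} (hc : algebraMap A A' c = 0) {v : V} (hv : f v = 0) : c • v = 0 := by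
  rw [← b.sum_repr v, Finset.smul_sum]
  refine Finset.sum_eq_zero fun i _ => ?_
  rw [smul_smul, hI _ _ hc (by rw [← repr_f b b' hf, hv, map_zero]; rfl), zero_smul]

include b b' hf hI in
/-- the kernel of `C(Q) → C(Q')` has square zero -/
theorem mul_of_ker {y z : CliffordAlgebra Q} (hy : cmap hfQ y = 0) (hz : cmap hfQ z = 0) : y * z = 0 := by
  obtain ⟨B₀⟩ := K916.Basic.exists_basis Q b
  let B := B₀.reindex (Fintype.equivFin (Finset (Fin n)))
  let B' : Module.Basis (Fin (Fintype.card (Finset (Fin n)))) A' (CliffordAlgebra Q') :=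
    (B.baseChange A').map (equivBC (isBC b b' hf hfQ)).toLinearEquiv
  have hB : ∀ i, (cmap hfQ).toLinearMap (B i) = B' i := fun i => by
    change cmap hfQ (B i) = equivBC (isBC b b' hf hfQ) (B.baseChange A' i)
    rw [Module.Basis.baseChange_apply, equivBC_tmul, one_smul]
  have hy' : ∀ i, algebraMap A A' (B.repr y i) = 0 := fun i => by
    rw [← repr_f B B' hB]
    change B'.repr (cmap hfQ y) i = 0
    rw [hy, map_zero]; rfl
  have hz' : ∀ i, algebraMap A A' (B.repr z i) = 0 := fun i => by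
    rw [← repr_f B B' hB]
    change B'.repr (cmap hfQ z) i = 0
    rw [hz, map_zero]; rfl
  rw [← B.sum_repr y, ← B.sum_repr z, Finset.sum_mul]
  refine Finset.sum_eq_zero fun i _ => ?_
  rw [Finset.mul_sum]
  refine Finset.sum_eq_zero fun k _ => ?_
  rw [smul_mul_smul_comm, hI _ _ (hy' i) (hz' k), zero_smul]

variable (a δ : V) (hδ : f δ = 0)

include hδ in
theorem cmap_e : cmap hfQ (ι Q a * ι Q δ) = 0 := by
  rw [map_mul, cmap_ι, cmap_ι, hδ, map_zero, mul_zero]

/-- the unit `1 + a δ` -/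
noncomputable def thickUnit : (CliffordAlgebra Q)ˣ where
  val := 1 + ι Q a * ι Q δ
  inv := 1 - ι Q a * ι Q δ
  val_inv := by
    have h := mul_of_ker b b' hf hfQ hI (cmap_e hfQ a δ hδ) (cmap_e hfQ a δ hδ)
    rw [add_mul, one_mul, mul_sub, mul_one, h]
    abel
  inv_val := by
    have h := mul_of_ker b b' hf hfQ hI (cmap_e hfQ a δ hδ) (cmap_e hfQ a δ hδ)
    rw [sub_mul, one_mul, mul_add, mul_one, h]
    abel

theorem thickUnit_val : (thickUnit b b' hf hfQ hI a δ hδ : CliffordAlgebra Q) = 1 + ι Q a * ι Q δ := rfl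

theorem thickUnit_even : (thickUnit b b' hf hfQ hI a δ hδ : CliffordAlgebra Q) ∈ evenOdd Q 0 :=
  Submodule.add_mem _ (SetLike.one_mem_graded _) (ι_mul_ι_mem_evenOdd_zero Q a δ)

theorem cmap_thickUnit : cmap hfQ (thickUnit b b' hf hfQ hI a δ hδ : CliffordAlgebra Q) = 1 := by
  rw [thickUnit_val, map_add, map_one, cmap_e hfQ a δ hδ, add_zero]

/-- conjugation by `1 + a δ` -/
theorem thickUnit_conj (x : V) : (thickUnit b b' hf hfQ hI a δ hδ : CliffordAlgebra Q) * ι Q x =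
    ι Q (x + QuadraticMap.polar Q δ x • a - QuadraticMap.polar Q a x • δ) *
      (thickUnit b b' hf hfQ hI a δ hδ : CliffordAlgebra Q) := by
  have hpol : algebraMap A A' (QuadraticMap.polar Q δ x) = 0 := by
    rw [← hfQ.polar, hδ, QuadraticMap.polar_zero_left]
  have hιδ : cmap hfQ (ι Q δ) = 0 := by rw [cmap_ι, hδ, map_zero]
  have k1 : QuadraticMap.polar Q δ x • ι Q δ = 0 := by
    rw [← map_smul, smul_of_ker b b' hf hI hpol hδ, map_zero]
  have k2 : ι Q δ * (ι Q a * ι Q δ) = 0 := by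
    rw [← mul_assoc]
    exact mul_of_ker b b' hf hfQ hI (by rw [map_mul, hιδ, zero_mul]) hιδ
  have e1 : ι Q δ * ι Q x = QuadraticMap.polar Q δ x • 1 - ι Q x * ι Q δ := by
    rw [eq_sub_iff_add_eq, ι_mul_ι_add_swap, Algebra.algebraMap_eq_smul_one]
  have e2 : ι Q a * ι Q x = QuadraticMap.polar Q a x • 1 - ι Q x * ι Q a := by
    rw [eq_sub_iff_add_eq, ι_mul_ι_add_swap, Algebra.algebraMap_eq_smul_one]
  rw [thickUnit_val, map_sub, map_add, map_smul, map_smul, add_mul, one_mul, mul_add, mul_one, mul_assoc, e1, mul_sub,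
    mul_smul_comm, mul_one, ← mul_assoc, e2, sub_mul, smul_mul_assoc, one_mul]
  have e3 : (ι Q x + QuadraticMap.polar Q δ x • ι Q a - QuadraticMap.polar Q a x • ι Q δ) * (ι Q a * ι Q δ) =
      ι Q x * ι Q a * ι Q δ := by
    rw [sub_mul, add_mul, smul_mul_assoc, smul_mul_assoc, k2, smul_zero, sub_zero, ← mul_assoc (ι Q a),
      ι_sq_scalar, ← Algebra.smul_def, smul_comm, k1, smul_zero, add_zero, mul_assoc]
  rw [e3]
  abel

theorem thickUnit_mem : thickUnit b b' hf hfQ hI a δ hδ ∈ GPin' Q := by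
  rw [mem_GPin'_iff]
  refine ⟨fun x => ⟨_, thickUnit_conj b b' hf hfQ hI a δ hδ x⟩, fun y => ?_⟩
  have hδ' : f (-δ) = 0 := by rw [map_neg, hδ, neg_zero]
  have h := thickUnit_conj b b' hf hfQ hI a (-δ) hδ' y
  have e : (thickUnit b b' hf hfQ hI a (-δ) hδ' : CliffordAlgebra Q) =
      ↑(thickUnit b b' hf hfQ hI a δ hδ)⁻¹ := by
    change 1 + ι Q a * ι Q (-δ) = 1 - ι Q a * ι Q δ
    rw [map_neg, mul_neg, sub_eq_add_neg]
  rw [e] at h
  refine ⟨y + QuadraticMap.polar Q (-δ) y • a - QuadraticMap.polar Q a y • -δ, ?_⟩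
  calc _ = (thickUnit b b' hf hfQ hI a δ hδ : CliffordAlgebra Q) *
          (ι Q (y + QuadraticMap.polar Q (-δ) y • a - QuadraticMap.polar Q a y • -δ) *
            ↑(thickUnit b b' hf hfQ hI a δ hδ)⁻¹) * thickUnit b b' hf hfQ hI a δ hδ := by
          rw [mul_assoc, mul_assoc, Units.inv_mul, mul_one]
    _ = _ := by rw [← h, ← mul_assoc, Units.mul_inv, one_mul]

end Ker

section Ext

variable {A : Type u} [CommRing A] {A' : Type u'} [CommRing A'] [Algebra A A'] {V : Type v} [AddCommGroup V]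
  [Module A V] {V' : Type w} [AddCommGroup V'] [Module A V'] [Module A' V'] [IsScalarTower A A' V'] {n : ℕ}
  (b : Module.Basis (Fin n) A V) (b' : Module.Basis (Fin n) A' V') {Q : QuadraticForm A V}
  {Q' : QuadraticForm A' V'} {f : V →ₗ[A] V'} (hf : ∀ i, f (b i) = b' i) (hfQ : Compat A' Q Q' f)
  (hs : Function.Surjective (algebraMap A A'))
  (hI : ∀ x y : A, algebraMap A A' x = 0 → algebraMap A A' y = 0 → x * y = 0)
  (φ : V →ₗ[A] A) (φ' : V' →ₗ[A'] A') (hφ : ∀ v, φ' (f v) = algebraMap A A' (φ v))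

/-- the map `V × A → V' × A'` -/
noncomputable def f₂ (f : V →ₗ[A] V') : V × A →ₗ[A] V' × A' := f.prodMap (Algebra.linearMap A A')

omit [Module A' V'] [IsScalarTower A A' V'] in
theorem f₂_apply (p : V × A) : f₂ (A' := A') f p = (f p.1, algebraMap A A' p.2) := rfl

omit [IsScalarTower A A' V'] in
include hf in
theorem hf₂ (i : Fin (n + 1)) : f₂ f (bW b i) = bW b' i := by
  refine Fin.cases ?_ (fun k => ?_) i
  · rw [bW_zero, bW_zero, f₂_apply, map_zero, map_one]
  · rw [bW_succ, bW_succ, f₂_apply, map_zero, hf]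

omit [IsScalarTower A A' V'] in
include hfQ hφ in
theorem hfQ₂ : Compat A' (hyp Q φ) (hyp Q' φ') (f₂ f) := by
  rintro ⟨x, t⟩
  change hyp Q' φ' (f x, algebraMap A A' t) = algebraMap A A' (hyp Q φ (x, t))
  rw [hyp_apply, hyp_apply, hφ, map_add, map_mul, ← hfQ x]

include b b' hf in
theorem f₂_v₀ (hs : Function.Surjective (algebraMap A A')) (hfQ₂ : Compat A' (hyp Q φ) (hyp Q' φ') (f₂ f))
    (hq : IsRegular (hyp Q φ)) (hq' : IsRegular (hyp Q' φ')) : f₂ f (v₀ b hq) = v₀ b' hq' := by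
  apply hq'.1
  apply LinearMap.ext
  intro p'
  obtain ⟨p, rfl⟩ := surj_f (bW b) (bW b') (hf₂ b b' hf) hs p'
  change QuadraticMap.polar (hyp Q' φ') (f₂ f (v₀ b hq)) (f₂ f p) = QuadraticMap.polar (hyp Q' φ') (v₀ b' hq') (f₂ f p)
  rw [hfQ₂.polar, polar_v₀, polar_v₀]
  rfl

theorem cmap_j (hfQ₂ : Compat A' (hyp Q φ) (hyp Q' φ') (f₂ f)) (x : CliffordAlgebra Q) :
    cmap hfQ₂ (j Q φ x) = j Q' φ' (cmap hfQ x) := by
  induction x using CliffordAlgebra.induction with
  | algebraMap r =>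
    rw [AlgHom.commutes, cmap_algebraMap, cmap_algebraMap, AlgHom.commutes]
  | ι m =>
    rw [j_ι, cmap_ι, cmap_ι, j_ι]
    congr 1
    rw [f₂_apply, map_zero]
  | mul a b ha hb => rw [map_mul, map_mul, map_mul, map_mul, ha, hb]
  | add a b ha hb => rw [map_add, map_add, map_add, map_add, ha, hb]

include hI in
theorem nontrivial_of_ker [Nontrivial A] : Nontrivial A' := by
  by_contra h
  rw [not_nontrivial_iff_subsingleton] at h
  have h1 := hI 1 1 (Subsingleton.elim _ _) (Subsingleton.elim _ _)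
  rw [mul_one] at h1
  exact one_ne_zero h1

/-- a locally homogeneous element over a local ring is homogeneous -/
theorem homog_of_local [IsLocalRing A] {x : CliffordAlgebra Q} (hx : IsLocHomog Q x) :
    x ∈ evenOdd Q 0 ∨ x ∈ evenOdd Q 1 := by
  obtain ⟨e, he, h0, h1⟩ := hx
  have he' : e * (1 - e) = 0 := by rw [mul_sub, mul_one, he.eq, sub_self]
  rcases IsLocalRing.isUnit_or_isUnit_one_sub_self e with h | h
  · left
    have : e = 1 := by
      rw [h.mul_right_eq_zero, sub_eq_zero] at he'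
      exact he'.symm
    rwa [this, one_smul] at h0
  · right
    have : e = 0 := by
      rwa [h.mul_left_eq_zero] at he'
    rwa [this, sub_zero, one_smul] at h1

include hf hs hI in
/-- **The even Clifford group lifts**, for a form which is a hyperplane in a regular form of even rank. -/
theorem exists_lift_even [IsLocalRing A] (hn : Even (n + 1)) (hq : IsRegular (hyp Q φ)) (u : (CliffordAlgebra Q')ˣ)
    (hu : u ∈ GPin' Q') (hu0 : (u : CliffordAlgebra Q') ∈ evenOdd Q' 0) :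
    ∃ w : (CliffordAlgebra Q)ˣ, w ∈ GPin' Q ∧ (w : CliffordAlgebra Q) ∈ evenOdd Q 0 ∧
      cmap hfQ (w : CliffordAlgebra Q) = u := by
  have hV : Module.Free A V := Module.Free.of_basis b
  have hV' : Module.Free A' V' := Module.Free.of_basis b'
  have hW : Module.Free A (V × A) := Module.Free.of_basis (bW b)
  have hW' : Module.Free A' (V' × A') := Module.Free.of_basis (bW b')
  let φ' : V' →ₗ[A'] A' := b'.constr A' fun i => algebraMap A A' (φ (b i))
  have hφ : ∀ v, φ' (f v) = algebraMap A A' (φ v) := by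
    have : (φ'.restrictScalars A) ∘ₗ f = (Algebra.linearMap A A') ∘ₗ φ := by
      apply b.ext
      intro i
      change φ' (f (b i)) = algebraMap A A' (φ (b i))
      rw [hf]
      exact Module.Basis.constr_basis _ _ _ _
    exact fun v => DFunLike.congr_fun this v
  have hfQ₂' : Compat A' (hyp Q φ) (hyp Q' φ') (f₂ f) := hfQ₂ hfQ φ φ' hφ
  have hf₂' := hf₂ b b' hf
  have hq' : IsRegular (hyp Q' φ') := regular' (bW b) (bW b') hf₂' hfQ₂' hq
  have hA' : Nontrivial A' := nontrivial_of_ker hI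
  let U : (CliffordAlgebra (hyp Q' φ'))ˣ := Units.map (j Q' φ' : CliffordAlgebra Q' →* CliffordAlgebra (hyp Q' φ')) u
  have hU : U ∈ GPin' (hyp Q' φ') := mem_GPin'_j b' hq' u hu hu0
  have hU0 : (U : CliffordAlgebra (hyp Q' φ')) ∈ evenOdd (hyp Q' φ') 0 := j_mem_evenOdd hu0
  obtain ⟨w₁, hw₁, hw₁U⟩ := exists_lift_GPin' (bW b) (bW b') hf₂' hfQ₂' hs hI hn hq U hU
  have hw₁0 : (w₁ : CliffordAlgebra (hyp Q φ)) ∈ evenOdd (hyp Q φ) 0 := by
    have hw := (mem_GPin'_iff w₁).1 hw₁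
    rcases homog_of_local (isLocHomog_of_normalises (bW b) hq hn w₁.isUnit hw.1 hw.2) with h | h
    · exact h
    · exfalso
      have h1 := cmap_mem_evenOdd hfQ₂' 1 h
      rw [hw₁U] at h1
      have h2 := eq_zero_of_mem_evenOdd hU0 h1
      have : Nontrivial (CliffordAlgebra (hyp Q' φ')) := K916.Basic.nontrivial _
      exact U.ne_zero h2
  obtain ⟨g, hg, hgw⟩ := exists_isometry_of_mem_GPin' w₁ hw₁
  set v := v₀ b hq with hv
  have hfv : f₂ f v = v₀ b' hq' := f₂_v₀ b b' hf φ φ' hs hfQ₂' hq hq'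
  have hfgv : f₂ f (g v) = v₀ b' hq' := by
    apply K916.Basic.ι_injective (hyp Q' φ')
    have h1 := congrArg (cmap hfQ₂') (hgw v)
    rw [map_mul, map_mul, cmap_ι, cmap_ι, hw₁U, hfv] at h1
    have h2 : ι (hyp Q' φ') (v₀ b' hq') * (U : CliffordAlgebra (hyp Q' φ')) = U * ι (hyp Q' φ') (v₀ b' hq') :=
      v₀_comm b' hq' hu0
    rw [← h2] at h1
    exact (U.mul_left_inj.1 h1).symm
  have hδ : f₂ (A' := A') f (g v - v) = 0 := by rw [map_sub, hfgv, hfv, sub_self]
  set δ := g v - v with hδdef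
  have hgv : g v = v + δ := by rw [hδdef]; abel
  have hQδ : hyp Q φ δ = 0 := apply_of_ker (bW b) (bW b') hf₂' hfQ₂' hI hδ
  have hpvδ : QuadraticMap.polar (hyp Q φ) v δ = 0 := by
    have h1 : hyp Q φ (v + δ) = hyp Q φ v := by rw [← hgv]; exact hg v
    rw [QuadraticMap.map_add (hyp Q φ), hQδ, add_zero, add_eq_left] at h1
    exact h1
  have hpδδ : QuadraticMap.polar (hyp Q φ) δ δ = 0 := polar_of_ker (bW b) (bW b') hf₂' hfQ₂' hI hδ hδ
  let s := thickUnit (bW b) (bW b') hf₂' hfQ₂' hI (0, 1) δ hδ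
  have hsconj : (s : CliffordAlgebra (hyp Q φ)) * ι (hyp Q φ) (g v) = ι (hyp Q φ) v * s := by
    have h1 := thickUnit_conj (bW b) (bW b') hf₂' hfQ₂' hI (0, 1) δ hδ (g v)
    have e1 : QuadraticMap.polar (hyp Q φ) δ (g v) = 0 := by
      rw [hgv, QuadraticMap.polar_add_right, hpδδ, QuadraticMap.polar_comm, hpvδ, add_zero]
    have e2 : QuadraticMap.polar (hyp Q φ) (0, 1) (g v) • δ = δ := by
      rw [hgv, QuadraticMap.polar_add_right, QuadraticMap.polar_comm _ _ v, hv, polar_v₀, add_smul, one_smul]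
      have e3 : algebraMap A A' (QuadraticMap.polar (hyp Q φ) (0, 1) δ) = 0 := by
        rw [← hfQ₂'.polar, hδ, QuadraticMap.polar_zero_right]
      rw [smul_of_ker (bW b) (bW b') hf₂' hI e3 hδ, add_zero]
    rw [e1, e2, zero_smul, add_zero, hgv, add_sub_cancel_right, ← hgv] at h1
    exact h1
  have hw₂ : s * w₁ ∈ GPin' (hyp Q φ) :=
    (GPin' (hyp Q φ)).mul_mem (thickUnit_mem (bW b) (bW b') hf₂' hfQ₂' hI (0, 1) δ hδ) hw₁
  have hw₂0 : ((s * w₁ : (CliffordAlgebra (hyp Q φ))ˣ) : CliffordAlgebra (hyp Q φ)) ∈ evenOdd (hyp Q φ) 0 := by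
    rw [Units.val_mul]
    exact mul00 (thickUnit_even (bW b) (bW b') hf₂' hfQ₂' hI (0, 1) δ hδ) hw₁0
  have hw₂c : ι (hyp Q φ) (v₀ b hq) * ((s * w₁ : (CliffordAlgebra (hyp Q φ))ˣ) : CliffordAlgebra (hyp Q φ)) =
      ((s * w₁ : (CliffordAlgebra (hyp Q φ))ˣ) : CliffordAlgebra (hyp Q φ)) * ι (hyp Q φ) (v₀ b hq) := by
    rw [Units.val_mul, ← mul_assoc, ← hv, ← hsconj, mul_assoc, ← hgw, mul_assoc]
  obtain ⟨u₂, hu₂, hu₂0, hju₂⟩ := exists_of_comm b hq (s * w₁) hw₂ hw₂0 hw₂c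
  refine ⟨u₂, hu₂, hu₂0, ?_⟩
  apply j_injective Q' φ'
  rw [← cmap_j hfQ φ φ' hfQ₂', hju₂, Units.val_mul, map_mul,
    cmap_thickUnit (bW b) (bW b') hf₂' hfQ₂' hI (0, 1) δ hδ, one_mul, hw₁U]
  rfl

end Ext

end K918.Thick
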